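/-
Transfer of an involution `t` whose centralizer has `S` as Sylow 2-subgroup, evaluated on
the classes of a subgroup.

* `Base` : the data `t`, `S`
* `extremal` elements of a subgroup `H`: conjugates of `t` in `H` centralized inside `H` by a
  2-subgroup as large as `S`
* `index_two_of_single`, `index_two_of_count` : the two criteria
-/
import Cfsg.Agent.Lib.TwoTransfer.CenterInvolution
import Cfsg.Agent.EqLemmas

set_option autoImplicit false
set_option linter.style.haveILetI false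

namespace Cfsg.Agent.SixCentralizer

open Subgroup MulAction

variable {G : Type*} [Group G]

/-- An involution together with a Sylow 2-subgroup of its centralizer, self-normalizing there. -/
structure Base (G : Type*) [Group G] where
  t : G
  S : Subgroup G
  t_sq : t * t = 1
  t_mem : t ∈ S
  S_comm : ∀ s ∈ S, s * t = t * s
  S_two : IsPGroup 2 S
  S_syl : ∀ P : Subgroup G, IsPGroup 2 P → (∀ p ∈ P, p * t = t * p) →
    ∃ c : G, c * t = t * c ∧ ∀ p ∈ P, c * p * c⁻¹ ∈ S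
  S_self : ∀ c : G, c * t = t * c → (∀ s ∈ S, c * s * c⁻¹ ∈ S) → c ∈ S

namespace Base

variable (B : Base G)

/-- The conjugates of `t`. -/
def InD (v : G) : Prop := ∃ g : G, g * B.t * g⁻¹ = v

theorem inD_t : B.InD B.t := ⟨1, by group⟩

variable {B}

theorem InD.conj {v : G} (h : B.InD v) (g : G) : B.InD (g * v * g⁻¹) := by
  obtain ⟨k, rfl⟩ := h
  exact ⟨g * k, by group⟩

theorem InD.sq {v : G} (h : B.InD v) : v * v = 1 := by
  obtain ⟨g, rfl⟩ := h
  calc g * B.t * g⁻¹ * (g * B.t * g⁻¹) = g * (B.t * B.t) * g⁻¹ := by group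
    _ = 1 := by rw [B.t_sq]; group

theorem inD_conj_iff {v : G} (g : G) : B.InD (g * v * g⁻¹) ↔ B.InD v := by
  refine ⟨fun h => ?_, fun h => h.conj g⟩
  have := h.conj g⁻¹
  simpa [mul_assoc] using this

variable (B)

/-- A 2-subgroup centralizing a conjugate `v` of `t` moves into `S`, `v` going to `t`. -/
theorem exists_into {v : G} (hv : B.InD v) (P : Subgroup G) (hP : IsPGroup 2 P)
    (hPv : ∀ p ∈ P, p * v = v * p) :
    ∃ g : G, g * v * g⁻¹ = B.t ∧ ∀ p ∈ P, g * p * g⁻¹ ∈ B.S := by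
  obtain ⟨k, hk⟩ := hv
  have hP' : IsPGroup 2 (P.map (MulAut.conj k⁻¹).toMonoidHom) := hP.map _
  obtain ⟨c, hc, hcS⟩ := B.S_syl _ hP' (by
    rintro p ⟨q, hq, rfl⟩
    simp only [MulEquiv.coe_toMonoidHom, MulAut.conj_apply, inv_inv]
    have := hPv q hq
    rw [← hk] at this
    calc k⁻¹ * q * k * B.t = k⁻¹ * (q * (k * B.t * k⁻¹)) * k := by group
      _ = k⁻¹ * (k * B.t * k⁻¹ * q) * k := by rw [this]
      _ = B.t * (k⁻¹ * q * k) := by group)
  refine ⟨c * k⁻¹, ?_, fun p hp => ?_⟩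
  · rw [← hk]
    calc c * k⁻¹ * (k * B.t * k⁻¹) * (c * k⁻¹)⁻¹ = c * B.t * c⁻¹ := by group
      _ = B.t := by rw [hc]; group
  · have := hcS (k⁻¹ * p * k) ⟨p, hp, by simp⟩
    simpa [mul_assoc] using this

theorem two_card_le [Finite G] {v : G} (hv : B.InD v) (P : Subgroup G) (hP : IsPGroup 2 P)
    (hPv : ∀ p ∈ P, p * v = v * p) : Nat.card P ≤ Nat.card B.S := by
  obtain ⟨g, -, hg⟩ := B.exists_into hv P hP hPv
  exact Nat.card_le_card_of_injective (fun p : P => (⟨g * p * g⁻¹, hg p p.2⟩ : B.S))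
    (fun p q h => by simpa using congrArg Subtype.val h)

/-- A 2-subgroup as large as `S` centralizing a conjugate `v` of `t` is carried onto `S`. -/
theorem exists_onto [Finite G] {v : G} (hv : B.InD v) (P : Subgroup G) (hP : Nat.card P = Nat.card B.S)
    (hPv : ∀ p ∈ P, p * v = v * p) :
    ∃ g : G, g * v * g⁻¹ = B.t ∧ (∀ p ∈ P, g * p * g⁻¹ ∈ B.S) ∧ ∀ s ∈ B.S, g⁻¹ * s * g ∈ P := by
  haveI : Fact (Nat.Prime 2) := ⟨Nat.prime_two⟩
  obtain ⟨k, hk⟩ := IsPGroup.iff_card.mp B.S_two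
  obtain ⟨g, hg, hgS⟩ := B.exists_into hv P (IsPGroup.of_card (n := k) (by rw [hP, hk])) hPv
  refine ⟨g, hg, hgS, fun s hs => ?_⟩
  have hinj : Function.Injective (fun p : P => (⟨g * p * g⁻¹, hgS p p.2⟩ : B.S)) :=
    fun p q h => by simpa using congrArg Subtype.val h
  obtain ⟨p, hp⟩ := ((Nat.bijective_iff_injective_and_card _).mpr ⟨hinj, hP⟩).2 ⟨s, hs⟩
  have e : g * p * g⁻¹ = s := congrArg Subtype.val hp
  rw [← e]
  simp [mul_assoc]

/-- Two elements of `S` conjugate in the centralizer of `t`, both centralized by `S`, are equal. -/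
theorem eq_of_conj_center [Finite G] {u c : G} (hu : ∀ s ∈ B.S, s * u = u * s) (hc : c * B.t = B.t * c)
    (hcu : ∀ s ∈ B.S, s * (c * u * c⁻¹) = (c * u * c⁻¹) * s) : c * u * c⁻¹ = u := by
  haveI : Fact (Nat.Prime 2) := ⟨Nat.prime_two⟩
  -- the centralizer of `u` and `t`
  let K : Subgroup G := Subgroup.centralizer {B.t, u}
  have hK : ∀ g, g ∈ K ↔ g * B.t = B.t * g ∧ g * u = u * g := fun g => by
    constructor
    · intro h
      exact ⟨(mem_centralizer_iff.mp h _ (by simp)).symm, (mem_centralizer_iff.mp h _ (by simp)).symm⟩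
    · rintro ⟨h1, h2⟩
      refine mem_centralizer_iff.mpr fun x hx => ?_
      rcases hx with rfl | rfl
      exacts [h1.symm, h2.symm]
  have hSK : B.S ≤ K := fun s hs => (hK s).mpr ⟨B.S_comm s hs, hu s hs⟩
  have hct : c⁻¹ * B.t = B.t * c⁻¹ := by
    calc c⁻¹ * B.t = c⁻¹ * (B.t * c) * c⁻¹ := by group
      _ = c⁻¹ * (c * B.t) * c⁻¹ := by rw [hc]
      _ = B.t * c⁻¹ := by group
  let T : Subgroup G := B.S.map (MulAut.conj c⁻¹).toMonoidHom
  have hTK : T ≤ K := by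
    rintro x ⟨s, hs, rfl⟩
    simp only [MulEquiv.coe_toMonoidHom, MulAut.conj_apply, inv_inv]
    refine (hK _).mpr ⟨?_, ?_⟩
    · have h2 := B.S_comm s hs
      exact ((Commute.mul_left (show Commute c⁻¹ B.t from hct) (show Commute s B.t from h2)).mul_left
        (show Commute c B.t from hc))
    · calc c⁻¹ * s * c * u = c⁻¹ * (s * (c * u * c⁻¹)) * c := by group
        _ = c⁻¹ * (c * u * c⁻¹ * s) * c := by rw [hcu s hs]
        _ = u * (c⁻¹ * s * c) := by group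
  obtain ⟨P, hP⟩ := (B.S_two.comap_of_injective K.subtype K.subtype_injective).exists_le_sylow
  obtain ⟨Q, hQ⟩ := ((B.S_two.map (MulAut.conj c⁻¹).toMonoidHom).comap_of_injective K.subtype
    K.subtype_injective).exists_le_sylow
  obtain ⟨k, hk⟩ := exists_smul_eq ↥K P Q
  -- `P` is `S`
  have hPS : ∀ p : ↥K, p ∈ P → (p : G) ∈ B.S := by
    intro p hp
    have hP2 : IsPGroup 2 ((P : Subgroup ↥K).map K.subtype) := P.isPGroup'.map _
    have hle : B.S ≤ (P : Subgroup ↥K).map K.subtype := fun s hs => ⟨⟨s, hSK hs⟩, hP hs, rfl⟩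
    have hcard := B.two_card_le B.inD_t _ hP2 (by
      rintro x ⟨y, -, rfl⟩
      exact ((hK _).mp y.2).1)
    rw [Subgroup.eq_of_le_of_card_ge hle hcard]
    exact ⟨p, hp, rfl⟩
  -- `k` carries `S` into `S^c`
  have hkc : ∀ s ∈ B.S, (c * k) * s * (c * k)⁻¹ ∈ B.S := by
    intro s hs
    have hq : k * ⟨s, hSK hs⟩ * k⁻¹ ∈ Q := by
      rw [← hk]
      change _ ∈ ((k • P : Sylow 2 ↥K) : Subgroup ↥K)
      rw [Sylow.coe_subgroup_smul]
      exact Subgroup.smul_mem_pointwise_smul _ _ _ (hP hs)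
    have hTQ : ∀ q : ↥K, q ∈ Q → (q : G) ∈ T := by
      intro q hq'
      have hle : T ≤ (Q : Subgroup ↥K).map K.subtype := fun x hx => ⟨⟨x, hTK hx⟩, hQ hx, rfl⟩
      have hcard := B.two_card_le B.inD_t _ (Q.isPGroup'.map K.subtype) (by
        rintro x ⟨y, -, rfl⟩
        exact ((hK _).mp y.2).1)
      have hT : Nat.card B.S = Nat.card T := Nat.card_congr (B.S.equivMapOfInjective
        (MulAut.conj c⁻¹).toMonoidHom (MulAut.conj c⁻¹).injective).toEquiv
      rw [Subgroup.eq_of_le_of_card_ge hle (hT ▸ hcard)]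
      exact ⟨q, hq', rfl⟩
    obtain ⟨s', hs', e⟩ := hTQ _ hq
    simp only [MulEquiv.coe_toMonoidHom, MulAut.conj_apply, inv_inv, Subgroup.coe_mul,
      InvMemClass.coe_inv] at e
    have : c * k * s * (c * k : G)⁻¹ = s' := by
      calc c * k * s * (c * (k : G))⁻¹ = c * (k * s * (k : G)⁻¹) * c⁻¹ := by group
        _ = c * (c⁻¹ * s' * c) * c⁻¹ := by rw [e]
        _ = s' := by group
    rw [this]
    exact hs'
  have hck : c * (k : G) ∈ B.S := B.S_self _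
    ((show Commute c B.t from hc).mul_left (show Commute (k : G) B.t from ((hK _).mp k.2).1)) hkc
  have h1 := hu _ hck
  have h2 := ((hK _).mp k.2).2
  calc c * u * c⁻¹ = c * (u * k) * (c * (k : G))⁻¹ := by group
    _ = c * (k * u) * (c * (k : G))⁻¹ := by rw [h2]
    _ = (c * k * u) * (c * (k : G))⁻¹ := by group
    _ = (u * (c * k)) * (c * (k : G))⁻¹ := by rw [h1]
    _ = u := by group

/-! ### Transfer -/

/-- A conjugate of `t` in `H` centralized in `H` by a 2-subgroup as large as `S`. -/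
def Ext (H : Subgroup G) (v : G) : Prop :=
  v ∈ H ∧ B.InD v ∧ ∃ P : Subgroup G, P ≤ H ∧ Nat.card P = Nat.card B.S ∧ ∀ p ∈ P, p * v = v * p

variable {B}

theorem Ext.conj {H : Subgroup G} {v : G} (hv : B.Ext H v) {h : G} (hh : h ∈ H) :
    B.Ext H (h * v * h⁻¹) := by
  obtain ⟨hvH, hvD, P, hPH, hPc, hPv⟩ := hv
  refine ⟨H.mul_mem (H.mul_mem hh hvH) (H.inv_mem hh), hvD.conj h,
    P.map (MulAut.conj h).toMonoidHom, ?_, ?_, ?_⟩
  · rintro x ⟨p, hp, rfl⟩
    exact H.mul_mem (H.mul_mem hh (hPH hp)) (H.inv_mem hh)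
  · rw [← hPc]
    exact (Nat.card_congr (P.equivMapOfInjective (MulAut.conj h).toMonoidHom
      (MulAut.conj h).injective).toEquiv).symm
  · rintro x ⟨p, hp, rfl⟩
    simp only [MulEquiv.coe_toMonoidHom, MulAut.conj_apply]
    calc h * p * h⁻¹ * (h * v * h⁻¹) = h * (p * v) * h⁻¹ := by group
      _ = h * (v * p) * h⁻¹ := by rw [hPv p hp]
      _ = _ := by group

variable (B)

/-- The coset is fixed by `S`. -/
def Fix (H : Subgroup G) (g : G) : Prop := ∀ s ∈ B.S, g⁻¹ * s * g ∈ H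

theorem fix_iff [Finite G] (H : Subgroup G) (x : G ⧸ H) : x ∈ fixedPoints ↥B.S (G ⧸ H) ↔ B.Fix H x.out := by
  constructor
  · intro h s hs
    have := h ⟨s, hs⟩
    rw [← QuotientGroup.out_eq' x] at this
    exact (TwoTransfer.mk_fixed_iff s x.out).mp this
  · intro h s
    rw [← QuotientGroup.out_eq' x]
    exact (TwoTransfer.mk_fixed_iff (s : G) x.out).mpr (h s s.2)

theorem ext_of_fix [Finite G] {H : Subgroup G} {g : G} (h : B.Fix H g) :
    B.Ext H (g⁻¹ * B.t * g) := by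
  refine ⟨h _ B.t_mem, ?_, B.S.map (MulAut.conj g⁻¹).toMonoidHom, ?_, ?_, ?_⟩
  · exact ⟨g⁻¹, by group⟩
  · rintro x ⟨s, hs, rfl⟩
    simpa using h s hs
  · exact (Nat.card_congr (B.S.equivMapOfInjective (MulAut.conj g⁻¹).toMonoidHom
      (MulAut.conj g⁻¹).injective).toEquiv).symm
  · rintro x ⟨s, hs, rfl⟩
    simp only [MulEquiv.coe_toMonoidHom, MulAut.conj_apply, inv_inv]
    calc g⁻¹ * s * g * (g⁻¹ * B.t * g) = g⁻¹ * (s * B.t) * g := by group
      _ = g⁻¹ * (B.t * s) * g := by rw [B.S_comm s hs]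
      _ = _ := by group

theorem fix_of_ext [Finite G] {H : Subgroup G} {v : G} (hv : B.Ext H v) :
    ∃ g : G, B.Fix H g ∧ g⁻¹ * B.t * g = v := by
  obtain ⟨-, hvD, P, hPH, hPc, hPv⟩ := hv
  obtain ⟨g, hg, -, hgP⟩ := B.exists_onto hvD P hPc hPv
  exact ⟨g, fun s hs => hPH (hgP s hs), by rw [← hg]; group⟩

theorem fix_inj [Finite G] {H : Subgroup G} {g g' : G} (h : B.Fix H g) (h' : B.Fix H g') {k : G}
    (hk : k ∈ H) (e : k * (g⁻¹ * B.t * g) * k⁻¹ = g'⁻¹ * B.t * g') :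
    (g : G ⧸ H) = (g' : G ⧸ H) := by
  haveI : Fact (Nat.Prime 2) := ⟨Nat.prime_two⟩
  -- move to `g₁ = g k⁻¹`, then correct inside the centralizer of `v' = g'⁻¹ t g'`
  set g₁ := g * k⁻¹ with hg₁
  have h₁ : B.Fix H g₁ := by
    intro s hs
    have := H.mul_mem (H.mul_mem hk (h s hs)) (H.inv_mem hk)
    rw [hg₁]
    simpa [mul_assoc] using this
  have e₁ : g₁⁻¹ * B.t * g₁ = g'⁻¹ * B.t * g' := by
    rw [← e, hg₁]; group
  let T₁ : Subgroup G := B.S.map (MulAut.conj g₁⁻¹).toMonoidHom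
  let T₂ : Subgroup G := B.S.map (MulAut.conj g'⁻¹).toMonoidHom
  let K : Subgroup G := H ⊓ Subgroup.centralizer {g'⁻¹ * B.t * g'}
  have hK₁ : T₁ ≤ K := by
    rintro x ⟨s, hs, rfl⟩
    simp only [MulEquiv.coe_toMonoidHom, MulAut.conj_apply, inv_inv]
    refine ⟨h₁ s hs, mem_centralizer_singleton_iff.mpr ?_⟩
    rw [← e₁]
    calc g₁⁻¹ * s * g₁ * (g₁⁻¹ * B.t * g₁) = g₁⁻¹ * (s * B.t) * g₁ := by group
      _ = g₁⁻¹ * (B.t * s) * g₁ := by rw [B.S_comm s hs]
      _ = _ := by group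
  have hK₂ : T₂ ≤ K := by
    rintro x ⟨s, hs, rfl⟩
    simp only [MulEquiv.coe_toMonoidHom, MulAut.conj_apply, inv_inv]
    refine ⟨h' s hs, mem_centralizer_singleton_iff.mpr ?_⟩
    calc g'⁻¹ * s * g' * (g'⁻¹ * B.t * g') = g'⁻¹ * (s * B.t) * g' := by group
      _ = g'⁻¹ * (B.t * s) * g' := by rw [B.S_comm s hs]
      _ = _ := by group
  obtain ⟨P, hP⟩ := ((B.S_two.map (MulAut.conj g₁⁻¹).toMonoidHom).comap_of_injective K.subtype
    K.subtype_injective).exists_le_sylow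
  obtain ⟨Q, hQ⟩ := ((B.S_two.map (MulAut.conj g'⁻¹).toMonoidHom).comap_of_injective K.subtype
    K.subtype_injective).exists_le_sylow
  obtain ⟨m, hm⟩ := exists_smul_eq ↥K P Q
  have hD : B.InD (g'⁻¹ * B.t * g') := ⟨g'⁻¹, by group⟩
  have hQT : ∀ q : ↥K, q ∈ Q → (q : G) ∈ T₂ := by
    intro q hq
    have hle : T₂ ≤ (Q : Subgroup ↥K).map K.subtype := fun x hx => ⟨⟨x, hK₂ hx⟩, hQ hx, rfl⟩
    have hcard := B.two_card_le hD _ (Q.isPGroup'.map K.subtype) (by
      rintro x ⟨y, -, rfl⟩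
      exact mem_centralizer_singleton_iff.mp y.2.2)
    have hT : Nat.card B.S = Nat.card T₂ := Nat.card_congr (B.S.equivMapOfInjective
      (MulAut.conj g'⁻¹).toMonoidHom (MulAut.conj g'⁻¹).injective).toEquiv
    rw [Subgroup.eq_of_le_of_card_ge hle (hT ▸ hcard)]
    exact ⟨q, hq, rfl⟩
  have hc : ∀ s ∈ B.S, (g' * m * g₁⁻¹) * s * (g' * (m : G) * g₁⁻¹)⁻¹ ∈ B.S := by
    intro s hs
    have h1 : g₁⁻¹ * s * g₁ ∈ T₁ := ⟨s, hs, by simp⟩
    have hq : m * ⟨g₁⁻¹ * s * g₁, hK₁ h1⟩ * m⁻¹ ∈ Q := by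
      rw [← hm]
      change _ ∈ ((m • P : Sylow 2 ↥K) : Subgroup ↥K)
      rw [Sylow.coe_subgroup_smul]
      exact Subgroup.smul_mem_pointwise_smul _ _ _ (hP h1)
    obtain ⟨s', hs', e'⟩ := hQT _ hq
    simp only [MulEquiv.coe_toMonoidHom, MulAut.conj_apply, inv_inv, Subgroup.coe_mul,
      InvMemClass.coe_inv] at e'
    have : g' * m * g₁⁻¹ * s * (g' * (m : G) * g₁⁻¹)⁻¹ = s' := by
      calc g' * m * g₁⁻¹ * s * (g' * (m : G) * g₁⁻¹)⁻¹
          = g' * (m * (g₁⁻¹ * s * g₁) * (m : G)⁻¹) * g'⁻¹ := by group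
        _ = g' * (g'⁻¹ * s' * g') * g'⁻¹ := by rw [e']
        _ = s' := by group
    rw [this]
    exact hs'
  have hm' := mem_centralizer_singleton_iff.mp m.2.2
  have hct : (g' * m * g₁⁻¹) * B.t = B.t * (g' * (m : G) * g₁⁻¹) := by
    calc g' * m * g₁⁻¹ * B.t = g' * (m * (g₁⁻¹ * B.t * g₁)) * g₁⁻¹ := by group
      _ = g' * (g'⁻¹ * B.t * g' * m) * g₁⁻¹ := by rw [e₁, hm']
      _ = B.t * (g' * m * g₁⁻¹) := by group
  have hcS := B.S_self _ hct hc
  refine QuotientGroup.eq.mpr ?_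
  -- `g' = c g₁ m⁻¹`, and `c ∈ S` moves `g₁` within its coset
  have h3 := h₁ _ hcS
  have : g⁻¹ * g' = k⁻¹ * (g₁⁻¹ * (g' * m * g₁⁻¹) * g₁) * (m : G)⁻¹ := by
    rw [hg₁]; group
  rw [this]
  exact H.mul_mem (H.mul_mem (H.inv_mem hk) h3) (H.inv_mem m.2.1)

/-- The transfer value of a coset. -/
noncomputable def val {H : Subgroup G} {A : Type*} [CommGroup A] (ψ : ↥H →* A) (g : G) : A :=
  open Classical in if h : g ∈ H then ψ ⟨g, h⟩ else 1

theorem val_of_mem {H : Subgroup G} {A : Type*} [CommGroup A] (ψ : ↥H →* A) {g : G} (h : g ∈ H) :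
    val ψ g = ψ ⟨g, h⟩ := by
  rw [val, dif_pos h]

theorem val_conj {H : Subgroup G} {A : Type*} [CommGroup A] (ψ : ↥H →* A) {g h : G} (hh : h ∈ H) :
    val ψ (h * g * h⁻¹) = val ψ g := by
  by_cases hg : g ∈ H
  · rw [val_of_mem ψ hg, val_of_mem ψ (H.mul_mem (H.mul_mem hh hg) (H.inv_mem hh))]
    have : (⟨h * g * h⁻¹, H.mul_mem (H.mul_mem hh hg) (H.inv_mem hh)⟩ : ↥H) =
        ⟨h, hh⟩ * ⟨g, hg⟩ * ⟨h, hh⟩⁻¹ := rfl
    rw [this, map_mul, map_mul, map_inv, mul_comm (ψ ⟨h, hh⟩), mul_assoc, mul_inv_cancel, mul_one]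
  · simp only [val]
    rw [dif_neg hg, dif_neg]
    intro h'
    apply hg
    have := H.mul_mem (H.mul_mem (H.inv_mem hh) h') hh
    simpa [mul_assoc] using this

theorem val_sq {H : Subgroup G} {A : Type*} [CommGroup A] (ψ : ↥H →* A) {g : G} (hg : g * g = 1) :
    val ψ g ^ 2 = 1 := by
  by_cases h : g ∈ H
  · rw [val_of_mem ψ h, sq, ← map_mul]
    have : (⟨g, h⟩ : ↥H) * ⟨g, h⟩ = 1 := Subtype.ext hg
    rw [this, map_one]
  · rw [val, dif_neg h, one_pow]

/-- The transfer of `t` is the product over the cosets fixed by `S`. -/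
theorem transfer_eq [Finite G] [Fintype G] {H : Subgroup G} [Fintype (G ⧸ H)] {A : Type*} [CommGroup A]
    (ψ : ↥H →* A) [DecidablePred (· ∈ fixedPoints ↥B.S (G ⧸ H))] :
    MonoidHom.transfer ψ B.t =
      ∏ x ∈ Finset.univ.filter (· ∈ fixedPoints ↥B.S (G ⧸ H)),
        val ψ ((x : G ⧸ H).out⁻¹ * B.t * (x : G ⧸ H).out) := by
  classical
  let f : G ⧸ H → A := fun x => val ψ (x.out⁻¹ * B.t * x.out)
  have hf : ∀ g : G, f (g : G ⧸ H) = val ψ (g⁻¹ * B.t * g) := by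
    intro g
    obtain ⟨u, hu⟩ := QuotientGroup.mk_out_eq_mul H g
    show val ψ _ = _
    rw [hu, show (g * (u : G))⁻¹ * B.t * (g * u) = (u : G)⁻¹ * (g⁻¹ * B.t * g) * ((u : G)⁻¹)⁻¹ by group]
    exact val_conj ψ (H.inv_mem u.2)
  rw [TwoTransfer.prod_fixed_eq_transfer ψ B.t (by rw [sq, B.t_sq]) f
    (fun x hx => by
      show val ψ _ = 1
      rw [val, dif_neg]
      intro h
      exact hx (by simpa [QuotientGroup.out_eq'] using (TwoTransfer.mk_fixed_iff B.t x.out).mpr h))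
    (fun g h => by rw [hf g, val_of_mem ψ h])]
  refine TwoTransfer.prod_orbit_even B.S_two f ?_ ?_
  · intro s x
    obtain ⟨g, rfl⟩ := QuotientGroup.mk_surjective x
    have e : s • (g : G ⧸ H) = (((s : G) * g : G) : G ⧸ H) := rfl
    rw [e, hf, hf]
    congr 1
    calc ((s : G) * g)⁻¹ * B.t * ((s : G) * g) = g⁻¹ * ((s : G)⁻¹ * (B.t * s)) * g := by group
      _ = g⁻¹ * ((s : G)⁻¹ * (s * B.t)) * g := by rw [B.S_comm _ s.2]
      _ = g⁻¹ * B.t * g := by group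
  · intro x
    apply val_sq
    calc x.out⁻¹ * B.t * x.out * (x.out⁻¹ * B.t * x.out) = x.out⁻¹ * (B.t * B.t) * x.out := by group
      _ = 1 := by rw [B.t_sq]; group

theorem _root_.Cfsg.Agent.SixCentralizer.index_two_of_hom [Finite G] {A : Type*} [CommGroup A] (φ : G →* A)
    {g : G} (hsq : φ g ^ 2 = 1) (hne : φ g ≠ 1) (hA : IsPGroup 2 A) :
    ∃ K : Subgroup G, K.index = 2 := by
  haveI : Fact (Nat.Prime 2) := ⟨Nat.prime_two⟩
  haveI : Finite φ.range := Finite.of_surjective _ φ.rangeRestrict_surjective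
  have hR : IsPGroup 2 φ.range := hA.to_subgroup _
  obtain ⟨n, hn⟩ := IsPGroup.iff_card.mp hR
  have hdvd : 2 ∣ Nat.card φ.range := by
    have : orderOf (⟨φ g, ⟨g, rfl⟩⟩ : φ.range) = 2 :=
      orderOf_eq_prime (Subtype.ext hsq) (fun h => hne (congrArg Subtype.val h))
    exact this ▸ orderOf_dvd_natCard _
  obtain ⟨m, rfl⟩ : ∃ m, n = m + 1 := by
    rcases n with - | m
    · rw [hn] at hdvd; simp at hdvd
    · exact ⟨m, rfl⟩
  obtain ⟨K, hK⟩ := Sylow.exists_subgroup_card_pow_prime 2 (n := m)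
    (G := φ.range) (by rw [hn]; exact pow_dvd_pow 2 (Nat.le_succ m))
  refine ⟨K.comap φ.rangeRestrict, ?_⟩
  rw [Subgroup.index_comap_of_surjective _ φ.rangeRestrict_surjective]
  have := K.index_mul_card
  rw [hK, hn, pow_succ'] at this
  exact Nat.eq_of_mul_eq_mul_right (pow_pos two_pos m) this

/-- One class with nontrivial value. -/
theorem index_two_of_single [Finite G] {H : Subgroup G} {A : Type*} [CommGroup A] (hA : IsPGroup 2 A)
    (ψ : ↥H →* A) {v₀ : G} (h₀ : B.Ext H v₀) (hψ : val ψ v₀ ≠ 1)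
    (huniq : ∀ v, B.Ext H v → val ψ v ≠ 1 → ∃ h ∈ H, h * v * h⁻¹ = v₀) :
    ∃ K : Subgroup G, K.index = 2 := by
  classical
  letI := Fintype.ofFinite G
  letI := Fintype.ofFinite (G ⧸ H)
  have hsq : val ψ v₀ ^ 2 = 1 := val_sq ψ h₀.2.1.sq
  refine index_two_of_hom (MonoidHom.transfer ψ) (g := B.t) ?_ ?_ hA
  · rw [← map_pow, sq, B.t_sq, map_one]
  rw [B.transfer_eq ψ]
  obtain ⟨g₀, hg₀, rfl⟩ := B.fix_of_ext h₀
  obtain ⟨u, hu⟩ := QuotientGroup.mk_out_eq_mul H g₀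
  have hfix₀ : B.Fix H ((g₀ : G ⧸ H).out) := fun s hs => by
    rw [hu]
    have := H.mul_mem (H.mul_mem (H.inv_mem u.2) (hg₀ s hs)) u.2
    simpa [mul_assoc] using this
  have hval₀ : val ψ ((g₀ : G ⧸ H).out⁻¹ * B.t * (g₀ : G ⧸ H).out) = val ψ (g₀⁻¹ * B.t * g₀) := by
    rw [hu, show (g₀ * (u : G))⁻¹ * B.t * (g₀ * u) = (u : G)⁻¹ * (g₀⁻¹ * B.t * g₀) * ((u : G)⁻¹)⁻¹ by group]
    exact val_conj ψ (H.inv_mem u.2)
  rw [Finset.prod_eq_single (g₀ : G ⧸ H), hval₀]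
  · exact hψ
  · intro x hx hne
    by_contra hv
    have hxf := (B.fix_iff H x).mp (Finset.mem_filter.mp hx).2
    obtain ⟨h, hh, e⟩ := huniq _ (B.ext_of_fix hxf) hv
    exact hne (by
      have := B.fix_inj hxf hg₀ hh e
      rwa [QuotientGroup.out_eq'] at this)
  · intro h
    exact absurd (Finset.mem_filter.mpr ⟨Finset.mem_univ _, (B.fix_iff H _).mpr hfix₀⟩) h

/-- An odd number of classes with value `c`, counted through their common size. -/
theorem index_two_of_count [Finite G] {H : Subgroup G} {A : Type*} [CommGroup A] (hA : IsPGroup 2 A)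
    (ψ : ↥H →* A) {c : A} (hc : c ≠ 1) (T : Finset G) (hT : ∀ v, v ∈ T ↔ B.Ext H v ∧ val ψ v ≠ 1)
    (hval : ∀ v ∈ T, val ψ v = c) {m N : ℕ}
    (hm : ∀ v ∈ T, {u : G | ∃ h ∈ H, h * v * h⁻¹ = u}.ncard = m)
    (hm0 : 0 < m) (hcard : T.card = m * N) (hN : Odd N) :
    ∃ K : Subgroup G, K.index = 2 := by
  classical
  letI := Fintype.ofFinite G
  letI := Fintype.ofFinite (G ⧸ H)
  refine index_two_of_hom (MonoidHom.transfer ψ) (g := B.t) ?_ ?_ hA
  · rw [← map_pow, sq, B.t_sq, map_one]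
  rw [B.transfer_eq ψ]
  set Φ : G ⧸ H → G := fun x => x.out⁻¹ * B.t * x.out with hΦ
  let U := (Finset.univ.filter (· ∈ fixedPoints ↥B.S (G ⧸ H))).filter (fun x => val ψ (Φ x) ≠ 1)
  let cls : G ⧸ H → Finset G := fun x => Finset.univ.filter (fun u => ∃ h ∈ H, h * Φ x * h⁻¹ = u)
  have hΦT : ∀ x ∈ U, Φ x ∈ T := fun x hx => by
    obtain ⟨hx1, hx2⟩ := Finset.mem_filter.mp hx
    exact (hT _).mpr ⟨B.ext_of_fix ((B.fix_iff H x).mp (Finset.mem_filter.mp hx1).2), hx2⟩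
  have hTU : T = U.biUnion cls := by
    ext u
    constructor
    · intro hu
      obtain ⟨hue, hun⟩ := (hT u).mp hu
      obtain ⟨g, hg, rfl⟩ := B.fix_of_ext hue
      obtain ⟨w, hw⟩ := QuotientGroup.mk_out_eq_mul H g
      have e : Φ (g : G ⧸ H) = (w : G)⁻¹ * (g⁻¹ * B.t * g) * ((w : G)⁻¹)⁻¹ := by
        rw [hΦ]; simp only; rw [hw]; group
      refine Finset.mem_biUnion.mpr ⟨(g : G ⧸ H), Finset.mem_filter.mpr
        ⟨Finset.mem_filter.mpr ⟨Finset.mem_univ _, (B.fix_iff H _).mpr ?_⟩, ?_⟩,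
        Finset.mem_filter.mpr ⟨Finset.mem_univ _, w, w.2, by rw [e]; group⟩⟩
      · intro s hs
        rw [hw]
        have := H.mul_mem (H.mul_mem (H.inv_mem w.2) (hg s hs)) w.2
        simpa [mul_assoc] using this
      · rw [e, val_conj ψ (H.inv_mem w.2)]
        exact hun
    · intro hu
      obtain ⟨x, hx, hu⟩ := Finset.mem_biUnion.mp hu
      obtain ⟨h, hh, rfl⟩ := (Finset.mem_filter.mp hu).2
      obtain ⟨he, hn⟩ := (hT _).mp (hΦT x hx)
      exact (hT _).mpr ⟨he.conj hh, by rw [val_conj ψ hh]; exact hn⟩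
  have hdisj : (U : Set (G ⧸ H)).PairwiseDisjoint cls := by
    intro x hx y hy hne
    show Disjoint (cls x) (cls y)
    rw [Finset.disjoint_left]
    intro u hu hu'
    obtain ⟨h, hh, rfl⟩ := (Finset.mem_filter.mp hu).2
    obtain ⟨h', hh', e⟩ := (Finset.mem_filter.mp hu').2
    have hxf := (B.fix_iff H x).mp (Finset.mem_filter.mp (Finset.mem_filter.mp hx).1).2
    have hyf := (B.fix_iff H y).mp (Finset.mem_filter.mp (Finset.mem_filter.mp hy).1).2
    apply hne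
    have := B.fix_inj hxf hyf (k := h'⁻¹ * h) (H.mul_mem (H.inv_mem hh') hh) (by
      calc h'⁻¹ * h * Φ x * (h'⁻¹ * h)⁻¹ = h'⁻¹ * (h * Φ x * h⁻¹) * h' := by group
        _ = Φ y := by rw [← e]; group)
    rwa [QuotientGroup.out_eq', QuotientGroup.out_eq'] at this
  have hclm : ∀ x ∈ U, (cls x).card = m := fun x hx => by
    rw [← hm _ (hΦT x hx), ← Set.ncard_coe_finset]
    congr 1
    ext u
    simp [cls]
  have hUcard : T.card = U.card * m := by
    rw [hTU, Finset.card_biUnion hdisj, Finset.sum_congr rfl hclm, Finset.sum_const, smul_eq_mul]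
  have hUN : U.card = N := Nat.eq_of_mul_eq_mul_right hm0 (by rw [← hUcard, hcard, Nat.mul_comm])
  rw [← Finset.prod_filter_mul_prod_filter_not (Finset.univ.filter (· ∈ fixedPoints ↥B.S (G ⧸ H)))
      (fun x => val ψ (Φ x) ≠ 1),
    Finset.prod_congr rfl (g := fun _ => c) (fun x hx => hval _ (hΦT x hx)), Finset.prod_const,
    Finset.prod_eq_one (fun x hx => not_not.mp (Finset.mem_filter.mp hx).2), mul_one]
  obtain ⟨k, hk⟩ := hN
  have hc2 : c ^ 2 = 1 := by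
    obtain ⟨x, hx⟩ := Finset.card_pos.mp (show 0 < U.card by omega)
    rw [← hval _ (hΦT x hx)]
    exact val_sq ψ ((hT _).mp (hΦT x hx)).1.2.1.sq
  show c ^ U.card ≠ 1
  rw [hUN, hk, pow_succ, pow_mul, hc2, one_pow, one_mul]
  exact hc

/-- An odd number of representatives of the classes with value `c`. -/
theorem index_two_of_reps [Finite G] {H : Subgroup G} {A : Type*} [CommGroup A] (hA : IsPGroup 2 A)
    (ψ : ↥H →* A) {c : A} (hc : c ≠ 1) (R : Finset G) (hR : ∀ v ∈ R, B.Ext H v ∧ val ψ v = c)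
    (hsep : ∀ v ∈ R, ∀ w ∈ R, (∃ h ∈ H, h * v * h⁻¹ = w) → v = w)
    (hcov : ∀ v, B.Ext H v → val ψ v ≠ 1 → ∃ w ∈ R, ∃ h ∈ H, h * v * h⁻¹ = w)
    (hodd : Odd R.card) :
    ∃ K : Subgroup G, K.index = 2 := by
  classical
  letI := Fintype.ofFinite G
  letI := Fintype.ofFinite (G ⧸ H)
  refine index_two_of_hom (MonoidHom.transfer ψ) (g := B.t) ?_ ?_ hA
  · rw [← map_pow, sq, B.t_sq, map_one]
  rw [B.transfer_eq ψ]
  set Φ : G ⧸ H → G := fun x => x.out⁻¹ * B.t * x.out with hΦ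
  let U := (Finset.univ.filter (· ∈ fixedPoints ↥B.S (G ⧸ H))).filter (fun x => val ψ (Φ x) ≠ 1)
  have hmem : ∀ x ∈ U, B.Ext H (Φ x) ∧ val ψ (Φ x) ≠ 1 ∧ B.Fix H x.out := fun x hx => by
    obtain ⟨hx1, hx2⟩ := Finset.mem_filter.mp hx
    have := (B.fix_iff H x).mp (Finset.mem_filter.mp hx1).2
    exact ⟨B.ext_of_fix this, hx2, this⟩
  choose r hr using fun x hx => hcov _ (hmem x hx).1 (hmem x hx).2.1
  have hcardU : U.card = R.card := by
    refine Finset.card_bij r (fun x hx => (hr x hx).1) ?_ ?_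
    · intro x hx y hy e
      obtain ⟨-, h, hh, he⟩ := hr x hx
      obtain ⟨-, h', hh', he'⟩ := hr y hy
      have := B.fix_inj (hmem x hx).2.2 (hmem y hy).2.2 (k := h'⁻¹ * h)
        (H.mul_mem (H.inv_mem hh') hh) (by
          calc h'⁻¹ * h * Φ x * (h'⁻¹ * h)⁻¹ = h'⁻¹ * (h * Φ x * h⁻¹) * h' := by group
            _ = Φ y := by rw [he, e, ← he']; group)
      rwa [QuotientGroup.out_eq', QuotientGroup.out_eq'] at this
    · intro v hv
      obtain ⟨hve, hvc⟩ := hR v hv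
      obtain ⟨g, hg, rfl⟩ := B.fix_of_ext hve
      obtain ⟨w, hw⟩ := QuotientGroup.mk_out_eq_mul H g
      have e : Φ (g : G ⧸ H) = (w : G)⁻¹ * (g⁻¹ * B.t * g) * ((w : G)⁻¹)⁻¹ := by
        rw [hΦ]; simp only; rw [hw]; group
      have hxU : (g : G ⧸ H) ∈ U := by
        refine Finset.mem_filter.mpr ⟨Finset.mem_filter.mpr
          ⟨Finset.mem_univ _, (B.fix_iff H _).mpr ?_⟩, ?_⟩
        · intro s hs
          rw [hw]
          have := H.mul_mem (H.mul_mem (H.inv_mem w.2) (hg s hs)) w.2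
          simpa [mul_assoc] using this
        · rw [e, val_conj ψ (H.inv_mem w.2), hvc]
          exact hc
      refine ⟨_, hxU, ?_⟩
      obtain ⟨hrR, h, hh, he⟩ := hr _ hxU
      refine (hsep _ hv _ hrR ⟨h * (w : G)⁻¹, H.mul_mem hh (H.inv_mem w.2), ?_⟩).symm
      rw [← he, e]
      group
  rw [← Finset.prod_filter_mul_prod_filter_not (Finset.univ.filter (· ∈ fixedPoints ↥B.S (G ⧸ H)))
      (fun x => val ψ (Φ x) ≠ 1),
    Finset.prod_congr rfl (g := fun _ => c) (fun x hx => by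
      obtain ⟨hrR, h, hh, he⟩ := hr x hx
      rw [← val_conj ψ hh, he, (hR _ hrR).2]), Finset.prod_const,
    Finset.prod_eq_one (fun x hx => not_not.mp (Finset.mem_filter.mp hx).2), mul_one]
  obtain ⟨k, hk⟩ := hodd
  have hc2 : c ^ 2 = 1 := by
    obtain ⟨v, hv⟩ := Finset.card_pos.mp (show 0 < R.card by omega)
    rw [← (hR v hv).2]
    exact val_sq ψ (hR v hv).1.2.1.sq
  show c ^ U.card ≠ 1
  rw [hcardU, hk, pow_succ, pow_mul, hc2, one_pow, one_mul]
  exact hc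

end Base

end Cfsg.Agent.SixCentralizer
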