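/-
The abstract setting: an involution `t` whose centralizer behaves like that of
`C₂ × S₆` or `C₂ × S₇` at the prime 2.

* `Q` : the model `D₈ × C₂ × C₂` of a Sylow 2-subgroup, with generators `tQ, aQ, xQ, yQ`
* `Setup` : the data; `twist` and `mirror` give new data from old
* `inD_rep` : fusion in `S` inside the centralizer
-/
import Cfsg.Agent.Lib.SixCentralizer.Transfer
import Cfsg.Agent.EqLemmas

set_option autoImplicit false
set_option maxRecDepth 100000

namespace Cfsg.Agent.SixCentralizer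

/-- The Sylow 2-subgroup of `C₂ × S₆`. -/
abbrev Q : Type := DihedralGroup 4 × Multiplicative (ZMod 2) × Multiplicative (ZMod 2)

/-- The central factor. -/
def tQ : Q := (1, Multiplicative.ofAdd 1, 1)
/-- The transposition `(4 5)`. -/
def aQ : Q := (1, 1, Multiplicative.ofAdd 1)
/-- The transposition `(0 1)`. -/
def xQ : Q := (.sr 0, 1, 1)
/-- The double transposition `(0 2)(1 3)`. -/
def yQ : Q := (.sr 1, 1, 1)
/-- The double transposition `(0 1)(2 3)`. -/
def zQ : Q := (.r 2, 1, 1)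

/-- The `t`-coordinate. -/
def ct (q : Q) : ZMod 2 := Multiplicative.toAdd q.2.1
/-- The `a`-coordinate. -/
def ca (q : Q) : ZMod 2 := Multiplicative.toAdd q.2.2
/-- The `x`-coordinate. -/
def cx : Q → ZMod 2
  | (.r k, _) => (k.val : ZMod 2)
  | (.sr k, _) => 1 + (k.val : ZMod 2)
/-- The `y`-coordinate. -/
def cy : Q → ZMod 2
  | (.r k, _) => (k.val : ZMod 2)
  | (.sr k, _) => (k.val : ZMod 2)

/-- Whether the dihedral coordinate is a reflection, and its index. -/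
def dix : Q → ℕ × ℕ
  | (.r k, _) => (0, k.val)
  | (.sr k, _) => (1, k.val)

/-- The word in `T, A, X, Y` that `q` is in the generators. -/
def ext {M : Type*} [Monoid M] (T A X Y : M) (q : Q) : M :=
  T ^ (ct q).val * A ^ (ca q).val * (X ^ (dix q).1 * (X * Y) ^ (dix q).2)

theorem ext_self : ∀ q : Q, ext tQ aQ xQ yQ q = q := by decide +kernel

theorem map_ext {M N : Type*} [Monoid M] [Monoid N] (f : M →* N) (T A X Y : M) (q : Q) :
    f (ext T A X Y q) = ext (f T) (f A) (f X) (f Y) q := by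
  simp only [ext, map_mul, map_pow]

theorem hom_eq_ext {M : Type*} [Monoid M] (f : Q →* M) (q : Q) :
    f q = ext (f tQ) (f aQ) (f xQ) (f yQ) q := by
  rw [← map_ext, ext_self]

/-- The substitution `a ↦ t a`, `x ↦ t x`. -/
def twQ : Q →* Q where
  toFun := ext tQ (tQ * aQ) (tQ * xQ) yQ
  map_one' := by decide +kernel
  map_mul' := by decide +kernel

/-- The substitution `a ↦ a z`, `x ↦ y a`, `y ↦ x a`. -/
def miQ : Q →* Q where
  toFun := ext tQ (aQ * zQ) (yQ * aQ) (xQ * aQ)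
  map_one' := by decide +kernel
  map_mul' := by decide +kernel

theorem twQ_twQ : ∀ q, twQ (twQ q) = q := by decide +kernel

theorem miQ_miQ : ∀ q, miQ (miQ (miQ (miQ q))) = q := by decide +kernel

theorem ct_twQ : ∀ q, ct (twQ q) + (ca (twQ q) + cx (twQ q)) = ct q ∧
    ca (twQ q) + cx (twQ q) = ca q + cx q := by decide +kernel

theorem ct_miQ : ∀ q, ct (miQ q) = ct q ∧ ca (miQ q) + cx (miQ q) = ca q + cx q := by decide +kernel

/-- In the derived group of the centralizer of `a`. -/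
def inA (q : Q) : Prop := ct q = 0 ∧ ca q = 0 ∧ cx q = 0

/-- In the derived group of the centralizer of `a z`. -/
def inB (q : Q) : Prop := ct q = 0 ∧ cy q = 0 ∧ ca q = cx q

instance : DecidablePred inA := fun _ => inferInstanceAs (Decidable (_ ∧ _))
instance : DecidablePred inB := fun _ => inferInstanceAs (Decidable (_ ∧ _))

theorem inA_twQ : ∀ q, (inA (twQ q) ↔ inA q) ∧ (inB (twQ q) ↔ inB q) := by decide +kernel

theorem inA_miQ : ∀ q, (inA (miQ q) ↔ inB q) ∧ (inB (miQ q) ↔ inA q) := by decide +kernel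

/-- The representative, in the centre, of the class of an involution. -/
def repQ : Q → Q
  | (.r k, s) => (.r k, s)
  | (.sr k, i, j) =>
    if k.val % 2 = 0 then (if j = 1 then (1, i, Multiplicative.ofAdd 1) else (.r 2, i, 1))
    else (.r 2, i, j)

universe u

variable {G : Type u} [Group G]

/-- The data. -/
structure Setup (G : Type u) [Group G] where
  base : Base G
  e : Q →* G
  e_inj : Function.Injective e
  e_range : ∀ g, g ∈ base.S ↔ ∃ q, e q = g
  e_t : e tQ = base.t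
  ψ₁ : G → ZMod 2
  ψ₂ : G → ZMod 2
  ψ₁_mul : ∀ c d, c * base.t = base.t * c → d * base.t = base.t * d → ψ₁ (c * d) = ψ₁ c + ψ₁ d
  ψ₂_mul : ∀ c d, c * base.t = base.t * c → d * base.t = base.t * d → ψ₂ (c * d) = ψ₂ c + ψ₂ d
  ψ₁_e : ∀ q, ψ₁ (e q) = ct q
  ψ₂_e : ∀ q, ψ₂ (e q) = ca q + cx q
  inv_class : ∀ v, v * base.t = base.t * v → v * v = 1 →
    ∃ c q, c * base.t = base.t * c ∧ (∀ p : Q, p * q = q * p) ∧ c * v * c⁻¹ = e q
  derA : ∀ q, e q ∈ ⁅Subgroup.centralizer ({base.t, e aQ} : Set G),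
    Subgroup.centralizer ({base.t, e aQ} : Set G)⁆ ↔ inA q
  derB : ∀ q, e q ∈ ⁅Subgroup.centralizer ({base.t, e (aQ * zQ)} : Set G),
    Subgroup.centralizer ({base.t, e (aQ * zQ)} : Set G)⁆ ↔ inB q
  centA : ∀ c, c * base.t = base.t * c → c * e aQ = e aQ * c → c * e zQ = e zQ * c →
    c * e yQ = e yQ * c → c ∈ base.S
  centB : ∀ c, c * base.t = base.t * c → c * e aQ = e aQ * c → c * e zQ = e zQ * c →
    c * e xQ = e xQ * c → c ∈ base.S
  ρ₁ : G
  ρ₁_t : ρ₁ * base.t = base.t * ρ₁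
  ρ₁_a : ρ₁ * e aQ * ρ₁⁻¹ = e xQ
  ρ₁_x : ρ₁ * e xQ * ρ₁⁻¹ = e (xQ * zQ)
  ρ₁_z : ρ₁ * e zQ * ρ₁⁻¹ = e (xQ * aQ * zQ)
  ρ₂ : G
  ρ₂_t : ρ₂ * base.t = base.t * ρ₂
  ρ₂_a : ρ₂ * e aQ * ρ₂⁻¹ = e aQ
  ρ₂_z : ρ₂ * e zQ * ρ₂⁻¹ = e yQ
  ρ₂_y : ρ₂ * e yQ * ρ₂⁻¹ = e (yQ * zQ)

namespace Setup

variable (W : Setup G)

theorem mem_S (q : Q) : W.e q ∈ W.base.S := (W.e_range _).mpr ⟨q, rfl⟩

theorem e_comm_t (q : Q) : W.e q * W.base.t = W.base.t * W.e q := W.base.S_comm _ (W.mem_S q)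

theorem e_eq {p q : Q} : W.e p = W.e q ↔ p = q := W.e_inj.eq_iff

/-- Conjugation of a product of two elements with known images. -/
theorem conj_mul {g : G} {p q p' q' : Q} (hp : g * W.e p * g⁻¹ = W.e p') (hq : g * W.e q * g⁻¹ = W.e q') :
    g * W.e (p * q) * g⁻¹ = W.e (p' * q') := by
  rw [map_mul, map_mul, ← hp, ← hq]
  group

theorem conj_t {g : G} (hg : g * W.base.t = W.base.t * g) : g * W.e tQ * g⁻¹ = W.e tQ := by
  rw [W.e_t, hg]; group

/-- Conjugation of `S` from the images of the generators. -/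
theorem conj_ext {g : G} {T A X Y : Q} (hT : g * W.e tQ * g⁻¹ = W.e T) (hA : g * W.e aQ * g⁻¹ = W.e A)
    (hX : g * W.e xQ * g⁻¹ = W.e X) (hY : g * W.e yQ * g⁻¹ = W.e Y) (q : Q) :
    g * W.e q * g⁻¹ = W.e (ext T A X Y q) := by
  have h := hom_eq_ext ((MulAut.conj g).toMonoidHom.comp W.e) q
  simp only [MonoidHom.coe_comp, Function.comp_apply, MulEquiv.coe_toMonoidHom, MulAut.conj_apply] at h
  rw [hT, hA, hX, hY, ← map_ext] at h
  exact h

/-- An element normalizing `S` acts through a function of `Q`. -/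
theorem exists_act {g : G} (hg : ∀ s ∈ W.base.S, g * s * g⁻¹ ∈ W.base.S) (q : Q) :
    ∃ p, g * W.e q * g⁻¹ = W.e p := by
  obtain ⟨p, hp⟩ := (W.e_range _).mp (hg _ (W.mem_S q))
  exact ⟨p, hp.symm⟩

theorem ρ₁_z' : W.ρ₁ * W.e (xQ * aQ * zQ) * W.ρ₁⁻¹ = W.e (xQ * aQ) := by
  rw [W.conj_mul (W.conj_mul W.ρ₁_x W.ρ₁_a) W.ρ₁_z]
  exact congrArg W.e (by decide +kernel)

theorem ρ₂_az : W.ρ₂ * W.e (aQ * zQ) * W.ρ₂⁻¹ = W.e (aQ * yQ) := W.conj_mul W.ρ₂_a W.ρ₂_z

theorem ρ₂_ay : W.ρ₂ * W.e (aQ * yQ) * W.ρ₂⁻¹ = W.e (aQ * yQ * zQ) := by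
  rw [W.conj_mul W.ρ₂_a W.ρ₂_y]
  exact congrArg W.e (by decide +kernel)

theorem fus {c : G} {p q : Q} (h : c * W.e p * c⁻¹ = W.e q) :
    W.base.InD (W.e p) ↔ W.base.InD (W.e q) := by
  rw [← h, Base.inD_conj_iff]

theorem fus_t {c : G} (hc : c * W.base.t = W.base.t * c) {p q : Q} (h : c * W.e p * c⁻¹ = W.e q) :
    W.base.InD (W.e (tQ * p)) ↔ W.base.InD (W.e (tQ * q)) :=
  W.fus (W.conj_mul (W.conj_t hc) h)

theorem invol_cases : ∀ q : Q, q * q = 1 → q = repQ q ∨ ∃ p ∈ [(aQ, xQ), (aQ, xQ * zQ), (zQ, xQ * aQ * zQ),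
    (zQ, xQ * aQ), (zQ, yQ), (zQ, yQ * zQ), (aQ * zQ, aQ * yQ), (aQ * zQ, aQ * yQ * zQ)],
    (q = p.2 ∧ repQ q = p.1) ∨ (q = tQ * p.2 ∧ repQ q = tQ * p.1) := by decide +kernel

/-- The class of an involution of `S` in the centralizer meets the centre in `repQ`. -/
theorem conj_rep {q : Q} (hq : q * q = 1) :
    ∃ c, c * W.base.t = W.base.t * c ∧ c * W.e (repQ q) * c⁻¹ = W.e q := by
  rcases invol_cases q hq with h | ⟨⟨p, p'⟩, hp, h⟩
  · exact ⟨1, by group, by rw [← h]; group⟩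
  · have key : ∃ c, c * W.base.t = W.base.t * c ∧ c * W.e p * c⁻¹ = W.e p' := by
      have two : ∀ {c : G} {u v w : Q}, c * W.e u * c⁻¹ = W.e v → c * W.e v * c⁻¹ = W.e w →
          c * c * W.e u * (c * c)⁻¹ = W.e w := by
        intro c u v w h1 h2
        rw [← h2, ← h1]; group
      have h11 : W.ρ₁ * W.ρ₁ * W.base.t = W.base.t * (W.ρ₁ * W.ρ₁) :=
        (show Commute W.ρ₁ W.base.t from W.ρ₁_t).mul_left W.ρ₁_t
      have h22 : W.ρ₂ * W.ρ₂ * W.base.t = W.base.t * (W.ρ₂ * W.ρ₂) :=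
        (show Commute W.ρ₂ W.base.t from W.ρ₂_t).mul_left W.ρ₂_t
      simp only [List.mem_cons, Prod.mk.injEq, List.not_mem_nil, or_false] at hp
      rcases hp with ⟨rfl, rfl⟩ | ⟨rfl, rfl⟩ | ⟨rfl, rfl⟩ | ⟨rfl, rfl⟩ | ⟨rfl, rfl⟩ | ⟨rfl, rfl⟩ |
        ⟨rfl, rfl⟩ | ⟨rfl, rfl⟩
      · exact ⟨_, W.ρ₁_t, W.ρ₁_a⟩
      · exact ⟨_, h11, two W.ρ₁_a W.ρ₁_x⟩
      · exact ⟨_, W.ρ₁_t, W.ρ₁_z⟩
      · exact ⟨_, h11, two W.ρ₁_z W.ρ₁_z'⟩
      · exact ⟨_, W.ρ₂_t, W.ρ₂_z⟩
      · exact ⟨_, h22, two W.ρ₂_z W.ρ₂_y⟩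
      · exact ⟨_, W.ρ₂_t, W.ρ₂_az⟩
      · exact ⟨_, h22, two W.ρ₂_az W.ρ₂_ay⟩
    obtain ⟨c, hc, hcp⟩ := key
    rcases h with ⟨h1, h2⟩ | ⟨h1, h2⟩
    · exact ⟨c, hc, by rw [h2, h1]; exact hcp⟩
    · exact ⟨c, hc, by rw [h2, h1]; exact W.conj_mul (W.conj_t hc) hcp⟩

theorem inD_rep {q : Q} (hq : q * q = 1) : W.base.InD (W.e q) ↔ W.base.InD (W.e (repQ q)) := by
  obtain ⟨c, -, hc⟩ := W.conj_rep hq
  exact (W.fus hc).symm

theorem inD_sq {q : Q} (h : W.base.InD (W.e q)) : q * q = 1 := by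
  apply W.e_inj
  rw [map_mul, h.sq, map_one]

theorem ψ₁_one : W.ψ₁ 1 = 0 := by
  have h := W.ψ₁_mul 1 1 (by group) (by group)
  rw [mul_one] at h
  simpa using h

theorem ψ₂_one : W.ψ₂ 1 = 0 := by
  have h := W.ψ₂_mul 1 1 (by group) (by group)
  rw [mul_one] at h
  simpa using h

theorem ψ₁_conj {c v : G} (hc : c * W.base.t = W.base.t * c) (hv : v * W.base.t = W.base.t * v) :
    W.ψ₁ (c * v * c⁻¹) = W.ψ₁ v := by
  have hc' : c⁻¹ * W.base.t = W.base.t * c⁻¹ := (show Commute c W.base.t from hc).inv_left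
  have h1 := W.ψ₁_mul c c⁻¹ hc hc'
  rw [mul_inv_cancel, W.ψ₁_one] at h1
  rw [W.ψ₁_mul (c * v) c⁻¹ ((show Commute c W.base.t from hc).mul_left hv) hc', W.ψ₁_mul c v hc hv,
    add_comm (W.ψ₁ c), add_assoc, ← h1, add_zero]

/-- `t`, and with it each conjugate, is not a square of an element centralizing it. -/
theorem not_sq {v g : G} (hv : W.base.InD v) (hg : g * v = v * g) : g * g ≠ v := by
  obtain ⟨k, rfl⟩ := hv
  intro h
  set c := k⁻¹ * g * k with hc
  have hct : c * W.base.t = W.base.t * c := by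
    calc c * W.base.t = k⁻¹ * (g * (k * W.base.t * k⁻¹)) * k := by rw [hc]; group
      _ = k⁻¹ * (k * W.base.t * k⁻¹ * g) * k := by rw [hg]
      _ = W.base.t * c := by rw [hc]; group
  have hcc : c * c = W.base.t := by
    calc c * c = k⁻¹ * (g * g) * k := by rw [hc]; group
      _ = W.base.t := by rw [h]; group
  have h1 := W.ψ₁_mul c c hct hct
  rw [hcc, ← W.e_t, W.ψ₁_e] at h1
  revert h1
  generalize W.ψ₁ c = b
  revert b
  decide +kernel

theorem not_inD_z : ¬ W.base.InD (W.e zQ) := fun h =>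
  W.not_sq h (g := W.e (xQ * yQ)) (by rw [← map_mul, ← map_mul]; exact congrArg W.e (by decide +kernel))
    (by rw [← map_mul]; exact congrArg W.e (by decide +kernel))

/-- The substitution `a ↦ t a`, `x ↦ t x`. -/
def twist : Setup G where
  base := W.base
  e := W.e.comp twQ
  e_inj := W.e_inj.comp (Function.LeftInverse.injective twQ_twQ)
  e_range g := by
    rw [W.e_range]
    exact ⟨fun ⟨q, h⟩ => ⟨twQ q, by simp [twQ_twQ, h]⟩, fun ⟨q, h⟩ => ⟨twQ q, h⟩⟩
  e_t := (congrArg W.e (by decide +kernel : twQ tQ = tQ)).trans W.e_t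
  ψ₁ g := W.ψ₁ g + W.ψ₂ g
  ψ₂ := W.ψ₂
  ψ₁_mul c d hc hd := by rw [W.ψ₁_mul c d hc hd, W.ψ₂_mul c d hc hd]; abel
  ψ₂_mul := W.ψ₂_mul
  ψ₁_e q := by
    rw [MonoidHom.comp_apply, W.ψ₁_e, W.ψ₂_e, (ct_twQ q).1]
  ψ₂_e q := by rw [MonoidHom.comp_apply, W.ψ₂_e, (ct_twQ q).2]
  inv_class v h1 h2 := by
    obtain ⟨c, q, hc, hq, h⟩ := W.inv_class v h1 h2
    refine ⟨c, twQ q, hc, fun p => ?_, by rw [MonoidHom.comp_apply, twQ_twQ]; exact h⟩
    have := congrArg twQ (hq (twQ p))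
    simpa [twQ_twQ] using this
  derA q := by
    have hset : Subgroup.centralizer ({W.base.t, (W.e.comp twQ) aQ} : Set G) =
        Subgroup.centralizer ({W.base.t, W.e aQ} : Set G) := by
      have e1 : (W.e.comp twQ) aQ = W.base.t * W.e aQ := by
        rw [MonoidHom.comp_apply, ← W.e_t, ← map_mul]
        exact congrArg W.e (by decide +kernel)
      ext g
      simp only [Subgroup.mem_centralizer_iff, Set.mem_insert_iff, Set.mem_singleton_iff, forall_eq_or_imp,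
        forall_eq, e1]
      constructor
      · rintro ⟨h1, h2⟩
        refine ⟨h1, mul_left_cancel (a := W.base.t) ?_⟩
        rw [← mul_assoc, h2, ← mul_assoc g, ← h1, mul_assoc]
      · rintro ⟨h1, h2⟩
        exact ⟨h1, by rw [mul_assoc, h2, ← mul_assoc, h1, mul_assoc]⟩
    rw [hset, MonoidHom.comp_apply, W.derA, (inA_twQ q).1]
  derB q := by
    have hset : Subgroup.centralizer ({W.base.t, (W.e.comp twQ) (aQ * zQ)} : Set G) =
        Subgroup.centralizer ({W.base.t, W.e (aQ * zQ)} : Set G) := by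
      have e1 : (W.e.comp twQ) (aQ * zQ) = W.base.t * W.e (aQ * zQ) := by
        rw [MonoidHom.comp_apply, ← W.e_t, ← map_mul]
        exact congrArg W.e (by decide +kernel)
      ext g
      simp only [Subgroup.mem_centralizer_iff, Set.mem_insert_iff, Set.mem_singleton_iff, forall_eq_or_imp,
        forall_eq, e1]
      constructor
      · rintro ⟨h1, h2⟩
        refine ⟨h1, mul_left_cancel (a := W.base.t) ?_⟩
        rw [← mul_assoc, h2, ← mul_assoc g, ← h1, mul_assoc]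
      · rintro ⟨h1, h2⟩
        exact ⟨h1, by rw [mul_assoc, h2, ← mul_assoc, h1, mul_assoc]⟩
    rw [hset, MonoidHom.comp_apply, W.derB, (inA_twQ q).2]
  centA c ht ha hz hy := by
    simp only [MonoidHom.comp_apply, show twQ aQ = tQ * aQ by decide +kernel,
      show twQ zQ = zQ by decide +kernel, show twQ yQ = yQ by decide +kernel] at ha hz hy
    refine W.centA c ht ?_ hz hy
    rw [map_mul, W.e_t] at ha
    apply mul_left_cancel (a := W.base.t)
    rw [← mul_assoc, ← ht, mul_assoc, ha, mul_assoc]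
  centB c ht ha hz hx := by
    simp only [MonoidHom.comp_apply, show twQ aQ = tQ * aQ by decide +kernel,
      show twQ zQ = zQ by decide +kernel, show twQ xQ = tQ * xQ by decide +kernel] at ha hz hx
    rw [map_mul, W.e_t] at ha hx
    refine W.centB c ht ?_ hz ?_
    · apply mul_left_cancel (a := W.base.t)
      rw [← mul_assoc, ← ht, mul_assoc, ha, mul_assoc]
    · apply mul_left_cancel (a := W.base.t)
      rw [← mul_assoc, ← ht, mul_assoc, hx, mul_assoc]
  ρ₁ := W.ρ₁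
  ρ₁_t := W.ρ₁_t
  ρ₁_a := by
    simp only [MonoidHom.comp_apply]
    rw [show twQ aQ = tQ * aQ by decide +kernel, show twQ xQ = tQ * xQ by decide +kernel]
    exact W.conj_mul (W.conj_t W.ρ₁_t) W.ρ₁_a
  ρ₁_x := by
    simp only [MonoidHom.comp_apply]
    rw [show twQ xQ = tQ * xQ by decide +kernel, show twQ (xQ * zQ) = tQ * (xQ * zQ) by decide +kernel]
    exact W.conj_mul (W.conj_t W.ρ₁_t) W.ρ₁_x
  ρ₁_z := by
    simp only [MonoidHom.comp_apply]
    rw [show twQ zQ = zQ by decide +kernel, show twQ (xQ * aQ * zQ) = xQ * aQ * zQ by decide +kernel]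
    exact W.ρ₁_z
  ρ₂ := W.ρ₂
  ρ₂_t := W.ρ₂_t
  ρ₂_a := by
    simp only [MonoidHom.comp_apply]
    rw [show twQ aQ = tQ * aQ by decide +kernel]
    exact W.conj_mul (W.conj_t W.ρ₂_t) W.ρ₂_a
  ρ₂_z := by
    simp only [MonoidHom.comp_apply]
    rw [show twQ zQ = zQ by decide +kernel, show twQ yQ = yQ by decide +kernel]
    exact W.ρ₂_z
  ρ₂_y := by
    simp only [MonoidHom.comp_apply]
    rw [show twQ yQ = yQ by decide +kernel, show twQ (yQ * zQ) = yQ * zQ by decide +kernel]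
    exact W.ρ₂_y

theorem inv_conj {g : G} {p q : Q} (h : g * W.e p * g⁻¹ = W.e q) : g⁻¹ * W.e q * g⁻¹⁻¹ = W.e p := by
  rw [← h]; group

/-- The substitution `a ↦ a z`, `x ↦ y a`, `y ↦ x a`. -/
def mirror : Setup G where
  base := W.base
  e := W.e.comp miQ
  e_inj := W.e_inj.comp (Function.LeftInverse.injective (g := fun q => miQ (miQ (miQ q))) miQ_miQ)
  e_range g := by
    rw [W.e_range]
    exact ⟨fun ⟨q, h⟩ => ⟨miQ (miQ (miQ q)), by simp [miQ_miQ, h]⟩, fun ⟨q, h⟩ => ⟨miQ q, h⟩⟩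
  e_t := (congrArg W.e (by decide +kernel : miQ tQ = tQ)).trans W.e_t
  ψ₁ := W.ψ₁
  ψ₂ := W.ψ₂
  ψ₁_mul := W.ψ₁_mul
  ψ₂_mul := W.ψ₂_mul
  ψ₁_e q := by rw [MonoidHom.comp_apply, W.ψ₁_e, (ct_miQ q).1]
  ψ₂_e q := by rw [MonoidHom.comp_apply, W.ψ₂_e, (ct_miQ q).2]
  inv_class v h1 h2 := by
    obtain ⟨c, q, hc, hq, h⟩ := W.inv_class v h1 h2
    refine ⟨c, miQ (miQ (miQ q)), hc, fun p => ?_, by rw [MonoidHom.comp_apply, miQ_miQ]; exact h⟩
    have := congrArg (fun r => miQ (miQ (miQ r))) (hq (miQ p))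
    simpa [miQ_miQ] using this
  derA q := by
    rw [MonoidHom.comp_apply, MonoidHom.comp_apply, show miQ aQ = aQ * zQ by decide +kernel,
      W.derB, (inA_miQ q).2]
  derB q := by
    rw [MonoidHom.comp_apply, MonoidHom.comp_apply, show miQ (aQ * zQ) = aQ by decide +kernel,
      W.derA, (inA_miQ q).1]
  centA c ht ha hz hy := by
    simp only [MonoidHom.comp_apply, show miQ aQ = aQ * zQ by decide +kernel,
      show miQ zQ = zQ by decide +kernel, show miQ yQ = xQ * aQ by decide +kernel, map_mul] at ha hz hy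
    have ha' : Commute c (W.e aQ) := by
      have h2 := (show Commute c (W.e aQ * W.e zQ) from ha).mul_right ((show Commute c (W.e zQ) from hz).inv_right)
      simpa using h2
    refine W.centB c ht ha' hz ?_
    have h2 := (show Commute c (W.e xQ * W.e aQ) from hy).mul_right ha'.inv_right
    simpa [Commute, SemiconjBy] using h2
  centB c ht ha hz hx := by
    simp only [MonoidHom.comp_apply, show miQ aQ = aQ * zQ by decide +kernel,
      show miQ zQ = zQ by decide +kernel, show miQ xQ = yQ * aQ by decide +kernel, map_mul] at ha hz hx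
    have ha' : Commute c (W.e aQ) := by
      have h2 := (show Commute c (W.e aQ * W.e zQ) from ha).mul_right ((show Commute c (W.e zQ) from hz).inv_right)
      simpa using h2
    refine W.centA c ht ha' hz ?_
    have h2 := (show Commute c (W.e yQ * W.e aQ) from hx).mul_right ha'.inv_right
    simpa [Commute, SemiconjBy] using h2
  ρ₁ := W.ρ₂
  ρ₁_t := W.ρ₂_t
  ρ₁_a := by
    simp only [MonoidHom.comp_apply]
    rw [show miQ aQ = aQ * zQ by decide +kernel, show miQ xQ = aQ * yQ by decide +kernel]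
    exact W.ρ₂_az
  ρ₁_x := by
    simp only [MonoidHom.comp_apply]
    rw [show miQ xQ = aQ * yQ by decide +kernel, show miQ (xQ * zQ) = aQ * yQ * zQ by decide +kernel]
    exact W.ρ₂_ay
  ρ₁_z := by
    simp only [MonoidHom.comp_apply]
    rw [show miQ zQ = zQ by decide +kernel, show miQ (xQ * aQ * zQ) = yQ by decide +kernel]
    exact W.ρ₂_z
  ρ₂ := W.ρ₁⁻¹
  ρ₂_t := (show Commute W.ρ₁ W.base.t from W.ρ₁_t).inv_left
  ρ₂_a := by
    simp only [MonoidHom.comp_apply]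
    rw [show miQ aQ = aQ * zQ by decide +kernel]
    refine W.inv_conj ?_
    rw [W.conj_mul W.ρ₁_a W.ρ₁_z]
    exact congrArg W.e (by decide +kernel)
  ρ₂_z := by
    simp only [MonoidHom.comp_apply]
    rw [show miQ zQ = zQ by decide +kernel, show miQ yQ = xQ * aQ by decide +kernel]
    refine W.inv_conj ?_
    rw [W.conj_mul W.ρ₁_x W.ρ₁_a]
    exact congrArg W.e (by decide +kernel)
  ρ₂_y := by
    simp only [MonoidHom.comp_apply]
    rw [show miQ yQ = xQ * aQ by decide +kernel, show miQ (yQ * zQ) = xQ * aQ * zQ by decide +kernel]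
    exact W.inv_conj W.ρ₁_z'

@[simp] theorem twist_base : W.twist.base = W.base := rfl

@[simp] theorem mirror_base : W.mirror.base = W.base := rfl

end Setup

end Cfsg.Agent.SixCentralizer
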