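/-
A model of the normalizer of `S` in the pattern `P0`, and the count of the classes outside `S`.

* `node_mul` : the product of `S ∪ S u`
* `odd_outside` : any admissible set of classes outside `S` has odd size
-/
import Cfsg.Agent.Lib.SixCentralizer.Setup
import Cfsg.Agent.EqLemmas

set_option autoImplicit false
set_option maxRecDepth 100000
set_option synthInstance.maxSize 4000

namespace Cfsg.Agent.SixCentralizer

/-- The action of an outside involution commuting with `t y`. -/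
def phiQ (A X : Q) : Q → Q := ext (tQ * zQ) A X (yQ * zQ)

/-- Representatives modulo `z`. -/
def halfQ : List Q :=
  [1, yQ, xQ, xQ * yQ, aQ, aQ * yQ, aQ * xQ, aQ * xQ * yQ,
   tQ, tQ * yQ, tQ * xQ, tQ * xQ * yQ, tQ * aQ, tQ * aQ * yQ, tQ * aQ * xQ, tQ * aQ * xQ * yQ]

/-- The product of two elements of `S ∪ S u`, given by flags and coordinates. -/
def nodeMul (φ : Q → Q) (v w : Bool × Q) : Bool × Q :=
  (xor v.1 w.1, v.2 * (if v.1 then φ w.2 else w.2))

/-- Two elements commute. -/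
def NodeComm (φ : Q → Q) (v w : Bool × Q) : Prop := nodeMul φ v w = nodeMul φ w v

instance (φ : Q → Q) (v : Bool × Q) : DecidablePred (NodeComm φ v) := fun _ =>
  inferInstanceAs (Decidable (_ = _))

/-- The outside candidates for conjugates of `t`. -/
def candQ (φ : Q → Q) : List Q := halfQ.filter fun q => q * φ q = 1

/-- The classes of conjugates of `t`. -/
def nodes (D : List Q) : List (Bool × Q) :=
  [(false, tQ), (false, tQ * yQ), (false, tQ * aQ * xQ)] ++ D.map fun q => (true, q)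

/-- The other classes meeting the centralizer of `v`. -/
def partnersOf (φ : Q → Q) (D : List Q) (v : Bool × Q) : List (Bool × Q) :=
  (nodes D).filter fun w => decide (w ≠ v) && decide (NodeComm φ v w)

/-- Exactly two partners, not commuting. -/
def GoodNode (φ : Q → Q) (D : List Q) (v : Bool × Q) : Prop :=
  (partnersOf φ D v).length = 2 ∧
    ∀ a ∈ partnersOf φ D v, ∀ b ∈ partnersOf φ D v, a ≠ b → ¬ NodeComm φ a b

instance (φ : Q → Q) (D : List Q) : DecidablePred (GoodNode φ D) := fun _ =>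
  inferInstanceAs (Decidable (_ ∧ _))

theorem odd_outside_aux :
    (∀ D ∈ (candQ (phiQ aQ xQ)).sublists, (∀ v ∈ nodes D, GoodNode (phiQ aQ xQ) D v) → D.length % 2 = 1) ∧
    (∀ D ∈ (candQ (phiQ (aQ * zQ) xQ)).sublists,
      (∀ v ∈ nodes D, GoodNode (phiQ (aQ * zQ) xQ) D v) → D.length % 2 = 1) ∧
    (∀ D ∈ (candQ (phiQ aQ (xQ * zQ))).sublists,
      (∀ v ∈ nodes D, GoodNode (phiQ aQ (xQ * zQ)) D v) → D.length % 2 = 1) ∧
    (∀ D ∈ (candQ (phiQ (aQ * zQ) (xQ * zQ))).sublists,
      (∀ v ∈ nodes D, GoodNode (phiQ (aQ * zQ) (xQ * zQ)) D v) → D.length % 2 = 1) := by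
  decide +kernel

theorem odd_outside {A X : Q} (hA : A = aQ ∨ A = aQ * zQ) (hX : X = xQ ∨ X = xQ * zQ) {D : List Q}
    (hD : D ∈ (candQ (phiQ A X)).sublists) (h : ∀ v ∈ nodes D, GoodNode (phiQ A X) D v) :
    D.length % 2 = 1 := by
  obtain ⟨h1, h2, h3, h4⟩ := odd_outside_aux
  rcases hA with rfl | rfl <;> rcases hX with rfl | rfl
  exacts [h1 D hD h, h3 D hD h, h2 D hD h, h4 D hD h]

theorem half_cases : ∀ q : Q, ∃ p ∈ halfQ, q = p ∨ q = p * zQ := by decide +kernel

theorem half_inj : ∀ p ∈ halfQ, ∀ q ∈ halfQ, (p = q ∨ p = q * zQ) → p = q := by decide +kernel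

theorem half_nodup : halfQ.Nodup := by decide +kernel

theorem six_nodes : ∀ q ∈ ({tQ, tQ * zQ, tQ * yQ, tQ * yQ * zQ, tQ * xQ * aQ, tQ * xQ * aQ * zQ} : Finset Q),
    ∃ p ∈ [tQ, tQ * yQ, tQ * aQ * xQ], q = p ∨ q = p * zQ := by decide +kernel

end Cfsg.Agent.SixCentralizer
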