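/-
The fusion of `t` in the centre of a Sylow 2-subgroup of its centralizer.

* `P0` : only `t z`; `P2` : `t z`, `t a`, `t a z`
* `cases` : without subgroup of index 2, `P0`, or `P2` for the data or for its twist
-/
import Cfsg.Agent.Lib.SixCentralizer.Setup
import Cfsg.Agent.EqLemmas

set_option autoImplicit false
set_option maxRecDepth 100000

namespace Cfsg.Agent.SixCentralizer

/-- Central in `Q`. -/
def Cen (q : Q) : Prop := ∀ p : Q, p * q = q * p

instance : DecidablePred Cen := fun _ => inferInstanceAs (Decidable (∀ _ : Q, _))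

/-- An involution whose central representative is `tQ`, `P` or `R`. -/
def OkQ (P R q : Q) : Prop := q * q = 1 ∧ (repQ q = tQ ∨ repQ q = P ∨ repQ q = R)

instance (P R : Q) : DecidablePred (OkQ P R) := fun _ => inferInstanceAs (Decidable (_ ∧ _))

universe u

variable {G : Type u} [Group G]

namespace Setup

variable (W : Setup G)

/-- Normalizing `S`. -/
def Nrm (g : G) : Prop := ∀ s ∈ W.base.S, g * s * g⁻¹ ∈ W.base.S

theorem Nrm.mul {W : Setup G} {g h : G} (hg : W.Nrm g) (hh : W.Nrm h) : W.Nrm (g * h) := fun s hs => by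
  have := hg _ (hh s hs)
  simpa [mul_assoc] using this

theorem nrm_inv [Finite G] {W : Setup G} {g : G} (hg : W.Nrm g) : W.Nrm g⁻¹ := by
  intro s hs
  obtain ⟨p, hp⟩ := (Finite.injective_iff_surjective.mp
    (show Function.Injective (fun p : W.base.S => (⟨g * p * g⁻¹, hg p p.2⟩ : W.base.S)) from
      fun p q h => by simpa using congrArg Subtype.val h)) ⟨s, hs⟩
  have e : g * p * g⁻¹ = s := congrArg Subtype.val hp
  rw [← e]
  have : g⁻¹ * (g * p * g⁻¹) * g⁻¹⁻¹ = (p : G) := by group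
  rw [this]
  exact p.2

theorem nrm_mem {g : G} (hg : g ∈ W.base.S) : W.Nrm g := fun _ hs =>
  W.base.S.mul_mem (W.base.S.mul_mem hg hs) (W.base.S.inv_mem hg)

/-- The action of an element normalizing `S`. -/
theorem exists_actHom {g : G} (hg : W.Nrm g) :
    ∃ φ : Q →* Q, Function.Injective φ ∧ ∀ q, g * W.e q * g⁻¹ = W.e (φ q) := by
  choose φ hφ using fun q => W.exists_act hg q
  refine ⟨MonoidHom.mk' φ fun p q => W.e_inj ?_, fun p q h => W.e_inj ?_, hφ⟩
  · rw [← hφ, map_mul, map_mul, ← hφ, ← hφ]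
    group
  · have h1 := hφ p
    have h2 := hφ q
    rw [show φ p = φ q from h, ← h2] at h1
    simpa using h1

theorem act_inD {g : G} {φ : Q →* Q} (hφ : ∀ q, g * W.e q * g⁻¹ = W.e (φ q)) (q : Q) :
    W.base.InD (W.e (φ q)) ↔ W.base.InD (W.e q) := by
  rw [← hφ, Base.inD_conj_iff]

theorem act_center {φ : Q →* Q} (hφ : Function.Injective φ) {q : Q} : Cen (φ q) ↔ Cen q := by
  constructor
  · intro h p
    apply hφ
    rw [map_mul, map_mul, h]
  · intro h p
    obtain ⟨p', rfl⟩ := (Finite.injective_iff_surjective.mp hφ) p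
    rw [← map_mul, ← map_mul, h]

theorem sq_cases : ∀ q : Q, q * q = 1 ∨ q * q = zQ := by decide +kernel

theorem act_z {φ : Q →* Q} (hφ : Function.Injective φ) : φ zQ = zQ := by
  have e : xQ * yQ * (xQ * yQ) = zQ := by decide +kernel
  rw [← e, map_mul]
  rcases sq_cases (φ (xQ * yQ)) with h | h
  · exfalso
    rw [← map_mul, e, ← map_one φ] at h
    exact absurd (hφ h) (by decide +kernel)
  · rw [h, e]

/-- An element normalizing `S` and fixing `t` lies in `S`. -/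
theorem mem_of_fix {g : G} (hg : W.Nrm g) (h : g * W.base.t * g⁻¹ = W.base.t) : g ∈ W.base.S :=
  W.base.S_self g (by rw [← mul_inv_eq_iff_eq_mul]; exact h) hg

theorem cen_comm {q : Q} (hq : Cen q) : ∀ s ∈ W.base.S, s * W.e q = W.e q * s := by
  intro s hs
  obtain ⟨p, rfl⟩ := (W.e_range s).mp hs
  rw [← map_mul, ← map_mul, hq p]

theorem _root_.Cfsg.Agent.SixCentralizer.Cen.comm_e {q : Q} (hq : Cen q) (W : Setup G) (p : Q) :
    W.e p * W.e q = W.e q * W.e p := by rw [← map_mul, ← map_mul, hq p]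

/-- A conjugate of `t` in the centre is reached inside the normalizer of `S`. -/
theorem exists_norm [Finite G] {q : Q} (hc : Cen q) (hq : W.base.InD (W.e q)) :
    ∃ g, W.Nrm g ∧ g * W.base.t * g⁻¹ = W.e q := by
  obtain ⟨g, hg, hgS, -⟩ := W.base.exists_onto hq W.base.S rfl (W.cen_comm hc)
  exact ⟨g⁻¹, nrm_inv hgS, by rw [← hg]; group⟩

/-- `N(S)/S` acts freely on the central conjugates of `t`. -/
theorem mem_of_fix_center [Finite G] {g : G} (hg : W.Nrm g) {q : Q} (hc : Cen q)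
    (hq : W.base.InD (W.e q)) (h : g * W.e q * g⁻¹ = W.e q) : g ∈ W.base.S := by
  obtain ⟨n, hn, hnq⟩ := W.exists_norm hc hq
  have h1 := W.mem_of_fix ((nrm_inv hn).mul (hg.mul hn)) (by
    calc n⁻¹ * (g * n) * W.base.t * (n⁻¹ * (g * n))⁻¹
        = n⁻¹ * (g * (n * W.base.t * n⁻¹) * g⁻¹) * n := by group
      _ = W.base.t := by rw [hnq, h, ← hnq]; group)
  have := hn _ h1
  simpa [mul_assoc] using this

theorem mem_S_act {g : G} (hg : g ∈ W.base.S) {φ : Q →* Q} (hφ : ∀ q, g * W.e q * g⁻¹ = W.e (φ q))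
    (q : Q) : φ q = q ∨ φ q = q * zQ := by
  obtain ⟨p, rfl⟩ := (W.e_range g).mp hg
  have h := hφ q
  rw [← map_inv, ← map_mul, ← map_mul, W.e_eq] at h
  rw [← h]
  clear h hφ φ hg
  revert p q
  decide +kernel

theorem mem_S_act_center {g : G} (hg : g ∈ W.base.S) {q : Q} (hq : Cen q) :
    g * W.e q * g⁻¹ = W.e q := by
  rw [W.cen_comm hq g hg]; group

/-- The parity of the number of central conjugates of `t` with nontrivial `ψ₁`. -/
theorem parity [Finite G] (hno : ¬ ∃ K : Subgroup G, K.index = 2) :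
    W.base.InD (W.e (tQ * zQ)) ↔
      (W.base.InD (W.e (tQ * aQ)) ↔ W.base.InD (W.e (tQ * aQ * zQ))) := by
  classical
  by_contra hcon
  apply hno
  let C := Subgroup.centralizer ({W.base.t} : Set G)
  have hC : ∀ g, g ∈ C ↔ g * W.base.t = W.base.t * g := fun g => Subgroup.mem_centralizer_singleton_iff
  let ψ : ↥C →* Multiplicative (ZMod 2) := MonoidHom.mk' (fun c => Multiplicative.ofAdd (W.ψ₁ c))
    (fun c d => by rw [← ofAdd_add, ← W.ψ₁_mul _ _ ((hC _).mp c.2) ((hC _).mp d.2)]; rfl)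
  have hval : ∀ v, v * W.base.t = W.base.t * v → Base.val ψ v = Multiplicative.ofAdd (W.ψ₁ v) :=
    fun v hv => Base.val_of_mem ψ ((hC v).mpr hv)
  let R0 := ({tQ, tQ * zQ, tQ * aQ, tQ * aQ * zQ} : Finset Q).filter (fun q => W.base.InD (W.e q))
  have hR0 : ∀ q ∈ R0, W.base.InD (W.e q) ∧ Cen q ∧ ct q = 1 := fun q hq => by
    obtain ⟨h1, h2⟩ := Finset.mem_filter.mp hq
    exact ⟨h2, (show ∀ q ∈ ({tQ, tQ * zQ, tQ * aQ, tQ * aQ * zQ} : Finset Q), Cen q ∧ ct q = 1 by
      decide +kernel) q h1⟩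
  refine W.base.index_two_of_reps (IsPGroup.of_card (n := 1) (by simp)) ψ (c := Multiplicative.ofAdd 1)
    (by decide +kernel) (R0.image W.e) ?_ ?_ ?_ ?_
  · intro v hv
    obtain ⟨q, hq, rfl⟩ := Finset.mem_image.mp hv
    obtain ⟨hD, hc, h1⟩ := hR0 q hq
    refine ⟨⟨(hC _).mpr (W.e_comm_t q), hD, W.base.S, fun s hs => (hC s).mpr (W.base.S_comm s hs), rfl,
      W.cen_comm hc⟩, ?_⟩
    rw [hval _ (W.e_comm_t q), W.ψ₁_e, h1]
  · rintro v hv w hw ⟨c, hc, rfl⟩
    obtain ⟨q, hq, rfl⟩ := Finset.mem_image.mp hv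
    obtain ⟨q', hq', e⟩ := Finset.mem_image.mp hw
    refine (W.base.eq_of_conj_center (W.cen_comm (hR0 q hq).2.1) ((hC c).mp hc) ?_).symm
    rw [← e]
    exact W.cen_comm (hR0 q' hq').2.1
  · intro v hv hne
    have hvt := (hC v).mp hv.1
    obtain ⟨c, q, hc, hq, h⟩ := W.inv_class v hvt hv.2.1.sq
    have h1 : W.ψ₁ v = 1 := by
      rw [hval v hvt] at hne
      revert hne
      generalize W.ψ₁ v = b
      revert b
      decide +kernel
    refine ⟨W.e q, Finset.mem_image.mpr ⟨q, Finset.mem_filter.mpr ⟨?_, ?_⟩, rfl⟩, c, (hC c).mpr hc, h⟩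
    · have h2 : ct q = 1 := by rw [← W.ψ₁_e, ← h, W.ψ₁_conj hc hvt, h1]
      exact (show ∀ q : Q, Cen q → ct q = 1 → q ∈ ({tQ, tQ * zQ, tQ * aQ, tQ * aQ * zQ} : Finset Q) by
        decide +kernel) q hq h2
    · rw [← h]; exact hv.2.1.conj c
  · rw [Finset.card_image_of_injective _ W.e_inj]
    have ht : W.base.InD (W.e tQ) := by rw [W.e_t]; exact W.base.inD_t
    simp only [R0, Finset.filter_insert, Finset.filter_singleton]
    by_cases h1 : W.base.InD (W.e (tQ * zQ)) <;> by_cases h2 : W.base.InD (W.e (tQ * aQ)) <;>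
      by_cases h3 : W.base.InD (W.e (tQ * aQ * zQ)) <;>
      simp only [h1, h2, h3, ht, iff_self, iff_false, iff_true, not_true_eq_false, not_false_eq_true]
        at hcon ⊢ <;>
      exact by decide +kernel

/-- Only `t z` is fused to `t` in the centre. -/
def P0 : Prop := W.base.InD (W.e (tQ * zQ)) ∧ ¬ W.base.InD (W.e aQ) ∧ ¬ W.base.InD (W.e (aQ * zQ)) ∧
  ¬ W.base.InD (W.e (tQ * aQ)) ∧ ¬ W.base.InD (W.e (tQ * aQ * zQ))

/-- The conjugates of `t` in the centre form `t⟨a, z⟩`. -/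
def P2 : Prop := W.base.InD (W.e (tQ * zQ)) ∧ W.base.InD (W.e (tQ * aQ)) ∧
  W.base.InD (W.e (tQ * aQ * zQ)) ∧ ¬ W.base.InD (W.e aQ) ∧ ¬ W.base.InD (W.e (aQ * zQ))

theorem center_list : ∀ q : Q, Cen q → q = 1 ∨ q = zQ ∨ q = tQ ∨ q = tQ * zQ ∨ q = aQ ∨ q = aQ * zQ ∨
    q = tQ * aQ ∨ q = tQ * aQ * zQ := by decide +kernel

/-- The case of three central conjugates `t, P, R`. -/
theorem three [Finite G] {P R : Q}
    (hO : ∀ q, Cen q → (W.base.InD (W.e q) ↔ (q = tQ ∨ q = P ∨ q = R)))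
    (hP : Cen P) (hR : Cen R) (h1 : P ≠ tQ) (h2 : R ≠ tQ) (h3 : P ≠ R) :
    ∃ g : G, ∃ φ : Q →* Q, Function.Injective φ ∧ (∀ q, g * W.e q * g⁻¹ = W.e (φ q)) ∧ φ tQ = P ∧ φ P = R ∧
      φ R = tQ ∧ (∀ q, φ (φ (φ q)) = q ∨ φ (φ (φ q)) = q * zQ) := by
  have hPD : W.base.InD (W.e P) := (hO P hP).mpr (Or.inr (Or.inl rfl))
  have htc : Cen tQ := by decide +kernel
  obtain ⟨g, hg, hgt⟩ := W.exists_norm hP hPD
  obtain ⟨φ, hi, hφ⟩ := W.exists_actHom hg
  have et : φ tQ = P := W.e_inj (by rw [← hφ, W.e_t, hgt])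
  have key : ∀ q, Cen q → W.base.InD (W.e q) → φ q = tQ ∨ φ q = P ∨ φ q = R := fun q hq hd =>
    (hO _ ((act_center hi).mpr hq)).mp ((W.act_inD hφ q).mpr hd)
  have hne : ∀ q, Cen q → W.base.InD (W.e q) → φ q ≠ q := fun q hq hd h => by
    have := W.mem_S_act_center (W.mem_of_fix_center hg hq hd (by rw [hφ, h])) htc
    rw [hφ, et, W.e_eq] at this
    exact h1 this
  have hRD : W.base.InD (W.e R) := (hO R hR).mpr (Or.inr (Or.inr rfl))
  have eR : φ R = tQ := by
    rcases key R hR hRD with h | h | h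
    · exact h
    · exact absurd (hi (h.trans et.symm)) h2
    · exact absurd h (hne R hR hRD)
  have eP : φ P = R := by
    rcases key P hP hPD with h | h | h
    · exact absurd (hi (h.trans eR.symm)) h3
    · exact absurd h (hne P hP hPD)
    · exact h
  have hmem : g * (g * g) ∈ W.base.S := by
    refine W.mem_of_fix (hg.mul (hg.mul hg)) ?_
    calc g * (g * g) * W.base.t * (g * (g * g))⁻¹ = g * (g * (g * W.base.t * g⁻¹) * g⁻¹) * g⁻¹ := by group
      _ = W.base.t := by rw [hgt, hφ, eP, hφ, eR, W.e_t]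
  refine ⟨g, φ, hi, hφ, et, eP, eR, W.mem_S_act hmem (φ := φ.comp (φ.comp φ)) fun q => ?_⟩
  simp only [MonoidHom.comp_apply, ← hφ]
  group

theorem inD_invol [Finite G] {P R : Q}
    (hO : ∀ q, Cen q → (W.base.InD (W.e q) ↔ (q = tQ ∨ q = P ∨ q = R))) (q : Q) :
    W.base.InD (W.e q) ↔ q * q = 1 ∧ (repQ q = tQ ∨ repQ q = P ∨ repQ q = R) := by
  constructor
  · intro h
    have hq := W.inD_sq h
    exact ⟨hq, (hO _ ((show ∀ q : Q, q * q = 1 → Cen (repQ q) by decide +kernel) q hq)).mp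
      ((W.inD_rep hq).mp h)⟩
  · rintro ⟨hq, h⟩
    exact (W.inD_rep hq).mpr ((hO _ ((show ∀ q : Q, q * q = 1 → Cen (repQ q) by decide +kernel) q hq)).mpr h)

/-- The two partners differ by `t`: no such three conjugates. -/
theorem no_three_same [Finite G] {P : Q} (hP : P = aQ ∨ P = aQ * zQ)
    (hO : ∀ q, Cen q → (W.base.InD (W.e q) ↔ (q = tQ ∨ q = P ∨ q = tQ * P))) : False := by
  have hc : Cen P ∧ Cen (tQ * P) ∧ P ≠ tQ ∧ tQ * P ≠ tQ ∧ P ≠ tQ * P := by
    rcases hP with rfl | rfl <;> decide +kernel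
  obtain ⟨g, φ, hi, hφ, et, -, -, -⟩ := W.three hO hc.1 hc.2.1 hc.2.2.1 hc.2.2.2.1 hc.2.2.2.2
  -- the noncentral conjugates in the class of `P`
  let u : Q := if P = aQ then xQ else aQ * yQ
  have hu : ¬ Cen u ∧ u * u = 1 ∧ repQ u = P ∧ (tQ * u) * (tQ * u) = 1 ∧ repQ (tQ * u) = tQ * P := by
    rcases hP with rfl | rfl <;> decide +kernel
  have hd1 := (W.act_inD hφ u).mpr ((W.inD_invol hO u).mpr ⟨hu.2.1, Or.inr (Or.inl hu.2.2.1)⟩)
  have hd2 := (W.act_inD hφ (tQ * u)).mpr ((W.inD_invol hO _).mpr ⟨hu.2.2.2.1, Or.inr (Or.inr hu.2.2.2.2)⟩)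
  rw [map_mul, et] at hd2
  rw [W.inD_invol hO] at hd1 hd2
  have hd0 : ¬ Cen (φ u) := fun h => hu.1 ((act_center hi).mp h)
  have hnone : ∀ q : Q, OkQ P (tQ * P) q → OkQ P (tQ * P) (P * q) → Cen q := by
    rcases hP with rfl | rfl <;> decide +kernel
  exact hd0 (hnone _ hd1 hd2)

/-- The two partners differ by `t z`: no such three conjugates. -/
theorem no_three_cross [Finite G] {P u : Q} {ρ : G}
    (hPu : (P = aQ ∧ u = xQ) ∨ (P = aQ * zQ ∧ u = aQ * yQ))
    (hρP : ρ * W.e P * ρ⁻¹ = W.e u)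
    (hρR : ρ * W.e (tQ * P * zQ) * ρ⁻¹ = W.e (tQ * P * zQ))
    (hO : ∀ q, Cen q → (W.base.InD (W.e q) ↔ (q = tQ ∨ q = P ∨ q = tQ * P * zQ))) : False := by
  have hc : Cen P ∧ Cen (tQ * P * zQ) ∧ P ≠ tQ ∧ tQ * P * zQ ≠ tQ ∧ P ≠ tQ * P * zQ := by
    rcases hPu with ⟨rfl, rfl⟩ | ⟨rfl, rfl⟩ <;> decide +kernel
  obtain ⟨g, φ, hi, hφ, et, eP, eR, e3⟩ := W.three hO hc.1 hc.2.1 hc.2.2.1 hc.2.2.2.1 hc.2.2.2.2
  let u' : Q := if P = aQ then tQ * aQ * yQ else tQ * xQ
  have hu : ¬ Cen u ∧ u * u = 1 ∧ repQ u = P ∧ ct u = 0 ∧ ¬ Cen u' ∧ u' * u' = 1 ∧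
      repQ u' = tQ * P * zQ ∧ u' ≠ u ∧ u' ≠ u * zQ := by
    rcases hPu with ⟨rfl, rfl⟩ | ⟨rfl, rfl⟩ <;> decide +kernel
  have hlist : ∀ q : Q, q * q = 1 → ¬ Cen q → (repQ q = tQ ∨ repQ q = P ∨ repQ q = tQ * P * zQ) →
      q = u ∨ q = u * zQ ∨ q = u' ∨ q = u' * zQ := by
    rcases hPu with ⟨rfl, rfl⟩ | ⟨rfl, rfl⟩ <;> decide +kernel
  have himg : ∀ q : Q, W.base.InD (W.e q) → ¬ Cen q →
      φ q = u ∨ φ q = u * zQ ∨ φ q = u' ∨ φ q = u' * zQ := fun q hd hn => by
    obtain ⟨h1, h2⟩ := (W.inD_invol hO _).mp ((W.act_inD hφ q).mpr hd)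
    exact hlist _ h1 (fun h => hn ((act_center hi).mp h)) h2
  have hz : φ zQ = zQ := act_z hi
  have hzz : zQ * zQ = 1 := by decide +kernel
  have hu0 := himg u ((W.inD_invol hO u).mpr ⟨hu.2.1, Or.inr (Or.inl hu.2.2.1)⟩) hu.1
  have hu1 := himg u' ((W.inD_invol hO u').mpr ⟨hu.2.2.2.2.2.1, Or.inr (Or.inr hu.2.2.2.2.2.2.1)⟩)
    hu.2.2.2.2.1
  -- `φ` fixes the two pairs
  have hfix : φ u = u ∨ φ u = u * zQ := by
    have hux : u' * zQ ≠ u ∧ u' * zQ ≠ u * zQ := by
      refine ⟨fun h => hu.2.2.2.2.2.2.2.2 ?_, fun h => hu.2.2.2.2.2.2.2.1 (mul_right_cancel h)⟩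
      rw [← h, mul_assoc, hzz, mul_one]
    have h3 := e3 u
    rcases hu0 with h | h | h | h
    · exact Or.inl h
    · exact Or.inr h
    all_goals
      exfalso
      rcases hu1 with k | k | k | k <;>
        simp only [h, k, map_mul, hz, mul_assoc, hzz, mul_one] at h3 <;>
        first
          | exact h3.elim hu.2.2.2.2.2.2.2.1 hu.2.2.2.2.2.2.2.2
          | exact h3.elim hux.1 hux.2
  -- an element of the centralizer moves `t P z` to the pair of `u`
  set w := g * (ρ * (g * g)) with hw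
  have key : ∀ q, w * W.e q * w⁻¹ = g * (ρ * (g * (g * W.e q * g⁻¹) * g⁻¹) * ρ⁻¹) * g⁻¹ := fun q => by
    rw [hw]; group
  have hwt : w * W.base.t = W.base.t * w := by
    rw [← mul_inv_eq_iff_eq_mul, ← W.e_t, key, hφ, et, hφ, eP, hρR, hφ, eR]
  have hwR := key (tQ * P * zQ)
  rw [hφ, eR, hφ, et, hρP, hφ] at hwR
  have h1 := congrArg W.ψ₁ hwR
  rw [W.ψ₁_conj hwt (W.e_comm_t _), W.ψ₁_e, W.ψ₁_e] at h1
  have h0 : ct (φ u) = 0 := by
    rcases hfix with h | h <;> rw [h]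
    · exact hu.2.2.2.1
    · exact (show ∀ q : Q, ct q = 0 → ct (q * zQ) = 0 by decide +kernel) u hu.2.2.2.1
  rw [h0] at h1
  revert h1
  rcases hPu with ⟨rfl, rfl⟩ | ⟨rfl, rfl⟩ <;> decide +kernel

/-- Six central conjugates are impossible. -/
theorem no_six [Finite G] (hz : W.base.InD (W.e (tQ * zQ))) (ha : W.base.InD (W.e aQ))
    (hta : W.base.InD (W.e (tQ * aQ))) : False := by
  have hc : Cen tQ ∧ Cen (tQ * zQ) ∧ Cen aQ ∧ Cen (tQ * aQ) ∧ Cen (tQ * aQ * zQ) := by decide +kernel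
  obtain ⟨g, hg, hgt⟩ := W.exists_norm hc.2.1 hz
  obtain ⟨φ, hi, hφ⟩ := W.exists_actHom hg
  have et : φ tQ = tQ * zQ := W.e_inj (by rw [← hφ, W.e_t, hgt])
  have ez : φ zQ = zQ := act_z hi
  have ett : φ (φ tQ) = tQ := by
    rw [et, map_mul, et, ez]
    decide +kernel
  have hne : ∀ q, Cen q → W.base.InD (W.e q) → φ q ≠ q := fun q hq hd h => by
    have := W.mem_S_act_center (W.mem_of_fix_center hg hq hd (by rw [hφ, h])) hc.1
    rw [hφ, et, W.e_eq] at this
    exact absurd this (by decide +kernel)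
  have hmem : g * g ∈ W.base.S := by
    refine W.mem_of_fix (hg.mul hg) ?_
    calc g * g * W.base.t * (g * g)⁻¹ = g * (g * W.base.t * g⁻¹) * g⁻¹ := by group
      _ = W.base.t := by rw [← W.e_t, hφ, hφ, ett]
  have e2 : φ (φ aQ) = aQ := by
    have h := W.mem_S_act_center hmem hc.2.2.1
    have : g * g * W.e aQ * (g * g)⁻¹ = g * (g * W.e aQ * g⁻¹) * g⁻¹ := by group
    rw [this, hφ, hφ, W.e_eq] at h
    exact h
  have hd := (W.act_inD hφ aQ).mpr ha
  have n1 := hne _ hc.2.2.1 ha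
  have n2 := hne _ hc.2.2.2.1 hta
  rw [map_mul, et] at n2
  rcases center_list _ ((act_center hi).mpr hc.2.2.1) with h | h | h | h | h | h | h | h
  · exact absurd (hi (h.trans (map_one φ).symm)) (by decide +kernel)
  · exact absurd (hi (h.trans ez.symm)) (by decide +kernel)
  · exact absurd (hi (h.trans ett.symm)) (by rw [et]; decide +kernel)
  · exact absurd (hi (h.trans et.symm)) (by decide +kernel)
  · exact n1 h
  · rw [h] at n2; exact n2 (by decide +kernel)
  · rw [h, map_mul, et, h] at e2; exact absurd e2 (by decide +kernel)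
  · rw [h, map_mul, map_mul, et, ez, h] at e2; exact absurd e2 (by decide +kernel)

theorem cases [Finite G] (hno : ¬ ∃ K : Subgroup G, K.index = 2) : W.P0 ∨ W.P2 ∨ W.twist.P2 := by
  have p1 := W.parity hno
  have p2 := W.twist.parity hno
  have e1 : W.twist.e (tQ * zQ) = W.e (tQ * zQ) := congrArg W.e (by decide +kernel)
  have e2 : W.twist.e (tQ * aQ) = W.e aQ := congrArg W.e (by decide +kernel)
  have e3 : W.twist.e (tQ * aQ * zQ) = W.e (aQ * zQ) := congrArg W.e (by decide +kernel)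
  have e4 : W.twist.e aQ = W.e (tQ * aQ) := congrArg W.e (by decide +kernel)
  have e5 : W.twist.e (aQ * zQ) = W.e (tQ * aQ * zQ) := congrArg W.e (by decide +kernel)
  rw [twist_base, e1, e2, e3] at p2
  have ht : W.base.InD (W.e tQ) := by rw [W.e_t]; exact W.base.inD_t
  have h1' : ¬ W.base.InD (W.e 1) := fun h => by
    obtain ⟨g, hg⟩ := h
    rw [map_one, mul_inv_eq_one] at hg
    have : W.e tQ = W.e 1 := by rw [W.e_t, map_one]; simpa using hg
    exact absurd (W.e_inj this) (by decide +kernel)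
  have hnz := W.not_inD_z
  simp only [P2, twist_base, e1, e2, e3, e4, e5]
  by_cases hz : W.base.InD (W.e (tQ * zQ))
  · simp only [hz, true_iff] at p1 p2
    by_cases ha : W.base.InD (W.e aQ) <;> by_cases hta : W.base.InD (W.e (tQ * aQ))
    · exact (W.no_six hz ha hta).elim
    · exact Or.inr (Or.inr ⟨hz, ha, p2.mp ha, hta, fun h => hta (p1.mpr h)⟩)
    · exact Or.inr (Or.inl ⟨hz, hta, p1.mp hta, ha, fun h => ha (p2.mpr h)⟩)
    · exact Or.inl ⟨hz, ha, fun h => ha (p2.mpr h), hta, fun h => hta (p1.mpr h)⟩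
  · exfalso
    simp only [hz, false_iff] at p1 p2
    have hexcl : ∀ q, Cen q → W.base.InD (W.e q) →
        q = tQ ∨ q = aQ ∨ q = aQ * zQ ∨ q = tQ * aQ ∨ q = tQ * aQ * zQ := by
      intro q hq hd
      rcases center_list q hq with h | h | h | h | h | h | h | h
      · exact absurd (show W.base.InD (W.e _) by rw [h] at hd; exact hd) h1'
      · exact absurd (show W.base.InD (W.e _) by rw [h] at hd; exact hd) hnz
      · exact Or.inl h
      · exact absurd (show W.base.InD (W.e _) by rw [h] at hd; exact hd) hz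
      all_goals simp only [h, true_or, or_true]
    by_cases ha : W.base.InD (W.e aQ) <;> by_cases hta : W.base.InD (W.e (tQ * aQ))
    · have haz : ¬ W.base.InD (W.e (aQ * zQ)) := fun h => p2 ⟨fun _ => h, fun _ => ha⟩
      have htaz : ¬ W.base.InD (W.e (tQ * aQ * zQ)) := fun h => p1 ⟨fun _ => h, fun _ => hta⟩
      refine W.no_three_same (Or.inl rfl) fun q hq => ⟨fun hd => ?_, ?_⟩
      · rcases hexcl q hq hd with h | h | h | h | h <;> first | exact absurd (show W.base.InD (W.e _) by rw [h] at hd; exact hd) haz |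
          exact absurd (show W.base.InD (W.e _) by rw [h] at hd; exact hd) htaz | simp [h]
      · rintro (rfl | rfl | rfl) <;> assumption
    · have haz : ¬ W.base.InD (W.e (aQ * zQ)) := fun h => p2 ⟨fun _ => h, fun _ => ha⟩
      have htaz : W.base.InD (W.e (tQ * aQ * zQ)) := by
        by_contra h; exact p1 ⟨fun h' => absurd h' hta, fun h' => absurd h' h⟩
      refine W.no_three_cross (Or.inl ⟨rfl, rfl⟩) W.ρ₁_a ?_ fun q hq => ⟨fun hd => ?_, ?_⟩
      · rw [W.conj_mul (W.conj_mul (W.conj_t W.ρ₁_t) W.ρ₁_a) W.ρ₁_z]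
        exact congrArg W.e (by decide +kernel)
      · rcases hexcl q hq hd with h | h | h | h | h <;> first | exact absurd (show W.base.InD (W.e _) by rw [h] at hd; exact hd) haz |
          exact absurd (show W.base.InD (W.e _) by rw [h] at hd; exact hd) hta | simp [h]
      · rintro (rfl | rfl | rfl) <;> assumption
    · have haz : W.base.InD (W.e (aQ * zQ)) := by
        by_contra h; exact p2 ⟨fun h' => absurd h' ha, fun h' => absurd h' h⟩
      have htaz : ¬ W.base.InD (W.e (tQ * aQ * zQ)) := fun h => p1 ⟨fun _ => h, fun _ => hta⟩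
      have eR : tQ * (aQ * zQ) * zQ = tQ * aQ := by decide +kernel
      refine W.no_three_cross (Or.inr ⟨rfl, rfl⟩) W.ρ₂_az ?_ fun q hq => ⟨fun hd => ?_, ?_⟩
      · rw [eR, W.conj_mul (W.conj_t W.ρ₂_t) W.ρ₂_a]
      · rw [eR]
        rcases hexcl q hq hd with h | h | h | h | h <;> first | exact absurd (show W.base.InD (W.e _) by rw [h] at hd; exact hd) ha |
          exact absurd (show W.base.InD (W.e _) by rw [h] at hd; exact hd) htaz | simp [h]
      · rw [eR]; rintro (rfl | rfl | rfl) <;> assumption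
    · have haz : W.base.InD (W.e (aQ * zQ)) := by
        by_contra h; exact p2 ⟨fun h' => absurd h' ha, fun h' => absurd h' h⟩
      have htaz : W.base.InD (W.e (tQ * aQ * zQ)) := by
        by_contra h; exact p1 ⟨fun h' => absurd h' hta, fun h' => absurd h' h⟩
      refine W.no_three_same (Or.inr rfl) fun q hq => ⟨fun hd => ?_, ?_⟩
      · rw [← mul_assoc]
        rcases hexcl q hq hd with h | h | h | h | h <;> first | exact absurd (show W.base.InD (W.e _) by rw [h] at hd; exact hd) ha |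
          exact absurd (show W.base.InD (W.e _) by rw [h] at hd; exact hd) hta | simp [h]
      · rw [← mul_assoc]; rintro (rfl | rfl | rfl) <;> assumption

end Setup

end Cfsg.Agent.SixCentralizer
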