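/-
Local tools: the normalizer of `S`, classes in a subgroup, and large centralizers.

* `NS` : the normalizer of `S`
* `index_two_of_parity` : the transfer criterion for a function to `ZMod 2`
* `exists_model` : a large centralizer of a conjugate of `t` is a copy of `Q`
* `pair` : the pair rule in the pattern `P2`
-/
import Cfsg.Agent.Lib.SixCentralizer.Pattern
import Cfsg.Agent.EqLemmas

set_option autoImplicit false
set_option maxRecDepth 100000
set_option synthInstance.maxSize 4000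
set_option synthInstance.maxHeartbeats 200000
set_option linter.style.haveILetI false

namespace Cfsg.Agent.SixCentralizer

theorem comm_cases : ∀ p q : Q, p * q = q * p ∨ p * q = q * p * zQ := by decide +kernel

theorem sq_comm_cases : ∀ p q r : Q, p * q ≠ q * p → r * r = 1 ∨ r * r * (q * p) = p * q := by decide +kernel

theorem card_Q : Nat.card Q = 32 := by rw [Nat.card_eq_fintype_card]; decide +kernel

universe u

variable {G : Type u} [Group G]

/-- The conjugacy class in a subgroup. -/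
theorem class_card [Finite G] (H : Subgroup G) (v : G) :
    {u : G | ∃ h ∈ H, h * v * h⁻¹ = u}.ncard * Nat.card ↥(H ⊓ Subgroup.centralizer {v}) = Nat.card H := by
  letI : MulAction ↥H G := MulAction.compHom G (ConjAct.toConjAct.toMonoidHom.comp H.subtype)
  have hsmul : ∀ (h : ↥H) (g : G), h • g = (h : G) * g * (h : G)⁻¹ := fun h g => ConjAct.toConjAct_smul _ _
  have horb : MulAction.orbit ↥H v = {u : G | ∃ h ∈ H, h * v * h⁻¹ = u} := by
    ext u
    constructor
    · rintro ⟨h, rfl⟩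
      exact ⟨h, h.2, (hsmul h v).symm⟩
    · rintro ⟨h, hh, rfl⟩
      exact ⟨⟨h, hh⟩, hsmul _ v⟩
  have hstab : Nat.card (MulAction.stabilizer ↥H v) = Nat.card ↥(H ⊓ Subgroup.centralizer {v}) := by
    refine Nat.card_congr ⟨fun h => ⟨(h : ↥H), ?_⟩, fun g => ⟨⟨g, g.2.1⟩, ?_⟩, fun h => rfl, fun g => rfl⟩
    · refine ⟨(h : ↥H).2, Subgroup.mem_centralizer_singleton_iff.mpr ?_⟩
      have := MulAction.mem_stabilizer_iff.mp h.2
      rw [hsmul] at this
      exact mul_inv_eq_iff_eq_mul.mp this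
    · rw [MulAction.mem_stabilizer_iff, hsmul]
      exact mul_inv_eq_iff_eq_mul.mpr (Subgroup.mem_centralizer_singleton_iff.mp g.2.2)
  rw [← horb, ← hstab, ← Nat.card_coe_set_eq]
  rw [← Nat.card_prod]
  exact Nat.card_congr (MulAction.orbitProdStabilizerEquivGroup ↥H v)

namespace Setup

variable (W : Setup G)

/-- The normalizer of `S`. -/
def NS : Subgroup G where
  carrier := {g | W.Nrm g ∧ W.Nrm g⁻¹}
  one_mem' := ⟨fun s hs => by simpa using hs, fun s hs => by simpa using hs⟩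
  mul_mem' := fun ha hb => ⟨ha.1.mul hb.1, by rw [mul_inv_rev]; exact hb.2.mul ha.2⟩
  inv_mem' := fun ha => ⟨ha.2, by rw [inv_inv]; exact ha.1⟩

theorem mem_NS [Finite G] {g : G} : g ∈ W.NS ↔ W.Nrm g := ⟨fun h => h.1, fun h => ⟨h, nrm_inv h⟩⟩

theorem S_le_NS : W.base.S ≤ W.NS := fun _ hg =>
  ⟨W.nrm_mem hg, W.nrm_mem (W.base.S.inv_mem hg)⟩

theorem e_mem_NS (q : Q) : W.e q ∈ W.NS := W.S_le_NS (W.mem_S q)

theorem card_S : Nat.card W.base.S = 32 := by
  rw [← card_Q]
  refine (Nat.card_congr (Equiv.ofBijective (fun q => (⟨W.e q, W.mem_S q⟩ : W.base.S)) ⟨?_, ?_⟩)).symm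
  · intro p q h
    exact W.e_inj (congrArg Subtype.val h)
  · rintro ⟨g, hg⟩
    obtain ⟨q, hq⟩ := (W.e_range g).mp hg
    exact ⟨q, Subtype.ext hq⟩

/-- A subgroup of order 32 centralizing a conjugate of `t` is a copy of `Q`. -/
theorem exists_model [Finite G] {v : G} (hv : W.base.InD v) (P : Subgroup G) (hP : Nat.card P = 32)
    (hPv : ∀ p ∈ P, p * v = v * p) :
    ∃ g : G, g⁻¹ * W.e tQ * g = v ∧ (∀ q, g⁻¹ * W.e q * g ∈ P) ∧
      ∀ p ∈ P, ∃ q, g⁻¹ * W.e q * g = p := by
  obtain ⟨g, hg, hgS, hgP⟩ := W.base.exists_onto hv P (by rw [hP, W.card_S]) hPv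
  refine ⟨g, by rw [W.e_t, ← hg]; group, fun q => hgP _ (W.mem_S q), fun p hp => ?_⟩
  obtain ⟨q, hq⟩ := (W.e_range _).mp (hgS p hp)
  exact ⟨q, by rw [hq]; group⟩

/-- In a copy of `Q`, a square is trivial or equal to any nontrivial commutator. -/
theorem model_sq [Finite G] {v : G} (hv : W.base.InD v) (P : Subgroup G) (hP : Nat.card P = 32)
    (hPv : ∀ p ∈ P, p * v = v * p) {p q r : G} (hp : p ∈ P) (hq : q ∈ P) (hr : r ∈ P)
    (hne : p * q ≠ q * p) : r * r = 1 ∨ r * r * (q * p) = p * q := by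
  obtain ⟨g, -, -, hb⟩ := W.exists_model hv P hP hPv
  obtain ⟨a, rfl⟩ := hb p hp
  obtain ⟨b, rfl⟩ := hb q hq
  obtain ⟨c, rfl⟩ := hb r hr
  have hab : a * b ≠ b * a := fun h => hne (by
    calc g⁻¹ * W.e a * g * (g⁻¹ * W.e b * g) = g⁻¹ * W.e (a * b) * g := by rw [map_mul]; group
      _ = g⁻¹ * W.e (b * a) * g := by rw [h]
      _ = g⁻¹ * W.e b * g * (g⁻¹ * W.e a * g) := by rw [map_mul]; group)
  rcases sq_comm_cases a b c hab with h | h
  · left
    calc g⁻¹ * W.e c * g * (g⁻¹ * W.e c * g) = g⁻¹ * W.e (c * c) * g := by rw [map_mul]; group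
      _ = 1 := by rw [h, map_one]; group
  · right
    calc g⁻¹ * W.e c * g * (g⁻¹ * W.e c * g) * (g⁻¹ * W.e b * g * (g⁻¹ * W.e a * g))
        = g⁻¹ * W.e (c * c * (b * a)) * g := by simp only [map_mul]; group
      _ = g⁻¹ * W.e (a * b) * g := by rw [h]
      _ = g⁻¹ * W.e a * g * (g⁻¹ * W.e b * g) := by rw [map_mul]; group

/-- At most eight elements of a copy of `Q` are central. -/
theorem model_center [Finite G] {v : G} (hv : W.base.InD v) (P : Subgroup G) (hP : Nat.card P = 32)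
    (hPv : ∀ p ∈ P, p * v = v * p) (s : Finset G) (hs : ∀ c ∈ s, c ∈ P ∧ ∀ p ∈ P, p * c = c * p) :
    s.card ≤ 8 := by
  classical
  obtain ⟨g, -, ha, hb⟩ := W.exists_model hv P hP hPv
  have hsub : s ⊆ (Finset.univ.filter Cen).image (fun q => g⁻¹ * W.e q * g) := by
    intro c hc
    obtain ⟨q, rfl⟩ := hb c (hs c hc).1
    refine Finset.mem_image.mpr ⟨q, Finset.mem_filter.mpr ⟨Finset.mem_univ _, fun p => W.e_inj ?_⟩, rfl⟩
    have := (hs _ hc).2 _ (ha p)
    calc W.e (p * q) = g * (g⁻¹ * W.e p * g * (g⁻¹ * W.e q * g)) * g⁻¹ := by rw [map_mul]; group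
      _ = g * (g⁻¹ * W.e q * g * (g⁻¹ * W.e p * g)) * g⁻¹ := by rw [this]
      _ = W.e (q * p) := by rw [map_mul]; group
  exact (Finset.card_le_card hsub).trans (Finset.card_image_le.trans (le_of_eq (by decide +kernel)))

theorem two_le [Finite G] {v : G} (hv : W.base.InD v) (P : Subgroup G) (hP : IsPGroup 2 P)
    (hPv : ∀ p ∈ P, p * v = v * p) : Nat.card P ≤ 32 :=
  W.card_S ▸ W.base.two_card_le hv P hP hPv

/-- A conjugate of `t` whose class in the 2-group `H` has at most `|H|/32` elements. -/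
theorem cent_card [Finite G] {H : Subgroup G} (hH : IsPGroup 2 H) {v : G} (hv : W.base.InD v) {m : ℕ}
    (hcard : Nat.card H = m * 32) (hm : {u : G | ∃ h ∈ H, h * v * h⁻¹ = u}.ncard ≤ m) :
    {u : G | ∃ h ∈ H, h * v * h⁻¹ = u}.ncard = m ∧
      Nat.card ↥(H ⊓ Subgroup.centralizer {v}) = 32 := by
  have h := class_card H v
  have hle := W.two_le hv _ (hH.to_le inf_le_left) (fun p hp =>
    Subgroup.mem_centralizer_singleton_iff.mp hp.2)
  have hpos : 0 < Nat.card H := Nat.card_pos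
  rw [hcard] at h hpos
  generalize {u : G | ∃ h ∈ H, h * v * h⁻¹ = u}.ncard = a at h hm ⊢
  generalize Nat.card ↥(H ⊓ Subgroup.centralizer {v}) = b at h hle ⊢
  have h32 : b = 32 := by
    refine le_antisymm hle ?_
    by_contra hlt
    have : a * b < m * 32 := lt_of_le_of_lt (Nat.mul_le_mul_right b hm)
      (Nat.mul_lt_mul_of_pos_left (not_le.mp hlt) (Nat.pos_of_mul_pos_right hpos))
    omega
  subst h32
  exact ⟨Nat.eq_of_mul_eq_mul_right (by norm_num) h, rfl⟩

theorem ext_of_cent [Finite G] {H : Subgroup G} {v : G} (hvH : v ∈ H) (hv : W.base.InD v)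
    (h : Nat.card ↥(H ⊓ Subgroup.centralizer {v}) = 32) : W.base.Ext H v :=
  ⟨hvH, hv, _, inf_le_left, by rw [h, W.card_S],
    fun _ hp => Subgroup.mem_centralizer_singleton_iff.mp hp.2⟩

/-- The criterion, for a homomorphism to the group of order 2. -/
theorem index_two_of_parity [Finite G] (H : Subgroup G) (f : G → ZMod 2)
    (hf : ∀ g ∈ H, ∀ h ∈ H, f (g * h) = f g + f h) (T : Finset G)
    (hT : ∀ v, v ∈ T ↔ W.base.Ext H v ∧ f v = 1) {m N : ℕ}
    (hm : ∀ v ∈ T, {u : G | ∃ h ∈ H, h * v * h⁻¹ = u}.ncard = m) (hm0 : 0 < m)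
    (hcard : T.card = m * N) (hN : Odd N) : ∃ K : Subgroup G, K.index = 2 := by
  let ψ : ↥H →* Multiplicative (ZMod 2) := MonoidHom.mk' (fun g => Multiplicative.ofAdd (f g))
    (fun g h => by rw [← ofAdd_add, ← hf _ g.2 _ h.2]; rfl)
  have hval : ∀ v ∈ H, Base.val ψ v = Multiplicative.ofAdd (f v) := fun v hv => Base.val_of_mem ψ hv
  refine W.base.index_two_of_count (IsPGroup.of_card (n := 1) (by simp)) ψ
    (c := Multiplicative.ofAdd 1) (by decide +kernel) T (fun v => ?_) (fun v hv => ?_) hm hm0 hcard hN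
  · rw [hT v]
    refine and_congr_right fun he => ?_
    rw [hval v he.1]
    generalize f v = b
    revert b
    decide +kernel
  · rw [hval v ((hT v).mp hv).1.1, ((hT v).mp hv).2]

/-- The criterion when a single class has value 1. -/
theorem index_two_of_class [Finite G] (H : Subgroup G) (f : G → ZMod 2)
    (hf : ∀ g ∈ H, ∀ h ∈ H, f (g * h) = f g + f h) {v₀ : G} (h₀ : W.base.Ext H v₀) (hf₀ : f v₀ = 1)
    (huniq : ∀ v, W.base.Ext H v → f v = 1 → ∃ h ∈ H, h * v * h⁻¹ = v₀) :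
    ∃ K : Subgroup G, K.index = 2 := by
  let ψ : ↥H →* Multiplicative (ZMod 2) := MonoidHom.mk' (fun g => Multiplicative.ofAdd (f g))
    (fun g h => by rw [← ofAdd_add, ← hf _ g.2 _ h.2]; rfl)
  refine W.base.index_two_of_single (IsPGroup.of_card (n := 1) (by simp)) ψ h₀ ?_ (fun v hv hne => ?_)
  · rw [Base.val_of_mem ψ h₀.1]
    show Multiplicative.ofAdd (f v₀) ≠ 1
    rw [hf₀]
    decide +kernel
  · refine huniq v hv ?_
    rw [Base.val_of_mem ψ hv.1] at hne
    change Multiplicative.ofAdd (f v) ≠ 1 at hne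
    revert hne
    generalize f v = b
    revert b
    decide +kernel

variable {W}

/-- In the pattern `P2`, an involution of the centralizer of `t` is conjugate to `t` iff `ψ₁` is 1. -/
theorem P2.inD_iff (h : W.P2) {v : G} (hv : v * W.base.t = W.base.t * v) (hv2 : v * v = 1) :
    W.base.InD v ↔ W.ψ₁ v = 1 := by
  obtain ⟨c, q, hc, hq, e⟩ := W.inv_class v hv hv2
  rw [← Base.inD_conj_iff c, ← W.ψ₁_conj hc hv, e, W.ψ₁_e]
  have h1 : ¬ W.base.InD (W.e 1) := fun h' => by
    obtain ⟨g, hg⟩ := h'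
    rw [map_one, mul_inv_eq_one] at hg
    have : W.e tQ = W.e 1 := by rw [W.e_t, map_one]; simpa using hg
    exact absurd (W.e_inj this) (by decide +kernel)
  have ht : W.base.InD (W.e tQ) := by rw [W.e_t]; exact W.base.inD_t
  obtain ⟨htz, hta, htaz, ha, haz⟩ := h
  rcases center_list q hq with rfl | rfl | rfl | rfl | rfl | rfl | rfl | rfl
  · exact iff_of_false h1 (by decide +kernel)
  · exact iff_of_false W.not_inD_z (by decide +kernel)
  · exact iff_of_true ht (by decide +kernel)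
  · exact iff_of_true htz (by decide +kernel)
  · exact iff_of_false ha (by decide +kernel)
  · exact iff_of_false haz (by decide +kernel)
  · exact iff_of_true hta (by decide +kernel)
  · exact iff_of_true htaz (by decide +kernel)

theorem P2.inD_e (h : W.P2) {q : Q} : W.base.InD (W.e q) ↔ q * q = 1 ∧ ct q = 1 := by
  constructor
  · intro hd
    have hq := W.inD_sq hd
    refine ⟨hq, ?_⟩
    rw [← W.ψ₁_e]
    exact (h.inD_iff (W.e_comm_t q) hd.sq).mp hd
  · rintro ⟨hq, h1⟩
    refine (h.inD_iff (W.e_comm_t q) (by rw [← map_mul, hq, map_one])).mpr ?_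
    rw [W.ψ₁_e, h1]

/-- The pair rule: of `v` and `u v` exactly one is conjugate to `t`. -/
theorem P2.pair (h : W.P2) {u v : G} (hu : W.base.InD u) (hc : u * v = v * u) (hv : v * v = 1) :
    W.base.InD v ↔ ¬ W.base.InD (u * v) := by
  obtain ⟨g, rfl⟩ := hu
  set w := g⁻¹ * v * g with hw
  have hwt : w * W.base.t = W.base.t * w := by
    calc w * W.base.t = g⁻¹ * (v * (g * W.base.t * g⁻¹)) * g := by rw [hw]; group
      _ = g⁻¹ * (g * W.base.t * g⁻¹ * v) * g := by rw [hc]
      _ = W.base.t * w := by rw [hw]; group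
  have hw2 : w * w = 1 := by
    calc w * w = g⁻¹ * (v * v) * g := by rw [hw]; group
      _ = 1 := by rw [hv]; group
  have htw : W.base.t * w * W.base.t = W.base.t * (W.base.t * w) := by rw [mul_assoc, hwt]
  have htw2 : W.base.t * w * (W.base.t * w) = 1 := by
    rw [← mul_assoc, htw, ← mul_assoc W.base.t W.base.t, W.base.t_sq, one_mul, hw2]
  rw [show v = g * w * g⁻¹ by rw [hw]; group, show g * W.base.t * g⁻¹ * (g * w * g⁻¹) = g * (W.base.t * w) * g⁻¹
    by group, Base.inD_conj_iff, Base.inD_conj_iff, h.inD_iff hwt hw2, h.inD_iff htw htw2,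
    W.ψ₁_mul _ _ rfl hwt, ← W.e_t, W.ψ₁_e]
  generalize W.ψ₁ w = b
  revert b
  decide +kernel

end Setup

end Cfsg.Agent.SixCentralizer
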