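/-
The pattern `P0`: the normalizer of `S` has order 64.

* `P0.index_two` : there is a subgroup of index 2
-/
import Cfsg.Agent.Lib.SixCentralizer.Local
import Cfsg.Agent.Lib.SixCentralizer.CaseTwoModel
import Cfsg.Agent.EqLemmas

set_option autoImplicit false
set_option maxRecDepth 100000
set_option synthInstance.maxSize 4000
set_option linter.style.haveILetI false

namespace Cfsg.Agent.SixCentralizer

/-- The six elements of `S` conjugate to `t` in the pattern `P0`. -/
def six : Finset Q :=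
  {tQ, tQ * zQ, tQ * yQ, tQ * yQ * zQ, tQ * xQ * aQ, tQ * xQ * aQ * zQ}

/-- The coset of `⟨z⟩`. -/
def nearQ (q : Q) : Finset Q := {q, q * zQ}

theorem swap_candidates (A X Y : Q) (hA : A ∈ nearQ aQ) (hX : X ∈ nearQ (yQ * aQ)) (hY : Y ∈ nearQ (xQ * aQ))
    (s : Q) : (Finset.univ.filter fun q => s * ext (tQ * zQ) A X Y q * s⁻¹ = q).card < 16 := by
  revert s
  simp only [nearQ, Finset.mem_insert, Finset.mem_singleton] at hA hX hY
  rcases hA with rfl | rfl <;> rcases hX with rfl | rfl <;> rcases hY with rfl | rfl <;> decide +kernel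

theorem noswap_candidates (A X Y : Q) (hA : A ∈ nearQ aQ) (hX : X ∈ nearQ xQ) (hY : Y ∈ nearQ yQ) :
    ∀ q, ext (tQ * zQ) A X Y q = q ∨ ext (tQ * zQ) A X Y q = q * zQ := by
  simp only [nearQ, Finset.mem_insert, Finset.mem_singleton] at hA hX hY
  rcases hA with rfl | rfl <;> rcases hX with rfl | rfl <;> rcases hY with rfl | rfl <;> decide +kernel

theorem swap_move (A X Y : Q) (hA : A ∈ nearQ aQ) (hX : X ∈ nearQ (yQ * aQ)) (hY : Y ∈ nearQ (xQ * aQ)) :
    ∀ p ∈ [tQ * yQ, tQ * yQ * zQ, tQ * xQ * aQ, tQ * xQ * aQ * zQ], ∀ s : Q,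
      s * ext (tQ * zQ) A X Y p * s⁻¹ ≠ p := by
  simp only [nearQ, Finset.mem_insert, Finset.mem_singleton] at hA hX hY
  rcases hA with rfl | rfl <;> rcases hX with rfl | rfl <;> rcases hY with rfl | rfl <;> decide +kernel

theorem swap_ct (A X Y : Q) (hA : A ∈ nearQ aQ) (hX : X ∈ nearQ (yQ * aQ)) (hY : Y ∈ nearQ (xQ * aQ)) :
    ∀ p : Q, ct (ext (tQ * zQ) A X Y p) = ct p := by
  simp only [nearQ, Finset.mem_insert, Finset.mem_singleton] at hA hX hY
  rcases hA with rfl | rfl <;> rcases hX with rfl | rfl <;> rcases hY with rfl | rfl <;> decide +kernel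

theorem ct_mul : ∀ p q : Q, ct (p * q) = ct p + ct q := by decide +kernel

theorem ct_inv : ∀ p : Q, ct p⁻¹ = ct p := by decide +kernel

theorem ct_comm (s u p : Q) (h : ct u = ct p) : ct (s * u * s⁻¹ * p⁻¹) = 0 := by
  simp only [ct_mul, ct_inv, h]
  exact (show ∀ a b : ZMod 2, a + b + a + b = 0 by decide) (ct s) (ct p)

theorem inner_near : ∀ s q : Q, s * q * s⁻¹ = q ∨ s * q * s⁻¹ = q * zQ := by decide +kernel

theorem inner_near' : ∀ s q : Q, s * (q * zQ) * s⁻¹ = q ∨ s * (q * zQ) * s⁻¹ = q * zQ := by decide +kernel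

universe u

variable {G : Type u} [Group G]

namespace Setup

variable {W : Setup G}

theorem P0.inD_e (h : W.P0) (q : Q) : W.base.InD (W.e q) ↔ q ∈ six := by
  have ht : W.base.InD (W.e tQ) := by rw [W.e_t]; exact W.base.inD_t
  have h1 : ¬ W.base.InD (W.e 1) := fun h' => by
    obtain ⟨g, hg⟩ := h'
    rw [map_one, mul_inv_eq_one] at hg
    have : W.e tQ = W.e 1 := by rw [W.e_t, map_one]; simpa using hg
    exact absurd (W.e_inj this) (by decide +kernel)
  obtain ⟨htz, ha, haz, hta, htaz⟩ := h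
  have hcen : ∀ p, Cen p → (W.base.InD (W.e p) ↔ p = tQ ∨ p = tQ * zQ) := by
    intro p hp
    rcases center_list p hp with rfl | rfl | rfl | rfl | rfl | rfl | rfl | rfl
    · exact iff_of_false h1 (by decide +kernel)
    · exact iff_of_false W.not_inD_z (by decide +kernel)
    · exact iff_of_true ht (by decide +kernel)
    · exact iff_of_true htz (by decide +kernel)
    · exact iff_of_false ha (by decide +kernel)
    · exact iff_of_false haz (by decide +kernel)
    · exact iff_of_false hta (by decide +kernel)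
    · exact iff_of_false htaz (by decide +kernel)
  have key : ∀ q : Q, (q ∈ six ↔ q * q = 1 ∧ (repQ q = tQ ∨ repQ q = tQ * zQ)) ∧
      (q * q = 1 → Cen (repQ q)) := by decide +kernel
  constructor
  · intro hd
    have hq := W.inD_sq hd
    exact (key q).1.mpr ⟨hq, (hcen _ ((key q).2 hq)).mp ((W.inD_rep hq).mp hd)⟩
  · intro hq
    obtain ⟨h2, h3⟩ := (key q).1.mp hq
    exact (W.inD_rep h2).mpr ((hcen _ ((key q).2 h2)).mpr h3)

theorem P0.act_t [Finite G] (h : W.P0) {g : G} (hg : g ∈ W.NS) :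
    g ∈ W.base.S ∨ g * W.base.t * g⁻¹ = W.e (tQ * zQ) := by
  obtain ⟨φ, hi, hφ⟩ := W.exists_actHom hg.1
  have ht : W.base.InD (W.e tQ) := by rw [W.e_t]; exact W.base.inD_t
  have hd : φ tQ ∈ six := (h.inD_e _).mp ((W.act_inD hφ tQ).mpr ht)
  have hc : Cen (φ tQ) := (act_center hi).mpr (by decide +kernel)
  rcases (show ∀ q ∈ six, Cen q → q = tQ ∨ q = tQ * zQ by decide +kernel) _ hd hc with e | e
  · exact Or.inl (W.mem_of_fix hg.1 (by rw [← W.e_t, hφ, e]))
  · exact Or.inr (by rw [← W.e_t, hφ, e])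

/-- An element of `N(S)` moving `t` acts in one of the two shapes. -/
theorem P0.act [Finite G] (h : W.P0) {g : G} {φ : Q →* Q} (hi : Function.Injective φ)
    (hφ : ∀ q, g * W.e q * g⁻¹ = W.e (φ q)) (hgt : g * W.base.t * g⁻¹ = W.e (tQ * zQ)) :
    φ tQ = tQ * zQ ∧ φ aQ ∈ nearQ aQ ∧
      ((φ xQ ∈ nearQ xQ ∧ φ yQ ∈ nearQ yQ) ∨ (φ xQ ∈ nearQ (yQ * aQ) ∧ φ yQ ∈ nearQ (xQ * aQ))) := by
  have et : φ tQ = tQ * zQ := W.e_inj (by rw [← hφ, W.e_t, hgt])
  have ez : φ zQ = zQ := act_z hi
  have hc : Cen (φ aQ) := (act_center hi).mpr (by decide +kernel)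
  have hg2 : g * g * W.base.t * (g * g)⁻¹ = W.base.t := by
    calc g * g * W.base.t * (g * g)⁻¹ = g * (g * W.base.t * g⁻¹) * g⁻¹ := by group
      _ = W.base.t := by rw [hgt, hφ, map_mul, et, ez, ← W.e_t]; exact congrArg W.e (by decide +kernel)
  have hgN : W.Nrm g := fun s hs => by
    obtain ⟨q, rfl⟩ := (W.e_range s).mp hs
    rw [hφ]
    exact W.mem_S _
  have e2 : φ (φ aQ) = aQ := by
    have := W.mem_S_act_center (W.mem_of_fix (hgN.mul hgN) hg2) (q := aQ) (by decide +kernel)
    have e : g * g * W.e aQ * (g * g)⁻¹ = g * (g * W.e aQ * g⁻¹) * g⁻¹ := by group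
    rw [e, hφ, hφ, W.e_eq] at this
    exact this
  have ha : φ aQ ∈ nearQ aQ := by
    rcases center_list _ hc with k | k | k | k | k | k | k | k
    · exact absurd (hi (k.trans (map_one φ).symm)) (by decide +kernel)
    · exact absurd (hi (k.trans ez.symm)) (by decide +kernel)
    · exact absurd (hi (k.trans (show tQ = φ (tQ * zQ) by rw [map_mul, et, ez]; decide +kernel)))
        (by decide +kernel)
    · exact absurd (hi (k.trans et.symm)) (by decide +kernel)
    · rw [k]; decide +kernel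
    · rw [k]; decide +kernel
    · rw [k, map_mul, et, k] at e2; exact absurd e2 (by decide +kernel)
    · rw [k, map_mul, map_mul, et, ez, k] at e2; exact absurd e2 (by decide +kernel)
  have hmem : ∀ q ∈ six, φ q ∈ six := fun q hq =>
    (h.inD_e _).mp ((W.act_inD hφ q).mpr ((h.inD_e q).mpr hq))
  have hy := hmem (tQ * yQ) (by decide +kernel)
  have hx := hmem (tQ * xQ * aQ) (by decide +kernel)
  have hyc : ¬ Cen (φ yQ) := fun k => absurd ((act_center hi).mp k) (by decide +kernel)
  have hxc : ¬ Cen (φ xQ) := fun k => absurd ((act_center hi).mp k) (by decide +kernel)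
  have hxy : φ xQ * φ yQ ≠ φ yQ * φ xQ := fun k => by
    rw [← map_mul, ← map_mul] at k
    exact absurd (hi k) (by decide +kernel)
  rw [map_mul, et] at hy
  rw [map_mul, map_mul, et] at hx
  refine ⟨et, ha, ?_⟩
  simp only [nearQ, Finset.mem_insert, Finset.mem_singleton] at ha
  have key : ∀ A ∈ nearQ aQ, ∀ X Y : Q, tQ * zQ * Y ∈ six → tQ * zQ * X * A ∈ six →
      ¬ Cen X → ¬ Cen Y → X * Y ≠ Y * X →
      ((X ∈ nearQ xQ ∧ Y ∈ nearQ yQ) ∨ (X ∈ nearQ (yQ * aQ) ∧ Y ∈ nearQ (xQ * aQ))) := by decide +kernel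
  exact key _ (by simpa [nearQ] using ha) _ _ hy hx hxc hyc hxy

theorem P0.f_mul [Finite G] (h : W.P0) :
    ∀ g ∈ W.NS, ∀ k ∈ W.NS, ((g * k) ∈ W.base.S ↔ (g ∈ W.base.S ↔ k ∈ W.base.S)) := by
  intro g hg k hk
  have hz : ∀ {g : G}, g ∈ W.NS → g * W.e zQ * g⁻¹ = W.e zQ := fun hg => by
    obtain ⟨φ, hi, hφ⟩ := W.exists_actHom hg.1
    rw [hφ, act_z hi]
  constructor
  · intro hm
    exact ⟨fun h' => by simpa using W.base.S.mul_mem (W.base.S.inv_mem h') hm,
      fun h' => by simpa using W.base.S.mul_mem hm (W.base.S.inv_mem h')⟩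
  · intro hiff
    by_cases hgS : g ∈ W.base.S
    · exact W.base.S.mul_mem hgS (hiff.mp hgS)
    · have hkS : k ∉ W.base.S := fun h' => hgS (hiff.mpr h')
      refine W.mem_of_fix (hg.1.mul hk.1) ?_
      calc g * k * W.base.t * (g * k)⁻¹ = g * (k * W.base.t * k⁻¹) * g⁻¹ := by group
        _ = g * W.e (tQ * zQ) * g⁻¹ := by rw [(h.act_t hk).resolve_left hkS]
        _ = (g * W.base.t * g⁻¹) * (g * W.e zQ * g⁻¹) := by rw [map_mul, W.e_t]; group
        _ = W.base.t := by
          rw [(h.act_t hg).resolve_left hgS, hz hg, ← map_mul, ← W.e_t]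
          exact congrArg W.e (by decide +kernel)

theorem P0.rel [Finite G] (h : W.P0) {r g : G} (hr : r ∈ W.NS) (hrS : r ∉ W.base.S) (hg : g ∈ W.NS)
    (hgS : g ∉ W.base.S) : ∃ s, W.e s * r = g := by
  have : g * r⁻¹ ∈ W.base.S := (h.f_mul g hg r⁻¹ (W.NS.inv_mem hr)).mpr
    (iff_of_false hgS fun h' => hrS (by simpa using W.base.S.inv_mem h'))
  obtain ⟨s, hs⟩ := (W.e_range _).mp this
  exact ⟨s, by rw [hs]; group⟩

theorem P0.exists_r [Finite G] (h : W.P0) :
    ∃ r : G, ∃ φ : Q →* Q, r ∈ W.NS ∧ r ∉ W.base.S ∧ Function.Injective φ ∧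
      (∀ q, r * W.e q * r⁻¹ = W.e (φ q)) ∧
      r * W.base.t * r⁻¹ = W.e (tQ * zQ) := by
  obtain ⟨r, hr, hrt⟩ := W.exists_norm (q := tQ * zQ) (by decide +kernel) h.1
  obtain ⟨φ, hi, hφ⟩ := W.exists_actHom hr
  refine ⟨r, φ, (W.mem_NS).mpr hr, fun hS => ?_, hi, hφ, hrt⟩
  rw [W.base.S_comm r hS, mul_assoc, mul_inv_cancel, mul_one, ← W.e_t, W.e_eq] at hrt
  exact absurd hrt (by decide +kernel)

theorem P0.card_NS [Finite G] (h : W.P0) : Nat.card W.NS = 64 := by
  classical
  obtain ⟨r, φ, hr, hrS, -, -, -⟩ := h.exists_r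
  let f : Bool × Q → W.NS := fun p => ⟨W.e p.2 * (if p.1 then r else 1), by
    refine W.NS.mul_mem (W.e_mem_NS _) ?_
    cases p.1
    · exact W.NS.one_mem
    · exact hr⟩
  have hf : Function.Bijective f := by
    constructor
    · rintro ⟨b, q⟩ ⟨b', q'⟩ hh
      have hh' : W.e q * (if b then r else 1) = W.e q' * (if b' then r else 1) := congrArg Subtype.val hh
      have hbb : b = b' := by
        cases b <;> cases b' <;> try rfl
        · exfalso; apply hrS
          simp only [Bool.false_eq_true, if_false, mul_one, if_true] at hh'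
          have : r = W.e (q'⁻¹ * q) := by rw [map_mul, map_inv, hh']; group
          rw [this]; exact W.mem_S _
        · exfalso; apply hrS
          simp only [Bool.false_eq_true, if_false, mul_one, if_true] at hh'
          have : r = W.e (q⁻¹ * q') := by rw [map_mul, map_inv, ← hh']; group
          rw [this]; exact W.mem_S _
      subst hbb
      rw [mul_right_cancel_iff, W.e_eq] at hh'
      rw [hh']
    · rintro ⟨g, hg⟩
      by_cases hgS : g ∈ W.base.S
      · obtain ⟨q, rfl⟩ := (W.e_range g).mp hgS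
        exact ⟨(false, q), Subtype.ext (by simp [f])⟩
      · obtain ⟨q, hq⟩ := h.rel hr hrS hg hgS
        exact ⟨(true, q), Subtype.ext (by simp [f, hq])⟩
  rw [← Nat.card_congr (Equiv.ofBijective f hf), Nat.card_prod, card_Q]
  simp

theorem P0.isP [Finite G] (h : W.P0) : IsPGroup 2 W.NS :=
  IsPGroup.of_card (n := 6) (by rw [h.card_NS]; norm_num)

/-- The elements of `N(S)` that move the two pairs: only the class of `t` is large. -/
theorem P0.swap_index_two [Finite G] (h : W.P0) {r : G} {φ : Q →* Q} (hr : r ∈ W.NS) (hrS : r ∉ W.base.S)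
    (hi : Function.Injective φ) (hφ : ∀ q, r * W.e q * r⁻¹ = W.e (φ q))
    (hrt : r * W.base.t * r⁻¹ = W.e (tQ * zQ))
    (hx : φ xQ ∈ nearQ (yQ * aQ)) (hy : φ yQ ∈ nearQ (xQ * aQ)) :
    ∃ K : Subgroup G, K.index = 2 := by
  classical
  obtain ⟨et, ha, -⟩ := h.act hi hφ hrt
  have hφq : ∀ q, φ q = ext (tQ * zQ) (φ aQ) (φ xQ) (φ yQ) q := fun q => by rw [hom_eq_ext φ q, et]
  have hct : ∀ q, ct (φ q) = ct q := fun q => by rw [hφq]; exact swap_ct _ _ _ ha hx hy q
  have hmove : ∀ p ∈ [tQ * yQ, tQ * yQ * zQ, tQ * xQ * aQ, tQ * xQ * aQ * zQ], ∀ s : Q,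
      s * φ p * s⁻¹ ≠ p := fun p hp s => by rw [hφq]; exact swap_move _ _ _ ha hx hy p hp s
  -- the homomorphism: the quotient by the derived group
  have hcomm : ∀ g ∈ W.NS, ∀ k ∈ W.NS, ∃ q, ct q = 0 ∧ g * k * g⁻¹ * k⁻¹ = W.e q := by
    have hSS : ∀ g ∈ W.NS, ∀ p, ∃ q, ct q = 0 ∧ g * W.e p * g⁻¹ * (W.e p)⁻¹ = W.e q := by
      intro g hg p
      by_cases hgS : g ∈ W.base.S
      · obtain ⟨s, rfl⟩ := (W.e_range g).mp hgS
        exact ⟨s * p * s⁻¹ * p⁻¹, ct_comm s p p rfl, by simp only [map_mul, map_inv]⟩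
      · obtain ⟨s, rfl⟩ := h.rel hr hrS hg hgS
        refine ⟨s * φ p * s⁻¹ * p⁻¹, ?_, ?_⟩
        · exact ct_comm s _ p (hct p)
        · simp only [map_mul, map_inv, ← hφ]
          group
    intro g hg k hk
    by_cases hkS : k ∈ W.base.S
    · obtain ⟨p, rfl⟩ := (W.e_range k).mp hkS
      exact hSS g hg p
    · by_cases hgS : g ∈ W.base.S
      · obtain ⟨p, rfl⟩ := (W.e_range g).mp hgS
        obtain ⟨q, hq, e⟩ := hSS k hk p
        refine ⟨q⁻¹, by rw [ct_inv, hq], ?_⟩
        rw [map_inv, ← e]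
        group
      · obtain ⟨p, rfl⟩ := h.rel hg hgS hk hkS
        obtain ⟨q, hq, e⟩ := hSS g hg p
        refine ⟨q, hq, ?_⟩
        rw [← e]
        group
  let K : Subgroup ↥W.NS :=
    { carrier := {g | ∃ q, ct q = 0 ∧ (g : G) = W.e q}
      one_mem' := ⟨1, by decide +kernel, by simp⟩
      mul_mem' := by
        rintro a b ⟨p, hp, ea⟩ ⟨q, hq, eb⟩
        exact ⟨p * q, by rw [ct_mul, hp, hq, add_zero],
          by rw [Subgroup.coe_mul, ea, eb, map_mul]⟩
      inv_mem' := by
        rintro a ⟨p, hp, ea⟩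
        exact ⟨p⁻¹, by rw [ct_inv, hp],
          by rw [InvMemClass.coe_inv, ea, map_inv]⟩ }
  have hK : commutator ↥W.NS ≤ K := by
    rw [commutator_def, Subgroup.commutator_le]
    intro g _ k _
    obtain ⟨q, hq, e⟩ := hcomm g g.2 k k.2
    exact ⟨q, hq, by rw [← e]; rfl⟩
  refine W.base.index_two_of_single (A := Abelianization ↥W.NS) ?_ Abelianization.of
    (v₀ := W.base.t) ?_ ?_ ?_
  · exact (h.isP).of_surjective Abelianization.of QuotientGroup.mk_surjective
  · exact ⟨W.S_le_NS W.base.t_mem, W.base.inD_t, W.base.S, W.S_le_NS, rfl, W.base.S_comm⟩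
  · rw [Base.val_of_mem _ (W.S_le_NS W.base.t_mem)]
    intro hone
    have hmemK := hK ((QuotientGroup.eq_one_iff _).mp hone)
    obtain ⟨q, hq, e⟩ := hmemK
    rw [show ((⟨W.base.t, W.S_le_NS W.base.t_mem⟩ : ↥W.NS) : G) = W.e tQ from W.e_t.symm, W.e_eq] at e
    exact absurd (e ▸ hq) (by decide +kernel)
  · intro v hv _
    obtain ⟨hvN, hvD, P, hPN, hPc, hPv⟩ := hv
    rw [W.card_S] at hPc
    -- an element of the large centralizer outside `S`, unless the centralizer is `S`
    by_cases hvS : v ∈ W.base.S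
    · obtain ⟨q, rfl⟩ := (W.e_range v).mp hvS
      have hq := (h.inD_e q).mp hvD
      simp only [six, Finset.mem_insert, Finset.mem_singleton] at hq
      by_cases hPS : P ≤ W.base.S
      · have hPeq := Subgroup.eq_of_le_of_card_ge hPS (by rw [W.card_S, hPc])
        have hq' : Cen q := fun p => W.e_inj (by
          rw [map_mul, map_mul]
          exact hPv _ (by rw [hPeq]; exact W.mem_S p))
        rcases hq with rfl | rfl | rfl | rfl | rfl | rfl
        · exact ⟨1, W.NS.one_mem, by rw [W.e_t]; group⟩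
        · refine ⟨r⁻¹, W.NS.inv_mem hr, ?_⟩
          rw [← hrt]
          group
        all_goals exact absurd hq' (by decide +kernel)
      · obtain ⟨g, hgP, hgS⟩ := SetLike.not_le_iff_exists.mp hPS
        obtain ⟨s, rfl⟩ := h.rel hr hrS (hPN hgP) hgS
        have hfix := hPv _ hgP
        have : s * φ q * s⁻¹ = q := W.e_inj (by
          calc W.e (s * φ q * s⁻¹) = W.e s * r * W.e q * (W.e s * r)⁻¹ := by
                simp only [map_mul, map_inv, ← hφ]; group
            _ = W.e q := by rw [hfix]; group)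
        rcases hq with rfl | rfl | rfl | rfl | rfl | rfl
        · exact ⟨1, W.NS.one_mem, by rw [W.e_t]; group⟩
        · refine ⟨r⁻¹, W.NS.inv_mem hr, ?_⟩
          rw [← hrt]
          group
        · exact absurd this (hmove _ (by decide +kernel) s)
        · exact absurd this (hmove _ (by decide +kernel) s)
        · exact absurd this (hmove _ (by decide +kernel) s)
        · exact absurd this (hmove _ (by decide +kernel) s)
    · exfalso
      obtain ⟨s, hs⟩ := h.rel hr hrS hvN hvS
      -- half of the centralizer lies in `S`, hence in the fixed points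
      let PS : Subgroup ↥P := W.base.S.subgroupOf P
      have hidx : PS.index ≤ 2 := by
        refine Nat.le_of_dvd (by norm_num) ?_
        let f : ↥P →* Multiplicative (ZMod 2) :=
          { toFun := fun p => Multiplicative.ofAdd (if (p : G) ∈ W.base.S then 0 else 1)
            map_one' := by simp [W.base.S.one_mem]
            map_mul' := fun p q => by
              rw [← ofAdd_add]
              congr 1
              by_cases hp : (p : G) ∈ W.base.S <;> by_cases hq : (q : G) ∈ W.base.S <;>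
                simp [h.f_mul _ (hPN p.2) _ (hPN q.2), hp, hq] <;> decide }
        have hker : f.ker = PS := by
          ext p
          by_cases hp : (p : G) ∈ W.base.S <;> simp [f, PS, hp, Subgroup.mem_subgroupOf]
        rw [← hker, Subgroup.index_ker]
        have := Subgroup.card_subgroup_dvd_card f.range
        simpa using this
      have hhalf : 16 ≤ Nat.card PS := by
        have := PS.card_mul_index
        rw [hPc] at this
        have h2 : Nat.card PS * PS.index ≤ Nat.card PS * 2 := Nat.mul_le_mul_left _ hidx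
        omega
      have hfixq : ∀ p : PS, ∃ q, W.e q = ((p : ↥P) : G) ∧ s * φ q * s⁻¹ = q := by
        intro p
        obtain ⟨q, hq⟩ := (W.e_range ((p : ↥P) : G)).mp p.2
        refine ⟨q, hq, W.e_inj ?_⟩
        have hc := hPv _ (p : ↥P).2
        rw [← hq, ← hs] at hc
        calc W.e (s * φ q * s⁻¹) = W.e s * r * W.e q * (W.e s * r)⁻¹ := by
              simp only [map_mul, map_inv, ← hφ]; group
          _ = W.e q * (W.e s * r) * (W.e s * r)⁻¹ := by rw [hc]
          _ = W.e q := by group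
      choose qf hqf1 hqf2 using hfixq
      have hle : Nat.card PS ≤ (Finset.univ.filter fun q => s * φ q * s⁻¹ = q).card := by
        rw [← Nat.card_eq_finsetCard]
        refine Nat.card_le_card_of_injective
          (fun p => ⟨qf p, Finset.mem_filter.mpr ⟨Finset.mem_univ _, hqf2 p⟩⟩) fun p q e => ?_
        apply Subtype.ext; apply Subtype.ext
        rw [← hqf1 p, ← hqf1 q, show qf p = qf q from congrArg Subtype.val e]
      have hlt := swap_candidates _ _ _ ha hx hy s
      simp only [← hφq] at hlt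
      omega

/-- The elements of `N(S)` that act trivially modulo `z`. -/
theorem P0.noswap_index_two [Finite G] (h : W.P0) {r : G} {φ : Q →* Q} (hr : r ∈ W.NS) (hrS : r ∉ W.base.S)
    (hi : Function.Injective φ) (hφ : ∀ q, r * W.e q * r⁻¹ = W.e (φ q))
    (hrt : r * W.base.t * r⁻¹ = W.e (tQ * zQ))
    (hx : φ xQ ∈ nearQ xQ) (hy : φ yQ ∈ nearQ yQ) :
    ∃ K : Subgroup G, K.index = 2 := by
  classical
  letI := Fintype.ofFinite G
  obtain ⟨et, ha, -⟩ := h.act hi hφ hrt
  have hφq : ∀ q, φ q = q ∨ φ q = q * zQ := fun q => by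
    rw [hom_eq_ext φ q, et]
    exact noswap_candidates _ _ _ ha hx hy q
  have hzS : ∀ g ∈ W.NS, g * W.e zQ = W.e zQ * g := fun g hg => by
    obtain ⟨ψ, hj, hψ⟩ := W.exists_actHom hg.1
    rw [← mul_inv_eq_iff_eq_mul, hψ, act_z hj]
  -- `N(S)` is commutative modulo `z`
  have actS : ∀ g ∈ W.NS, ∀ q,
      g * W.e q * g⁻¹ = W.e q ∨ g * W.e q * g⁻¹ = W.e q * W.e zQ := by
    intro g hg q
    by_cases hgS : g ∈ W.base.S
    · obtain ⟨s, rfl⟩ := (W.e_range g).mp hgS
      rw [← map_inv, ← map_mul, ← map_mul, ← map_mul, W.e_eq, W.e_eq]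
      exact inner_near s q
    · obtain ⟨s, rfl⟩ := h.rel hr hrS hg hgS
      have e : W.e s * r * W.e q * (W.e s * r)⁻¹ = W.e (s * φ q * s⁻¹) := by
        simp only [map_mul, map_inv, ← hφ]; group
      rw [e, ← map_mul, W.e_eq, W.e_eq]
      rcases hφq q with k | k <;> rw [k]
      · exact inner_near s q
      · exact inner_near' s q
  have hz1 : W.e zQ * W.e zQ = 1 := by
    rw [← map_mul, ← map_one W.e]; exact congrArg W.e (by decide +kernel)
  have hzne : W.e zQ ≠ 1 := fun e => by
    rw [← map_one W.e, W.e_eq] at e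
    exact absurd e (by decide +kernel)
  have toS : ∀ g ∈ W.NS, ∀ q, g * W.e q = W.e q * g ∨ g * W.e q = W.e q * g * W.e zQ := by
    intro g hg q
    rcases actS g hg q with e | e
    · exact Or.inl (mul_inv_eq_iff_eq_mul.mp e)
    · exact Or.inr (by rw [mul_inv_eq_iff_eq_mul.mp e, mul_assoc, ← hzS g hg, mul_assoc])
  have commN : ∀ g ∈ W.NS, ∀ k ∈ W.NS, g * k = k * g ∨ g * k = k * g * W.e zQ := by
    intro g hg k hk
    by_cases hkS : k ∈ W.base.S
    · obtain ⟨q, rfl⟩ := (W.e_range k).mp hkS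
      exact toS g hg q
    · by_cases hgS : g ∈ W.base.S
      · obtain ⟨q, rfl⟩ := (W.e_range g).mp hgS
        rcases toS k hk q with e | e
        · exact Or.inl e.symm
        · exact Or.inr (by rw [e, mul_assoc _ (W.e zQ), hz1, mul_one])
      · obtain ⟨q, rfl⟩ := h.rel hg hgS hk hkS
        rcases toS g hg q with e | e
        · exact Or.inl (by rw [← mul_assoc, e])
        · exact Or.inr (by rw [← mul_assoc, e, mul_assoc _ (W.e zQ), ← hzS g hg, ← mul_assoc])
  -- every conjugate of `t` has class `{v, v z}`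
  have hclass : ∀ v ∈ W.NS, W.base.InD v →
      {u : G | ∃ g ∈ W.NS, g * v * g⁻¹ = u}.ncard = 2 ∧
        Nat.card ↥(W.NS ⊓ Subgroup.centralizer {v}) = 32 ∧
        W.base.InD (v * W.e zQ) := by
    intro v hv hd
    have hsub : {u : G | ∃ g ∈ W.NS, g * v * g⁻¹ = u} ⊆ ({v, v * W.e zQ} : Set G) := by
      rintro u ⟨g, hg, rfl⟩
      rcases commN g hg v hv with e | e
      · exact Or.inl (by rw [e]; group)
      · refine Or.inr (Set.mem_singleton_iff.mpr ?_)
        rw [e, mul_assoc v g, hzS g hg, ← mul_assoc v, mul_assoc (v * W.e zQ)]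
        group
    have hle : {u : G | ∃ g ∈ W.NS, g * v * g⁻¹ = u}.ncard ≤ 2 :=
      (Set.ncard_le_ncard hsub (Set.toFinite _)).trans ((Set.ncard_insert_le _ _).trans (by simp))
    obtain ⟨h2, h3⟩ := W.cent_card h.isP hd (m := 2) (by rw [h.card_NS]) hle
    refine ⟨h2, h3, ?_⟩
    by_contra hno
    have : {u : G | ∃ g ∈ W.NS, g * v * g⁻¹ = u} ⊆ ({v} : Set G) := fun u hu => by
      rcases hsub hu with e | e
      · exact e
      · obtain ⟨g, -, hgu⟩ := hu
        exact absurd ((hgu.trans e) ▸ hd.conj g) hno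
    have := (Set.ncard_le_ncard this (Set.toFinite _)).trans (le_of_eq (Set.ncard_singleton v))
    omega
  -- two further classes meet each centralizer, and do not commute
  have partners : ∀ v ∈ W.NS, W.base.InD v → ∃ u u', u ∈ W.NS ∧ u' ∈ W.NS ∧ W.base.InD u ∧ W.base.InD u' ∧
      u * v = v * u ∧ u' * v = v * u' ∧ u * u' ≠ u' * u ∧
      ∀ w ∈ W.NS, W.base.InD w → w * v = v * w →
        w = v ∨ w = v * W.e zQ ∨ w = u ∨ w = u * W.e zQ ∨ w = u' ∨ w = u' * W.e zQ := by
    intro v hv hd
    obtain ⟨g, hgt, hin, hout⟩ := W.exists_model hd _ (hclass v hv hd).2.1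
      (fun p hp => Subgroup.mem_centralizer_singleton_iff.mp hp.2)
    have conjmul : ∀ p q, g⁻¹ * W.e (p * q) * g = g⁻¹ * W.e p * g * (g⁻¹ * W.e q * g) := fun p q => by
      rw [map_mul]; group
    have hgz : g⁻¹ * W.e zQ * g = W.e zQ := by
      have e1 : xQ * yQ = yQ * xQ * zQ := by decide +kernel
      rcases commN _ (hin xQ).1 _ (hin yQ).1 with e | e
      · exfalso
        rw [← conjmul, ← conjmul, mul_left_inj, mul_right_inj, W.e_eq] at e
        exact absurd e (by decide +kernel)
      · rw [← conjmul, e1, ← conjmul yQ xQ, conjmul _ zQ, mul_right_inj] at e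
        exact e
    have hdg : ∀ q, W.base.InD (g⁻¹ * W.e q * g) ↔ q ∈ six := fun q => by
      have := Base.inD_conj_iff (B := W.base) g⁻¹ (v := W.e q)
      rw [inv_inv] at this
      rw [this, h.inD_e]
    refine ⟨g⁻¹ * W.e (tQ * yQ) * g, g⁻¹ * W.e (tQ * xQ * aQ) * g, (hin _).1, (hin _).1,
      (hdg _).mpr (by decide +kernel), (hdg _).mpr (by decide +kernel),
      Subgroup.mem_centralizer_singleton_iff.mp (hin _).2,
      Subgroup.mem_centralizer_singleton_iff.mp (hin _).2, ?_, ?_⟩
    · rw [← conjmul, ← conjmul]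
      intro e
      rw [mul_left_inj, mul_right_inj, W.e_eq] at e
      exact absurd e (by decide +kernel)
    · intro w hw hwd hwv
      obtain ⟨q, rfl⟩ := hout w ⟨hw, Subgroup.mem_centralizer_singleton_iff.mpr hwv⟩
      have hq := (hdg q).mp hwd
      simp only [six, Finset.mem_insert, Finset.mem_singleton] at hq
      rcases hq with rfl | rfl | rfl | rfl | rfl | rfl
      · exact Or.inl hgt
      · rw [conjmul, hgz, hgt]; exact Or.inr (Or.inl rfl)
      · exact Or.inr (Or.inr (Or.inl rfl))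
      · rw [conjmul _ zQ, hgz]; exact Or.inr (Or.inr (Or.inr (Or.inl rfl)))
      · exact Or.inr (Or.inr (Or.inr (Or.inr (Or.inl rfl))))
      · rw [conjmul _ zQ, hgz]; exact Or.inr (Or.inr (Or.inr (Or.inr (Or.inr rfl))))
  have hDy : W.base.InD (W.e (tQ * yQ)) := (h.inD_e _).mpr (by decide +kernel)
  -- an outside conjugate of `t` commuting with `t y`
  obtain ⟨u, hu, huS, hud, huy⟩ : ∃ u ∈ W.NS, u ∉ W.base.S ∧ W.base.InD u ∧
      u * W.e (tQ * yQ) = W.e (tQ * yQ) * u := by
    obtain ⟨u, u', hu, hu', hud, hud', huq, huq', hne, -⟩ := partners _ (W.e_mem_NS _) hDy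
    by_cases huS : u ∈ W.base.S
    · refine ⟨u', hu', fun huS' => hne ?_, hud', huq'⟩
      obtain ⟨p, rfl⟩ := (W.e_range u).mp huS
      obtain ⟨q, rfl⟩ := (W.e_range u').mp huS'
      rw [← map_mul, ← map_mul, W.e_eq] at huq huq' ⊢
      exact (show ∀ p ∈ six, ∀ q ∈ six, p * (tQ * yQ) = tQ * yQ * p → q * (tQ * yQ) = tQ * yQ * q →
        p * q = q * p by decide +kernel) p ((h.inD_e p).mp hud) q ((h.inD_e q).mp hud') huq huq'
    · exact ⟨u, hu, huS, hud, huq⟩
  obtain ⟨θ, hθi, hθ⟩ := W.exists_actHom hu.1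
  have hut := (h.act_t hu).resolve_left huS
  obtain ⟨hθt, hθa, hθxy⟩ := h.act hθi hθ hut
  have hθy : θ yQ = yQ * zQ := by
    have e : θ (tQ * yQ) = tQ * yQ := W.e_inj (by rw [← hθ, huy]; group)
    rw [map_mul, hθt] at e
    revert e
    generalize θ yQ = Y
    revert Y
    decide +kernel
  have hθx : θ xQ ∈ nearQ xQ := by
    rcases hθxy with hc | hc
    · exact hc.1
    · exact absurd hc.2 (by rw [hθy]; decide +kernel)
  simp only [nearQ, Finset.mem_insert, Finset.mem_singleton] at hθa hθx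
  obtain ⟨A, hA⟩ : ∃ A, A = θ aQ := ⟨_, rfl⟩
  obtain ⟨X, hX⟩ : ∃ X, X = θ xQ := ⟨_, rfl⟩
  rw [← hA] at hθa
  rw [← hX] at hθx
  have hθq : ∀ q, θ q = phiQ A X q := fun q => by
    rw [hom_eq_ext θ q, hθt, hθy, hA, hX]; rfl
  -- the model
  let μ : Bool × Q → G := fun v => W.e v.2 * if v.1 then u else 1
  have μN : ∀ v, μ v ∈ W.NS := fun v => by
    refine W.NS.mul_mem (W.e_mem_NS _) ?_
    cases v.1
    · exact W.NS.one_mem
    · exact hu
  have μmul : ∀ v w, μ v * μ w = μ (nodeMul (phiQ A X) v w) := by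
    rintro ⟨b, q⟩ ⟨c, p⟩
    cases b <;> cases c <;> simp only [μ, nodeMul, ← hθq, Bool.xor_false, Bool.false_xor, Bool.xor_true,
      Bool.true_xor, Bool.not_false, Bool.not_true, if_true, if_false, Bool.false_eq_true, mul_one,
      map_mul, ← hθ]
    · group
    · group
    · calc W.e q * u * (W.e p * u) = W.e q * (u * W.e p * u⁻¹) * (u * u) := by group
        _ = _ := by rw [hud.sq, mul_one]
  have μinj : Function.Injective μ := by
    rintro ⟨b, q⟩ ⟨c, p⟩ e
    have hout' : ∀ q p : Q, W.e q * u ≠ W.e p := fun q p e => huS (by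
      rw [show u = W.e (q⁻¹ * p) by rw [map_mul, map_inv, ← e]; group]; exact W.mem_S _)
    cases b <;> cases c <;> simp only [μ, if_true, if_false, Bool.false_eq_true, mul_one] at e
    · rw [W.e_eq.mp e]
    · exact absurd e.symm (hout' _ _)
    · exact absurd e (hout' _ _)
    · rw [W.e_eq.mp (mul_right_cancel e)]
  have μcomm : ∀ v w, NodeComm (phiQ A X) v w ↔ μ v * μ w = μ w * μ v := fun v w => by
    rw [μmul, μmul, μinj.eq_iff]
    rfl
  have μz : ∀ v, μ v * W.e zQ = μ (v.1, v.2 * zQ) := by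
    rintro ⟨b, q⟩
    cases b <;> simp only [μ, if_true, if_false, Bool.false_eq_true, mul_one, map_mul]
    rw [mul_assoc, hzS u hu, mul_assoc]
  have hu2 : u * u = 1 := hud.sq
  let L : List Q := halfQ.filter fun q => decide (W.base.InD (μ (true, q)))
  have hDinv : ∀ q, W.base.InD (μ (true, q)) → q * phiQ A X q = 1 := by
    intro q hq
    have e := hq.sq
    rw [μmul] at e
    have e1 : μ (false, 1) = 1 := by simp [μ]
    rw [← e1] at e
    exact congrArg Prod.snd (μinj e)
  have hL : L ∈ (candQ (phiQ A X)).sublists := by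
    have e : L = (candQ (phiQ A X)).filter fun q => decide (W.base.InD (μ (true, q))) := by
      rw [candQ, List.filter_filter]
      refine List.filter_congr fun q _ => ?_
      by_cases hq : W.base.InD (μ (true, q))
      · simp [hq, hDinv q hq]
      · simp [hq]
    rw [e]
    exact List.mem_sublists.mpr List.filter_sublist
  have node_mem : ∀ v ∈ nodes L, W.base.InD (μ v) ∧ v.2 ∈ halfQ ∨
      (v ∈ [(false, tQ), (false, tQ * yQ), (false, tQ * aQ * xQ)] ∧ W.base.InD (μ v)) := by
    intro v hv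
    rw [nodes, List.mem_append] at hv
    rcases hv with hv | hv
    · refine Or.inr ⟨hv, ?_⟩
      have := (show ∀ v ∈ [(false, tQ), (false, tQ * yQ), (false, tQ * aQ * xQ)], v.1 = false ∧ v.2 ∈ six
        by decide +kernel) v hv
      obtain ⟨b, q⟩ := v
      obtain ⟨rfl, hq⟩ := this
      simpa [μ] using (h.inD_e q).mpr hq
    · obtain ⟨q, hq, rfl⟩ := List.mem_map.mp hv
      obtain ⟨h1, h2⟩ := List.mem_filter.mp hq
      exact Or.inl ⟨of_decide_eq_true h2, h1⟩
  have node_D : ∀ v ∈ nodes L, W.base.InD (μ v) ∧ v.2 ∈ halfQ := by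
    intro v hv
    rcases node_mem v hv with hc | ⟨hc, hd⟩
    · exact hc
    · exact ⟨hd, (show ∀ v ∈ [(false, tQ), (false, tQ * yQ), (false, tQ * aQ * xQ)], v.2 ∈ halfQ by
        decide +kernel) v hc⟩
  have node_cover : ∀ g ∈ W.NS, W.base.InD g → ∃ v ∈ nodes L, g = μ v ∨ g = μ v * W.e zQ := by
    intro g hg hgd
    by_cases hgS : g ∈ W.base.S
    · obtain ⟨q, rfl⟩ := (W.e_range g).mp hgS
      obtain ⟨p, hp, e⟩ := six_nodes q ((h.inD_e q).mp hgd)
      refine ⟨(false, p), List.mem_append_left _ ?_, ?_⟩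
      · exact (show ∀ p ∈ [tQ, tQ * yQ, tQ * aQ * xQ],
          ((false, p) : Bool × Q) ∈ [(false, tQ), (false, tQ * yQ), (false, tQ * aQ * xQ)] by decide +kernel) p hp
      · rcases e with rfl | rfl
        · exact Or.inl (by simp [μ])
        · exact Or.inr (by simp [μ])
    · obtain ⟨q, rfl⟩ := h.rel hu huS hg hgS
      obtain ⟨p, hp, e⟩ := half_cases q
      have hgμ : W.e q * u = μ (true, q) := rfl
      have hpd : W.base.InD (μ (true, p)) := by
        rcases e with rfl | rfl
        · exact hgμ ▸ hgd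
        · have := (hclass _ hg hgd).2.2
          rw [hgμ, μz] at this
          simpa [mul_assoc, show zQ * zQ = 1 by decide +kernel] using this
      refine ⟨(true, p), List.mem_append_right _ (List.mem_map.mpr
        ⟨p, List.mem_filter.mpr ⟨hp, decide_eq_true hpd⟩, rfl⟩), ?_⟩
      rcases e with rfl | rfl
      · exact Or.inl hgμ
      · exact Or.inr (by rw [hgμ, μz])
  have node_inj : ∀ v ∈ nodes L, ∀ w ∈ nodes L, (μ v = μ w ∨ μ v = μ w * W.e zQ) → v = w := by
    intro v hv w hw e
    rw [μz] at e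
    rcases e with e | e
    · exact μinj e
    · have e' := μinj e
      refine Prod.ext ?_ (half_inj _ (node_D v hv).2 _ (node_D w hw).2 (Or.inr (congrArg Prod.snd e')))
      exact (congrArg Prod.fst e' :)
  have cz : ∀ {a b : G}, a ∈ W.NS → (a * (b * W.e zQ) = b * W.e zQ * a ↔ a * b = b * a) := by
    intro a b ha
    rw [mul_assoc b (W.e zQ), ← hzS a ha, ← mul_assoc, ← mul_assoc, mul_left_inj]
  have hnd : (nodes L).Nodup := by
    have key : ∀ l : List Q, l.Nodup → (nodes l).Nodup := fun l hl => by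
      rw [nodes, List.nodup_append]
      refine ⟨by decide +kernel, hl.map (fun p q e => congrArg Prod.snd e), fun a ha b hb e => ?_⟩
      obtain ⟨q, -, rfl⟩ := List.mem_map.mp hb
      subst e
      exact absurd ((show ∀ v ∈ [(false, tQ), (false, tQ * yQ), (false, tQ * aQ * xQ)], v.1 = false by
        decide +kernel) _ ha) (by simp)
    exact key L (half_nodup.filter _)
  have hgood : ∀ v ∈ nodes L, GoodNode (phiQ A X) L v := by
    intro v hv
    obtain ⟨hvd, -⟩ := node_D v hv
    obtain ⟨p, p', hp, hp', hpd, hpd', hpv, hpv', hpp, hall⟩ := partners _ (μN v) hvd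
    obtain ⟨a, ha, hae⟩ := node_cover p hp hpd
    obtain ⟨b, hb, hbe⟩ := node_cover p' hp' hpd'
    have eqv : ∀ {g : G} {c : Bool × Q}, (g = μ c ∨ g = μ c * W.e zQ) → ∀ k ∈ W.NS,
        (k * g = g * k ↔ k * μ c = μ c * k) := fun {g c} e k hk => by
      rcases e with rfl | rfl
      · exact Iff.rfl
      · exact cz hk
    have hva : μ v * μ a = μ a * μ v := (eqv hae _ (μN v)).mp hpv.symm
    have hvb : μ v * μ b = μ b * μ v := (eqv hbe _ (μN v)).mp hpv'.symm
    have hab : μ a * μ b ≠ μ b * μ a := fun e => hpp ((eqv hbe p hp).mpr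
      ((eqv hae (μ b) (μN b)).mpr e.symm).symm)
    have hav : a ≠ v := fun e => hab (by rw [e]; exact hvb)
    have hbv : b ≠ v := fun e => hab (by rw [e]; exact hva.symm)
    have hmem : ∀ w, w ∈ partnersOf (phiQ A X) L v ↔ w = a ∨ w = b := by
      intro w
      rw [partnersOf, List.mem_filter, Bool.and_eq_true, decide_eq_true_iff, decide_eq_true_iff, μcomm]
      constructor
      · rintro ⟨hw, hwv, hwc⟩
        have back : ∀ {g : G} {c : Bool × Q}, (g = μ c ∨ g = μ c * W.e zQ) →
            (μ w = g ∨ μ w = g * W.e zQ) → μ w = μ c ∨ μ w = μ c * W.e zQ := fun {g c} e k => by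
          rcases e with rfl | rfl <;> rcases k with k | k
          · exact Or.inl k
          · exact Or.inr k
          · exact Or.inr k
          · exact Or.inl (by rw [k, mul_assoc, hz1, mul_one])
        rcases hall _ (μN w) (node_D w hw).1 hwc.symm with k | k | k | k | k | k
        · exact absurd (node_inj w hw v hv (Or.inl k)) hwv
        · exact absurd (node_inj w hw v hv (Or.inr k)) hwv
        · exact Or.inl (node_inj w hw a ha (back hae (Or.inl k)))
        · exact Or.inl (node_inj w hw a ha (back hae (Or.inr k)))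
        · exact Or.inr (node_inj w hw b hb (back hbe (Or.inl k)))
        · exact Or.inr (node_inj w hw b hb (back hbe (Or.inr k)))
      · rintro (rfl | rfl)
        · exact ⟨ha, hav, hva⟩
        · exact ⟨hb, hbv, hvb⟩
    have hne : a ≠ b := fun e => hab (by rw [e])
    refine ⟨?_, fun x hx y hy hxy hc => ?_⟩
    · have hn : (partnersOf (phiQ A X) L v).Nodup := hnd.filter _
      rw [← List.toFinset_card_of_nodup hn, show (partnersOf (phiQ A X) L v).toFinset = {a, b} from
        Finset.ext fun w => by simp [hmem w]]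
      exact Finset.card_pair hne
    · rw [μcomm] at hc
      rcases (hmem x).mp hx with rfl | rfl <;> rcases (hmem y).mp hy with rfl | rfl
      exacts [hxy rfl, hab hc, hab hc.symm, hxy rfl]
  have hodd := odd_outside hθa hθx hL hgood
  -- the transfer
  let T : Finset G := (L.toFinset ×ˢ (Finset.univ : Finset Bool)).image
    fun qb => μ (true, if qb.2 then qb.1 * zQ else qb.1)
  have hTmem : ∀ g, g ∈ T ↔ g ∈ W.NS ∧ g ∉ W.base.S ∧ W.base.InD g := by
    intro g
    constructor
    · intro hg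
      obtain ⟨⟨q, b⟩, hqb, rfl⟩ := Finset.mem_image.mp hg
      obtain ⟨h1, -⟩ := Finset.mem_product.mp hqb
      have hd : W.base.InD (μ (true, q)) := of_decide_eq_true (List.mem_filter.mp (List.mem_toFinset.mp h1)).2
      refine ⟨μN _, fun hS => ?_, ?_⟩
      · obtain ⟨p, hp⟩ := (W.e_range _).mp hS
        have : μ (false, p) = μ (true, if b then q * zQ else q) := by simp [μ] at hp ⊢; exact hp
        exact absurd (congrArg Prod.fst (μinj this)) (by simp)
      · cases b
        · exact hd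
        · have := (hclass _ (μN _) hd).2.2
          rw [μz] at this
          exact this
    · rintro ⟨h1, h2, h3⟩
      obtain ⟨⟨b, p⟩, hv, e⟩ := node_cover g h1 h3
      have hb : b = true := by
        cases b
        · exfalso; apply h2
          rcases e with rfl | rfl
          · simp [μ, W.mem_S]
          · simp only [μ, Bool.false_eq_true, if_false, mul_one]
            exact W.base.S.mul_mem (W.mem_S _) (W.mem_S _)
        · rfl
      subst hb
      have hpL : p ∈ L := by
        rcases List.mem_append.mp hv with k | k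
        · exact absurd ((show ∀ v ∈ [(false, tQ), (false, tQ * yQ), (false, tQ * aQ * xQ)], v.1 = false by
            decide +kernel) _ k) (by simp)
        · obtain ⟨q, hq, e'⟩ := List.mem_map.mp k
          have hqp : q = p := congrArg Prod.snd e'
          exact hqp ▸ hq
      rcases e with rfl | rfl
      · exact Finset.mem_image.mpr ⟨(p, false), Finset.mem_product.mpr
          ⟨List.mem_toFinset.mpr hpL, Finset.mem_univ _⟩, rfl⟩
      · refine Finset.mem_image.mpr ⟨(p, true), Finset.mem_product.mpr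
          ⟨List.mem_toFinset.mpr hpL, Finset.mem_univ _⟩, ?_⟩
        rw [μz]
        rfl
  have hTcard : T.card = 2 * L.length := by
    rw [Finset.card_image_of_injOn, Finset.card_product, List.toFinset_card_of_nodup (half_nodup.filter _),
      Finset.card_univ, Fintype.card_bool, mul_comm]
    rintro ⟨q, b⟩ hq ⟨p, c⟩ hp e
    have hq' : q ∈ halfQ := (List.mem_filter.mp (List.mem_toFinset.mp (Finset.mem_product.mp hq).1)).1
    have hp' : p ∈ halfQ := (List.mem_filter.mp (List.mem_toFinset.mp (Finset.mem_product.mp hp).1)).1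
    have e' := congrArg Prod.snd (μinj e)
    exact (show ∀ q ∈ halfQ, ∀ p ∈ halfQ, ∀ b c : Bool,
      (if b then q * zQ else q) = (if c then p * zQ else p) → (q, b) = (p, c) by decide +kernel) q hq' p hp' b c e'
  refine W.index_two_of_parity W.NS (fun g => if g ∈ W.base.S then 0 else 1) ?_ T (fun v => ?_)
    (fun v hv => (hclass v ((hTmem v).mp hv).1 ((hTmem v).mp hv).2.2).1) (by norm_num) hTcard
    (Nat.odd_iff.mpr hodd)
  · intro g hg k hk
    by_cases hgS : g ∈ W.base.S <;> by_cases hkS : k ∈ W.base.S <;>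
      simp [h.f_mul g hg k hk, hgS, hkS] <;> decide
  · rw [hTmem v]
    constructor
    · rintro ⟨h1, h2, h3⟩
      exact ⟨W.ext_of_cent h1 h3 (hclass v h1 h3).2.1, if_neg h2⟩
    · rintro ⟨⟨h1, h3, -⟩, h2⟩
      refine ⟨h1, fun hS => ?_, h3⟩
      simp only [hS, if_true] at h2
      exact absurd h2 (by decide)

/-- The pattern `P0` gives a subgroup of index 2. -/
theorem P0.index_two [Finite G] (h : W.P0) : ∃ K : Subgroup G, K.index = 2 := by
  obtain ⟨r, φ, hr, hrS, hi, hφ, hrt⟩ := h.exists_r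
  rcases (h.act hi hφ hrt).2.2 with ⟨hx, hy⟩ | ⟨hx, hy⟩
  · exact h.noswap_index_two hr hrS hi hφ hrt hx hy
  · exact h.swap_index_two hr hrS hi hφ hrt hx hy

end Setup

end Cfsg.Agent.SixCentralizer
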