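/-
Common facts about the normalizer of `S` in the pattern `P2`.

* `P2.act` : `t` moves within `t⟨a, z⟩` and `ψ₁` is invariant
* `P2.card_NS` : it has order 128
* `commutator_conj` : transport of the derived subgroup of the centralizer of a pair
-/
import Cfsg.Agent.Lib.SixCentralizer.Local
import Cfsg.Agent.EqLemmas

set_option autoImplicit false
set_option maxRecDepth 100000
set_option synthInstance.maxSize 4000
set_option linter.style.haveILetI false

namespace Cfsg.Agent.SixCentralizer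

/-- The four elements `t⟨a, z⟩`. -/
def orbitQ : Finset Q := {tQ, tQ * aQ, tQ * zQ, tQ * aQ * zQ}

theorem ct_add : ∀ p q : Q, ct (p * q) = ct p + ct q := by decide +kernel

universe u

variable {G : Type u} [Group G]

/-- An element moving two elements to two others moves the derived group of their centralizer. -/
theorem commutator_conj (u v u' v' g x : G) (hu : g * u * g⁻¹ = u') (hv : g * v * g⁻¹ = v')
    (hx : x ∈ ⁅Subgroup.centralizer ({u, v} : Set G), Subgroup.centralizer ({u, v} : Set G)⁆) :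
    g * x * g⁻¹ ∈ ⁅Subgroup.centralizer ({u', v'} : Set G), Subgroup.centralizer ({u', v'} : Set G)⁆ := by
  have hle : (Subgroup.centralizer ({u, v} : Set G)).map (MulAut.conj g).toMonoidHom ≤
      Subgroup.centralizer ({u', v'} : Set G) := by
    rintro y ⟨c, hc, rfl⟩
    refine Subgroup.mem_centralizer_iff.mpr fun w hw => ?_
    have hcu := Subgroup.mem_centralizer_iff.mp hc u (by simp)
    have hcv := Subgroup.mem_centralizer_iff.mp hc v (by simp)
    simp only [MulEquiv.coe_toMonoidHom, MulAut.conj_apply]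
    rcases hw with rfl | rfl
    · rw [← hu]
      calc g * u * g⁻¹ * (g * c * g⁻¹) = g * (u * c) * g⁻¹ := by group
        _ = g * (c * u) * g⁻¹ := by rw [hcu]
        _ = _ := by group
    · rw [← hv]
      calc g * v * g⁻¹ * (g * c * g⁻¹) = g * (v * c) * g⁻¹ := by group
        _ = g * (c * v) * g⁻¹ := by rw [hcv]
        _ = _ := by group
  have hmem : g * x * g⁻¹ ∈ (⁅Subgroup.centralizer ({u, v} : Set G),
      Subgroup.centralizer ({u, v} : Set G)⁆).map (MulAut.conj g).toMonoidHom := ⟨x, hx, by simp⟩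
  rw [Subgroup.map_commutator] at hmem
  exact Subgroup.commutator_mono hle hle hmem

namespace Setup

variable {W : Setup G}

theorem P2.act [Finite G] (h : W.P2) {g : G} {φ : Q →* Q} (hi : Function.Injective φ)
    (hφ : ∀ q, g * W.e q * g⁻¹ = W.e (φ q)) :
    φ tQ ∈ orbitQ ∧ ∀ q, ct (φ q) = ct q := by
  have hinv : ∀ q, q * q = 1 → ct (φ q) = ct q := by
    intro q hq
    have hφq : φ q * φ q = 1 := by rw [← map_mul, hq, map_one]
    have key : ct (φ q) = 1 ↔ ct q = 1 := by
      have := W.act_inD hφ q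
      rw [h.inD_e, h.inD_e] at this
      simpa [hq, hφq] using this
    exact (show ∀ b c : ZMod 2, (b = 1 ↔ c = 1) → b = c by decide +kernel) _ _ key
  refine ⟨?_, fun q => ?_⟩
  · have h1 : Cen (φ tQ) := (act_center hi).mpr (by decide +kernel)
    have h2 : ct (φ tQ) = 1 := (hinv tQ (by decide +kernel)).trans (by decide +kernel)
    exact (show ∀ q : Q, Cen q → ct q = 1 → q ∈ orbitQ by decide +kernel) _ h1 h2
  · let c : Q →* Multiplicative (ZMod 2) := MonoidHom.mk' (fun q => Multiplicative.ofAdd (ct q))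
      (fun p q => by rw [← ofAdd_add, ct_add])
    have e : c.comp φ = c := MonoidHom.ext fun q => by
      rw [hom_eq_ext (c.comp φ) q, hom_eq_ext c q]
      simp only [MonoidHom.comp_apply, c, MonoidHom.mk'_apply, hinv tQ (by decide +kernel),
        hinv aQ (by decide +kernel), hinv xQ (by decide +kernel), hinv yQ (by decide +kernel)]
    exact Multiplicative.ofAdd.injective (DFunLike.congr_fun e q)

theorem P2.act_t [Finite G] (h : W.P2) {g : G} (hg : g ∈ W.NS) :
    ∃ f ∈ orbitQ, g * W.base.t * g⁻¹ = W.e f := by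
  obtain ⟨φ, hi, hφ⟩ := W.exists_actHom hg.1
  exact ⟨φ tQ, (h.act hi hφ).1, by rw [← W.e_t, hφ]⟩

theorem P2.exists_move [Finite G] (h : W.P2) {f : Q} (hf : f ∈ orbitQ) :
    ∃ g ∈ W.NS, g * W.base.t * g⁻¹ = W.e f := by
  have hc : Cen f ∧ f * f = 1 ∧ ct f = 1 := (show ∀ f ∈ orbitQ, Cen f ∧ f * f = 1 ∧ ct f = 1 by
    decide +kernel) f hf
  obtain ⟨g, hg, hgt⟩ := W.exists_norm hc.1 (h.inD_e.mpr ⟨hc.2.1, hc.2.2⟩)
  exact ⟨g, W.mem_NS.mpr hg, hgt⟩

theorem P2.card_NS [Finite G] (h : W.P2) : Nat.card W.NS = 128 := by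
  classical
  choose g hg hgt using fun f : orbitQ => h.exists_move f.2
  let Φ : orbitQ × Q → W.NS := fun p => ⟨g p.1 * W.e p.2, W.NS.mul_mem (hg _) (W.e_mem_NS _)⟩
  have hΦ : Function.Bijective Φ := by
    constructor
    · rintro ⟨f, q⟩ ⟨f', q'⟩ e
      have e' : g f * W.e q = g f' * W.e q' := congrArg Subtype.val e
      have hff : f = f' := by
        apply Subtype.ext
        apply W.e_inj
        rw [← hgt f, ← hgt f']
        have e1 : ∀ (a : G) (p : Q), a * W.e p * W.base.t * (a * W.e p)⁻¹ = a * W.base.t * a⁻¹ := fun a p => by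
          rw [mul_assoc a, W.e_comm_t p]; group
        rw [← e1 (g f) q, e', e1]
      subst hff
      rw [W.e_eq.mp (mul_left_cancel e')]
    · rintro ⟨k, hk⟩
      obtain ⟨f, hf, hkt⟩ := h.act_t hk
      have hS : (g ⟨f, hf⟩)⁻¹ * k ∈ W.base.S := by
        refine W.mem_of_fix ((W.NS.mul_mem (W.NS.inv_mem (hg _)) hk).1) ?_
        calc (g ⟨f, hf⟩)⁻¹ * k * W.base.t * ((g ⟨f, hf⟩)⁻¹ * k)⁻¹
            = (g ⟨f, hf⟩)⁻¹ * (k * W.base.t * k⁻¹) * g ⟨f, hf⟩ := by group
          _ = W.base.t := by rw [hkt, ← hgt ⟨f, hf⟩]; group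
      obtain ⟨q, hq⟩ := (W.e_range _).mp hS
      exact ⟨(⟨f, hf⟩, q), Subtype.ext (by simp [Φ, hq])⟩
  rw [← Nat.card_congr (Equiv.ofBijective Φ hΦ), Nat.card_prod, card_Q, Nat.card_eq_finsetCard]
  decide +kernel

theorem P2.isP [Finite G] (h : W.P2) : IsPGroup 2 W.NS :=
  IsPGroup.of_card (n := 7) (by rw [h.card_NS]; norm_num)

end Setup

end Cfsg.Agent.SixCentralizer
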