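/-
The pattern `P2` when some element normalizing `S` moves `a`.

* `P2.moving_index_two` : there is a subgroup of index 2
-/
import Cfsg.Agent.Lib.SixCentralizer.PTwo
import Cfsg.Agent.EqLemmas

set_option autoImplicit false
set_option maxRecDepth 100000
set_option synthInstance.maxSize 4000
set_option linter.style.haveILetI false

namespace Cfsg.Agent.SixCentralizer

/-- The possible actions. -/
def cycQ (X Y : Q) : Q → Q := ext (tQ * aQ) (aQ * zQ) X Y

/-- Powers of the action. -/
def cycPow (X Y : Q) : ℕ → Q → Q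
  | 0, q => q
  | i + 1, q => cycQ X Y (cycPow X Y i q)

theorem cyc_candidates : ∀ X Y : Q, ∀ U : Q, inA U ∧ ¬ Cen U → X = U * (aQ * zQ) →
    ct Y = 0 → Y * Y = 1 → X * Y ≠ Y * X →
    (X = yQ * aQ ∨ X = yQ * aQ * zQ) ∧ (Y = xQ ∨ Y = xQ * zQ ∨ Y = xQ * aQ ∨ Y = xQ * aQ * zQ) := by
  decide +kernel

/-- The four translates of `t`. -/
def cycT : ℕ → Q
  | 0 => tQ
  | 1 => tQ * aQ
  | 2 => tQ * zQ
  | _ => tQ * aQ * zQ

theorem cycT_mem : ∀ f ∈ orbitQ, ∃ i < 4, f = cycT i := by decide +kernel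

theorem cycT_succ {X Y : Q} (hX : X = yQ * aQ ∨ X = yQ * aQ * zQ)
    (hY : Y = xQ ∨ Y = xQ * zQ ∨ Y = xQ * aQ ∨ Y = xQ * aQ * zQ) :
    ∀ i < 4, cycQ X Y (cycT i) = cycT ((i + 1) % 4) := by
  rcases hX with rfl | rfl <;> rcases hY with rfl | rfl | rfl | rfl <;> decide +kernel

theorem cyc_move {X Y : Q} (hX : X = yQ * aQ ∨ X = yQ * aQ * zQ) (hY : Y = xQ ∨ Y = xQ * zQ) :
    ∀ v : Q, v * v = 1 → ct v = 1 → ¬ Cen v → ∀ i ∈ [1, 2, 3], ∀ s : Q, s * cycPow X Y i v * s⁻¹ ≠ v := by
  rcases hX with rfl | rfl <;> rcases hY with rfl | rfl <;> decide +kernel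

theorem cyc_fixed {X Y : Q} (hX : X = yQ * aQ ∨ X = yQ * aQ * zQ) (hY : Y = xQ ∨ Y = xQ * zQ) :
    ∀ s : Q, (Finset.univ.filter fun q => s * cycPow X Y 2 q * s⁻¹ = q).card < 16 := by
  rcases hX with rfl | rfl <;> rcases hY with rfl | rfl <;> decide +kernel

theorem cyc_square {X Y : Q} (hX : X = yQ * aQ ∨ X = yQ * aQ * zQ)
    (hY : Y = xQ * aQ ∨ Y = xQ * aQ * zQ) :
    ∃ v : Q, v * cycPow X Y 2 tQ * v⁻¹ = tQ * zQ ∧ v * cycPow X Y 2 aQ * v⁻¹ = aQ ∧
      v * cycPow X Y 2 xQ * v⁻¹ = xQ ∧ v * cycPow X Y 2 yQ * v⁻¹ = yQ := by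
  rcases hX with rfl | rfl <;> rcases hY with rfl | rfl <;> decide +kernel

theorem cyc_class {X Y : Q} (hX : X = yQ * aQ ∨ X = yQ * aQ * zQ)
    (hY : Y = xQ * aQ ∨ Y = xQ * aQ * zQ) :
    ∀ i < 4, ∀ s : Q,
      s * cycPow X Y i (tQ * xQ) * s⁻¹ ∈ ({tQ * xQ, tQ * xQ * zQ, tQ * yQ, tQ * yQ * zQ} : Finset Q) := by
  rcases hX with rfl | rfl <;> rcases hY with rfl | rfl <;> decide +kernel

/-- The action of the outside involution centralizing `⟨a, x, y⟩`. -/
def hQ : Q → Q := ext (tQ * zQ) aQ xQ yQ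

theorem hQ_invol : ∀ q : Q, q * hQ q = 1 ↔
    ((ct q = 0 ∧ q * q = 1 ∧ hQ q = q ∧ (cx q = 0 ∨ cy q = 0)) ∨ (ct q = 1 ∧ cx q = 1 ∧ cy q = 1)) := by
  decide +kernel

theorem hQ_fixed : ∀ q : Q, q * hQ q = 1 →
    16 ≤ (Finset.univ.filter fun p => q * hQ p * q⁻¹ = p).card := by decide +kernel

theorem hQ_counts :
    (Finset.univ.filter fun q => q * hQ q = 1 ∧ ct q = 0).card = 12 ∧
      (Finset.univ.filter fun q => q * hQ q = 1 ∧ ct q = 1).card = 4 := by decide +kernel

universe u

variable {G : Type u} [Group G]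

namespace Setup

variable {W : Setup G}

set_option maxHeartbeats 1000000 in
/-- The pattern `P2` with an element of the normalizer of `S` moving `a`. -/
theorem P2.moving_index_two [Finite G] (h : W.P2) {g₀ : G} (hg₀ : g₀ ∈ W.NS)
    (hga : g₀ * W.e aQ * g₀⁻¹ ≠ W.e aQ) : ∃ K : Subgroup G, K.index = 2 := by
  classical
  letI := Fintype.ofFinite G
  -- `r` with `t ↦ t a` and `a ↦ a z`
  obtain ⟨r, hr, hrt, hra⟩ : ∃ r ∈ W.NS, r * W.e tQ * r⁻¹ = W.e (tQ * aQ) ∧
      r * W.e aQ * r⁻¹ = W.e (aQ * zQ) := by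
    obtain ⟨φ, hi, hφ⟩ := W.exists_actHom hg₀.1
    obtain ⟨hT, hct⟩ := h.act hi hφ
    have hz : φ zQ = zQ := act_z hi
    have hA : φ aQ = aQ * zQ := by
      have h1 : Cen (φ aQ) := (act_center hi).mpr (by decide +kernel)
      have h2 : ct (φ aQ) = 0 := (hct aQ).trans (by decide +kernel)
      rcases (show ∀ q : Q, Cen q → ct q = 0 → q = 1 ∨ q = zQ ∨ q = aQ ∨ q = aQ * zQ by decide +kernel) _ h1 h2
        with e | e | e | e
      · exact absurd (hi (e.trans (map_one φ).symm)) (by decide +kernel)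
      · exact absurd (hi (e.trans hz.symm)) (by decide +kernel)
      · exact absurd (by rw [hφ, e]) hga
      · exact e
    simp only [orbitQ, Finset.mem_insert, Finset.mem_singleton] at hT
    have hsq : ∀ q, g₀ * g₀ * W.e q * (g₀ * g₀)⁻¹ = W.e (φ (φ q)) := fun q => by
      rw [show g₀ * g₀ * W.e q * (g₀ * g₀)⁻¹ = g₀ * (g₀ * W.e q * g₀⁻¹) * g₀⁻¹ by group, hφ, hφ]
    rcases hT with e | e | e | e
    · exfalso
      apply hga
      rw [W.mem_S_act_center (W.mem_of_fix hg₀.1 (by rw [← W.e_t, hφ, e])) (by decide +kernel)]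
    · exact ⟨g₀, hg₀, by rw [hφ, e], by rw [hφ, hA]⟩
    · exfalso
      have h2 : g₀ ∈ W.base.S := by
        refine W.mem_of_fix_center hg₀.1 (q := tQ * aQ) (by decide +kernel) h.2.1 ?_
        rw [hφ, map_mul, e, hA]
        exact congrArg W.e (by decide +kernel)
      exact hga (W.mem_S_act_center h2 (by decide +kernel))
    · refine ⟨g₀⁻¹, W.NS.inv_mem hg₀, W.inv_conj ?_, W.inv_conj ?_⟩
      · rw [hφ, map_mul, e, hA]
        exact congrArg W.e (by decide +kernel)
      · rw [hφ, map_mul, hA, hz]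
        exact congrArg W.e (by decide +kernel)
  obtain ⟨φ, hi, hφ⟩ := W.exists_actHom hr.1
  obtain ⟨-, hct⟩ := h.act hi hφ
  have hT : φ tQ = tQ * aQ := W.e_inj (by rw [← hφ, hrt])
  have hA : φ aQ = aQ * zQ := W.e_inj (by rw [← hφ, hra])
  have hz : φ zQ = zQ := act_z hi
  have hXY : (φ xQ = yQ * aQ ∨ φ xQ = yQ * aQ * zQ) ∧
      (φ yQ = xQ ∨ φ yQ = xQ * zQ ∨ φ yQ = xQ * aQ ∨ φ yQ = xQ * aQ * zQ) := by
    have hu : inA (φ (xQ * aQ)) := by
      rw [← W.derA, ← hφ]
      have h1 : W.e (xQ * aQ) ∈ ⁅Subgroup.centralizer ({W.base.t, W.e (aQ * zQ)} : Set G),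
          Subgroup.centralizer ({W.base.t, W.e (aQ * zQ)} : Set G)⁆ := (W.derB _).mpr (by decide +kernel)
      have h2 := commutator_conj _ _ (W.e (tQ * aQ)) (W.e aQ) r _ (by rw [← W.e_t, hrt])
        (by rw [hφ, map_mul, hA, hz]; exact congrArg W.e (by decide +kernel)) h1
      have hset : Subgroup.centralizer ({W.e (tQ * aQ), W.e aQ} : Set G) =
          Subgroup.centralizer ({W.base.t, W.e aQ} : Set G) := by
        ext g
        simp only [Subgroup.mem_centralizer_iff, Set.mem_insert_iff, Set.mem_singleton_iff, forall_eq_or_imp,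
          forall_eq, map_mul, W.e_t]
        constructor
        · rintro ⟨h1, h2⟩
          refine ⟨mul_right_cancel (b := W.e aQ) ?_, h2⟩
          rw [mul_assoc g W.base.t, ← h1, mul_assoc, mul_assoc, h2]
        · rintro ⟨h1, h2⟩
          exact ⟨by rw [mul_assoc, h2, ← mul_assoc, h1, mul_assoc], h2⟩
      rwa [hset] at h2
    refine cyc_candidates _ _ (φ (xQ * aQ)) ⟨hu, fun hc => ?_⟩ ?_ ?_ ?_ ?_
    · exact absurd ((act_center hi).mp hc) (by decide +kernel)
    · rw [← hA, ← map_mul]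
      exact congrArg φ (by decide +kernel)
    · rw [hct]; decide +kernel
    · rw [← map_mul, show yQ * yQ = (1 : Q) by decide +kernel, map_one]
    · intro e
      rw [← map_mul, ← map_mul] at e
      exact absurd (hi e) (by decide +kernel)
  obtain ⟨X, hX⟩ : ∃ X, X = φ xQ := ⟨_, rfl⟩
  obtain ⟨Y, hY⟩ : ∃ Y, Y = φ yQ := ⟨_, rfl⟩
  rw [← hX, ← hY] at hXY
  obtain ⟨hX', hY'⟩ := hXY
  have hφq : ∀ q, φ q = cycQ X Y q := fun q => by rw [hom_eq_ext φ q, hT, hA, hX, hY]; rfl
  have hpow : ∀ i q, r ^ i * W.e q * (r ^ i)⁻¹ = W.e (cycPow X Y i q) := by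
    intro i
    induction i with
    | zero => intro q; simp [cycPow]
    | succ i ih =>
      intro q
      rw [pow_succ', show r * r ^ i * W.e q * (r * r ^ i)⁻¹ = r * (r ^ i * W.e q * (r ^ i)⁻¹) * r⁻¹ by group,
        ih, hφ, hφq]
      rfl
  have hpowT : ∀ i, cycPow X Y i tQ = cycT (i % 4) := by
    intro i
    induction i with
    | zero => rfl
    | succ i ih =>
      show cycQ X Y (cycPow X Y i tQ) = _
      rw [ih, cycT_succ hX' hY' _ (Nat.mod_lt _ (by norm_num))]
      congr 1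
      omega
  -- every element is `e s * r ^ i`
  have hdec : ∀ g ∈ W.NS, ∃ i < 4, ∃ s, g = W.e s * r ^ i := by
    intro g hg
    obtain ⟨f, hf, hgt⟩ := h.act_t hg
    obtain ⟨i, hi4, rfl⟩ := cycT_mem f hf
    have hS : g * (r ^ i)⁻¹ ∈ W.base.S := by
      have h1 : r ^ i * W.e tQ * (r ^ i)⁻¹ = W.e (cycT i) := by rw [hpow, hpowT, Nat.mod_eq_of_lt hi4]
      refine W.mem_of_fix_center ((W.NS.mul_mem hg (W.NS.inv_mem (W.NS.pow_mem hr i))).1)
        (q := cycT i) ?_ ?_ ?_
      · exact (show ∀ f ∈ orbitQ, Cen f by decide +kernel) _ hf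
      · exact ⟨g, hgt⟩
      · rw [← h1, show g * (r ^ i)⁻¹ * (r ^ i * W.e tQ * (r ^ i)⁻¹) * (g * (r ^ i)⁻¹)⁻¹ =
          g * W.e tQ * g⁻¹ by group, W.e_t, hgt, ← W.e_t, h1]
    obtain ⟨s, hs⟩ := (W.e_range _).mp hS
    exact ⟨i, hi4, s, by rw [hs]; group⟩
  have himg : ∀ i s, (W.e s * r ^ i) * W.base.t * (W.e s * r ^ i)⁻¹ = W.e (cycT (i % 4)) := fun i s => by
    rw [← W.e_t, show W.e s * r ^ i * W.e tQ * (W.e s * r ^ i)⁻¹ = W.e s * (r ^ i * W.e tQ * (r ^ i)⁻¹) * (W.e s)⁻¹
      by group, hpow, hpowT, ← map_inv, ← map_mul, ← map_mul]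
    refine congrArg W.e ?_
    have hc : Cen (cycT (i % 4)) := (show ∀ i < 4, Cen (cycT i) by decide +kernel) _ (Nat.mod_lt _ (by norm_num))
    rw [hc s, mul_inv_cancel_right]
  -- the degree
  let deg : G → ZMod 4 := fun g =>
    if g * W.base.t * g⁻¹ = W.e (cycT 0) then 0 else if g * W.base.t * g⁻¹ = W.e (cycT 1) then 1
    else if g * W.base.t * g⁻¹ = W.e (cycT 2) then 2 else 3
  have hdeg : ∀ (i : ℕ) (s : Q), deg (W.e s * r ^ i) = (i : ZMod 4) := fun i s => by
    simp only [deg, himg, W.e_eq]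
    rw [← ZMod.natCast_mod i 4]
    have h4 := Nat.mod_lt i (by norm_num : 4 > 0)
    generalize i % 4 = j at h4 ⊢
    revert h4; revert j
    intro j hj
    interval_cases j <;> decide +kernel
  have hmove : ∀ i s p, (W.e s * r ^ i) * W.e p * (W.e s * r ^ i)⁻¹ = W.e (s * cycPow X Y i p * s⁻¹) :=
    fun i s p => by simp only [map_mul, map_inv, ← hpow]; group
  have hdeg_mul : ∀ g ∈ W.NS, ∀ k ∈ W.NS, deg (g * k) = deg g + deg k := by
    intro g hg k hk
    obtain ⟨i, -, s, rfl⟩ := hdec g hg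
    obtain ⟨j, -, p, rfl⟩ := hdec k hk
    have e : W.e s * r ^ i * (W.e p * r ^ j) = W.e (s * cycPow X Y i p) * r ^ (i + j) := by
      rw [map_mul, ← hpow, pow_add]; group
    rw [e, hdeg, hdeg, hdeg, Nat.cast_add]
  have hdegS : ∀ g ∈ W.NS, deg g = 0 → g ∈ W.base.S := by
    intro g hg e
    obtain ⟨i, hi4, s, rfl⟩ := hdec g hg
    rw [hdeg] at e
    interval_cases i
    · simp [W.mem_S]
    all_goals exact absurd e (by decide)
  have hinv2 : ∀ v ∈ W.NS, W.base.InD v → v ∉ W.base.S →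
      ∃ s, v = W.e s * r ^ 2 := by
    intro v hv hd hvS
    obtain ⟨i, hi4, s, e⟩ := hdec v hv
    have h2 := hdeg_mul v hv v hv
    rw [hd.sq] at h2
    have h1 : deg 1 = 0 := by simpa using hdeg 0 1
    rw [h1, e, hdeg] at h2
    interval_cases i
    · exact absurd (by rw [e]; simp [W.mem_S]) hvS
    · exact absurd h2 (by decide)
    · exact ⟨s, e⟩
    · exact absurd h2 (by decide)
  have hcase : (Y = xQ ∨ Y = xQ * zQ) ∨ (Y = xQ * aQ ∨ Y = xQ * aQ * zQ) := by tauto
  rcases hcase with hY1 | hY2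
  · -- only the class of `t` is large
    let K : Subgroup ↥W.NS :=
      { carrier := {g | ∃ q, ct q = 0 ∧ (g : G) = W.e q}
        one_mem' := ⟨1, by decide +kernel, by simp⟩
        mul_mem' := by
          rintro a b ⟨p, hp, ea⟩ ⟨q, hq, eb⟩
          exact ⟨p * q, by rw [ct_add, hp, hq, add_zero], by rw [Subgroup.coe_mul, ea, eb, map_mul]⟩
        inv_mem' := by
          rintro a ⟨p, hp, ea⟩
          exact ⟨p⁻¹, by rw [(show ∀ p : Q, ct p⁻¹ = ct p by decide +kernel), hp],
            by rw [InvMemClass.coe_inv, ea, map_inv]⟩ }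
    have hctpow : ∀ i p, ct (cycPow X Y i p) = ct p := by
      intro i p
      induction i with
      | zero => rfl
      | succ i ih => show ct (cycQ X Y _) = _; rw [← hφq, hct, ih]
    haveI hKn : K.Normal := by
      refine ⟨fun n hn g => ?_⟩
      obtain ⟨q, hq, e⟩ := hn
      obtain ⟨i, -, s, hg⟩ := hdec g g.2
      refine ⟨s * cycPow X Y i q * s⁻¹, ?_, ?_⟩
      · rw [ct_add, ct_add, (show ∀ p : Q, ct p⁻¹ = ct p by decide +kernel), hctpow, hq, add_zero]
        exact (show ∀ b : ZMod 2, b + b = 0 by decide) _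
      · rw [← hmove, ← hg, ← e]
        rfl
    have hcommK : ∀ g k : ↥W.NS, g * k * g⁻¹ * k⁻¹ ∈ K := by
      have hS : ∀ (g : ↥W.NS) (p : Q),
          g * ⟨W.e p, W.e_mem_NS p⟩ * g⁻¹ * (⟨W.e p, W.e_mem_NS p⟩ : ↥W.NS)⁻¹ ∈ K := by
        intro g p
        obtain ⟨i, -, s, hg⟩ := hdec g g.2
        refine ⟨s * cycPow X Y i p * s⁻¹ * p⁻¹, ?_, ?_⟩
        · simp only [ct_add, (show ∀ p : Q, ct p⁻¹ = ct p by decide +kernel), hctpow]
          exact (show ∀ a b : ZMod 2, a + b + a + b = 0 by decide) _ _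
        · simp only [Subgroup.coe_mul, InvMemClass.coe_inv]
          rw [hg, hmove, map_mul _ _ p⁻¹, map_inv]
      intro g k
      rw [← QuotientGroup.eq_one_iff]
      let π := QuotientGroup.mk' K
      show π (g * k * g⁻¹ * k⁻¹) = 1
      obtain ⟨i, -, s, hg⟩ := hdec g g.2
      obtain ⟨j, -, p, hk⟩ := hdec k k.2
      have eg : g = ⟨W.e s, W.e_mem_NS s⟩ * (⟨r, hr⟩ : ↥W.NS) ^ i := Subtype.ext (by simp [hg])
      have ek : k = ⟨W.e p, W.e_mem_NS p⟩ * (⟨r, hr⟩ : ↥W.NS) ^ j := Subtype.ext (by simp [hk])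
      have cen : ∀ (q : Q) (x : ↥W.NS), π x * π ⟨W.e q, W.e_mem_NS q⟩ = π ⟨W.e q, W.e_mem_NS q⟩ * π x :=
        fun q x => by
          have := (QuotientGroup.eq_one_iff (N := K) _).mpr (hS x q)
          have h1 : π x * π ⟨W.e q, W.e_mem_NS q⟩ * (π x)⁻¹ * (π ⟨W.e q, W.e_mem_NS q⟩)⁻¹ = 1 := by
            rw [← map_inv, ← map_inv, ← map_mul, ← map_mul, ← map_mul]
            exact this
          rw [mul_inv_eq_one, mul_inv_eq_iff_eq_mul] at h1
          exact h1
      have hrr : Commute (π ⟨r, hr⟩ ^ i) (π ⟨r, hr⟩ ^ j) := (Commute.refl _).pow_pow i j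
      have hc : Commute (π g) (π k) := by
        rw [eg, ek]
        simp only [map_mul, map_pow]
        exact ((show Commute (π ⟨W.e s, _⟩) (π ⟨W.e p, _⟩) from cen p _).mul_right
          ((show Commute (π ⟨W.e s, _⟩) (π ⟨r, hr⟩) from (cen s _).symm).pow_right j)).mul_left
          ((((show Commute (π ⟨r, hr⟩) (π ⟨W.e p, _⟩) from cen p _).pow_left i).mul_right hrr))
      rw [map_mul, map_mul, map_mul, map_inv, map_inv, hc.eq]
      group
    have hK : commutator ↥W.NS ≤ K := by
      rw [commutator_def, Subgroup.commutator_le]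
      exact fun g _ k _ => hcommK g k
    refine W.base.index_two_of_single (A := Abelianization ↥W.NS) ?_ Abelianization.of
      (v₀ := W.base.t) ?_ ?_ ?_
    · exact (h.isP).of_surjective Abelianization.of QuotientGroup.mk_surjective
    · exact ⟨W.S_le_NS W.base.t_mem, W.base.inD_t, W.base.S, W.S_le_NS, rfl, W.base.S_comm⟩
    · rw [Base.val_of_mem _ (W.S_le_NS W.base.t_mem)]
      intro hone
      obtain ⟨q, hq, e⟩ := hK ((QuotientGroup.eq_one_iff _).mp hone)
      rw [show ((⟨W.base.t, W.S_le_NS W.base.t_mem⟩ : ↥W.NS) : G) = W.e tQ from W.e_t.symm, W.e_eq] at e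
      exact absurd (e ▸ hq) (by decide +kernel)
    · intro v hv _
      obtain ⟨hvN, hvD, P, hPN, hPc, hPv⟩ := hv
      rw [W.card_S] at hPc
      by_cases hvS : v ∈ W.base.S
      · obtain ⟨q, rfl⟩ := (W.e_range v).mp hvS
        obtain ⟨hq2, hq1⟩ := h.inD_e.mp hvD
        by_cases hqc : Cen q
        · obtain ⟨i, -, rfl⟩ := cycT_mem q
            ((show ∀ q : Q, Cen q → ct q = 1 → q ∈ orbitQ by decide +kernel) q hqc hq1)
          rcases Nat.lt_or_ge i 4 with hi4 | hi4
          · refine ⟨(r ^ i)⁻¹, W.NS.inv_mem (W.NS.pow_mem hr i), ?_⟩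
            have h1 : r ^ i * W.e tQ * (r ^ i)⁻¹ = W.e (cycT i) := by rw [hpow, hpowT, Nat.mod_eq_of_lt hi4]
            rw [← h1, W.e_t]
            group
          · refine ⟨(r ^ 3)⁻¹, W.NS.inv_mem (W.NS.pow_mem hr 3), ?_⟩
            have h1 : r ^ 3 * W.e tQ * (r ^ 3)⁻¹ = W.e (cycT i) := by
              rw [hpow, hpowT]
              obtain ⟨n, rfl⟩ := Nat.exists_eq_add_of_le hi4
              rw [Nat.add_comm]; rfl
            rw [← h1, W.e_t]
            group
        · exfalso
          have hnot : ¬ P ≤ W.base.S := fun hPS => hqc fun p => W.e_inj (by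
            rw [map_mul, map_mul]
            exact hPv _ (by rw [Subgroup.eq_of_le_of_card_ge hPS (by rw [W.card_S, hPc])]; exact W.mem_S p))
          obtain ⟨g, hgP, hgS⟩ := SetLike.not_le_iff_exists.mp hnot
          obtain ⟨i, hi4, s, rfl⟩ := hdec g (hPN hgP)
          have hfix := hPv _ hgP
          have hi0 : i ∈ [1, 2, 3] := by
            interval_cases i
            · exact absurd (by simp [W.mem_S]) hgS
            all_goals simp
          refine cyc_move hX' hY1 q hq2 hq1 hqc i hi0 s (W.e_inj ?_)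
          rw [← hmove, hfix]
          group
      · exfalso
        obtain ⟨s, hvs⟩ := hinv2 v hvN hvD hvS
        -- the centralizer meets `S` in a subgroup of index at most 2
        obtain ⟨g, -, hin, hout⟩ := W.exists_model hvD P hPc hPv
        have hsqS : ∀ p ∈ P, p * p ∈ W.base.S := by
          intro p hp
          obtain ⟨a, rfl⟩ := hout p hp
          rcases sq_cases a with e | e
          · rw [show g⁻¹ * W.e a * g * (g⁻¹ * W.e a * g) = g⁻¹ * W.e (a * a) * g by rw [map_mul]; group, e,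
              map_one]
            simpa using W.base.S.one_mem
          · refine hdegS _ (W.NS.mul_mem (hPN hp) (hPN hp)) ?_
            have hz' : deg (g⁻¹ * W.e zQ * g) = 0 := by
              have e2 : g⁻¹ * W.e zQ * g = (g⁻¹ * W.e xQ * g) * (g⁻¹ * W.e yQ * g) *
                  (g⁻¹ * W.e xQ * g)⁻¹ * (g⁻¹ * W.e yQ * g)⁻¹ := by
                rw [show zQ = xQ * yQ * xQ⁻¹ * yQ⁻¹ by decide +kernel]
                simp only [map_mul, map_inv]
                group
              have hx := hPN (hin xQ)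
              have hy := hPN (hin yQ)
              have hinvd : ∀ k ∈ W.NS, deg k⁻¹ = - deg k := fun k hk => by
                have := hdeg_mul k hk k⁻¹ (W.NS.inv_mem hk)
                rw [mul_inv_cancel, show deg 1 = 0 by simpa using hdeg 0 1] at this
                exact (neg_eq_of_add_eq_zero_right this.symm).symm
              rw [e2, hdeg_mul _ (W.NS.mul_mem (W.NS.mul_mem hx hy) (W.NS.inv_mem hx)) _ (W.NS.inv_mem hy),
                hdeg_mul _ (W.NS.mul_mem hx hy) _ (W.NS.inv_mem hx), hdeg_mul _ hx _ hy, hinvd _ hx, hinvd _ hy]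
              ring
            rw [show g⁻¹ * W.e a * g * (g⁻¹ * W.e a * g) = g⁻¹ * W.e (a * a) * g by rw [map_mul]; group, e]
            exact hz'
        have hP2 : ∀ p ∈ P, deg p = 0 ∨ deg p = 2 := by
          intro p hp
          obtain ⟨q, hq⟩ := (W.e_range _).mp (hsqS p hp)
          have e := hdeg_mul p (hPN hp) p (hPN hp)
          rw [← hq, show deg (W.e q) = 0 by simpa using hdeg 0 q] at e
          revert e
          generalize deg p = b
          revert b
          decide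
        let f : ↥P →* Multiplicative (ZMod 4) := MonoidHom.mk' (fun p => Multiplicative.ofAdd (deg p))
          (fun p q => by rw [← ofAdd_add, ← hdeg_mul _ (hPN p.2) _ (hPN q.2)]; rfl)
        have hidx : f.ker.index ≤ 2 := by
          rw [Subgroup.index_ker]
          have hsub : (f.range : Set (Multiplicative (ZMod 4))) ⊆
              {Multiplicative.ofAdd 0, Multiplicative.ofAdd 2} := by
            rintro x ⟨p, rfl⟩
            rcases hP2 p p.2 with e | e
            · exact Or.inl (by show Multiplicative.ofAdd (deg p) = _; rw [e])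
            · exact Or.inr (by show Multiplicative.ofAdd (deg p) = _; rw [e])
          rw [← SetLike.coe_sort_coe, Nat.card_coe_set_eq]
          exact (Set.ncard_le_ncard hsub (Set.toFinite _)).trans
            ((Set.ncard_insert_le _ _).trans (by simp))
        have hhalf : 16 ≤ Nat.card f.ker := by
          have := f.ker.card_mul_index
          rw [hPc] at this
          have h2 : Nat.card f.ker * f.ker.index ≤ Nat.card f.ker * 2 := Nat.mul_le_mul_left _ hidx
          omega
        have hfix : ∀ p : f.ker, ∃ q, W.e q = ((p : ↥P) : G) ∧ s * cycPow X Y 2 q * s⁻¹ = q := by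
          intro p
          have hp0 : deg ((p : ↥P) : G) = 0 := Multiplicative.ofAdd.injective p.2
          obtain ⟨q, hq⟩ := (W.e_range _).mp (hdegS _ (hPN (p : ↥P).2) hp0)
          refine ⟨q, hq, W.e_inj ?_⟩
          have hc := hPv _ (p : ↥P).2
          rw [← hq, hvs] at hc
          rw [← hmove, ← hc]
          group
        choose qf hqf1 hqf2 using hfix
        have hle : Nat.card f.ker ≤ (Finset.univ.filter fun q => s * cycPow X Y 2 q * s⁻¹ = q).card := by
          rw [← Nat.card_eq_finsetCard]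
          refine Nat.card_le_card_of_injective
            (fun p => ⟨qf p, Finset.mem_filter.mpr ⟨Finset.mem_univ _, hqf2 p⟩⟩) fun p q e => ?_
          apply Subtype.ext; apply Subtype.ext
          rw [← hqf1 p, ← hqf1 q, show qf p = qf q from congrArg Subtype.val e]
        have := cyc_fixed hX' hY1 s
        omega
  · -- an involution outside `S` centralizing `⟨a, x, y⟩`
    obtain ⟨v₀, hv1, hv2, hv3, hv4⟩ := cyc_square hX' hY2
    obtain ⟨k, hk0⟩ : ∃ k, k = W.e v₀ * r ^ 2 := ⟨_, rfl⟩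
    have hkN : k ∈ W.NS := hk0 ▸ W.NS.mul_mem (W.e_mem_NS _) (W.NS.pow_mem hr 2)
    have hk : ∀ q, k * W.e q * k⁻¹ = W.e (hQ q) := fun q => hk0 ▸ W.conj_ext
      (by rw [hmove, hv1]) (by rw [hmove, hv2]) (by rw [hmove, hv3]) (by rw [hmove, hv4]) q
    have hcl : {u : G | ∃ g ∈ W.NS, g * W.e (tQ * xQ) * g⁻¹ = u}.ncard ≤ 4 := by
      have hsub : {u : G | ∃ g ∈ W.NS, g * W.e (tQ * xQ) * g⁻¹ = u} ⊆
          (↑(({tQ * xQ, tQ * xQ * zQ, tQ * yQ, tQ * yQ * zQ} : Finset Q).image W.e) : Set G) := by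
        rintro u ⟨g, hg, rfl⟩
        obtain ⟨i, hi4, s, rfl⟩ := hdec g hg
        rw [hmove]
        exact Finset.mem_coe.mpr (Finset.mem_image_of_mem _ (cyc_class hX' hY2 i hi4 s))
      refine (Set.ncard_le_ncard hsub (Finset.finite_toSet _)).trans ?_
      rw [Set.ncard_coe_finset]
      exact Finset.card_image_le.trans (le_of_eq (by decide +kernel))
    have hDtx : W.base.InD (W.e (tQ * xQ)) := h.inD_e.mpr (by decide +kernel)
    obtain ⟨-, hPc⟩ := W.cent_card h.isP hDtx (m := 4) (by rw [h.card_NS]) hcl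
    have hkyP : k * W.e yQ ∈ W.NS ⊓ Subgroup.centralizer {W.e (tQ * xQ)} := by
      refine ⟨W.NS.mul_mem hkN (W.e_mem_NS _), Subgroup.mem_centralizer_singleton_iff.mpr ?_⟩
      rw [← mul_inv_eq_iff_eq_mul, show k * W.e yQ * W.e (tQ * xQ) * (k * W.e yQ)⁻¹ =
        k * (W.e yQ * W.e (tQ * xQ) * (W.e yQ)⁻¹) * k⁻¹ by group, ← map_inv, ← map_mul, ← map_mul, hk]
      exact congrArg W.e (by decide +kernel)
    have htP : W.e tQ ∈ W.NS ⊓ Subgroup.centralizer {W.e (tQ * xQ)} := by
      refine ⟨W.e_mem_NS _, Subgroup.mem_centralizer_singleton_iff.mpr ?_⟩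
      rw [← map_mul, ← map_mul]
      exact congrArg W.e (by decide +kernel)
    have hk2 : k * k = 1 ∨ k * k = W.e zQ := by
      have hkt : k * W.e tQ = W.e (tQ * zQ) * k := mul_inv_eq_iff_eq_mul.mp ((hk tQ).trans
        (congrArg W.e (by decide +kernel)))
      have hyk : W.e yQ * k = k * W.e yQ := by
        have := (hk yQ).trans (congrArg W.e (by decide +kernel : hQ yQ = yQ))
        exact (mul_inv_eq_iff_eq_mul.mp this).symm
      have hkk : k * W.e yQ * (k * W.e yQ) = k * k := by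
        rw [mul_assoc, ← mul_assoc (W.e yQ), hyk, mul_assoc, ← map_mul,
          show yQ * yQ = (1 : Q) by decide +kernel, map_one, mul_one]
      have htk : k * W.e yQ * W.e tQ = W.e zQ * (W.e tQ * (k * W.e yQ)) := by
        rw [mul_assoc, W.e_t, W.e_comm_t, ← mul_assoc, ← W.e_t, hkt, ← mul_assoc (W.e zQ), ← map_mul,
          show zQ * tQ = tQ * zQ by decide +kernel, mul_assoc]
      have hne : k * W.e yQ * W.e tQ ≠ W.e tQ * (k * W.e yQ) := by
        rw [htk]
        intro e
        have := mul_eq_right.mp e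
        rw [← map_one W.e, W.e_eq] at this
        exact absurd this (by decide +kernel)
      rcases W.model_sq hDtx _ hPc (fun p hp => Subgroup.mem_centralizer_singleton_iff.mp hp.2)
        hkyP htP hkyP hne with e | e
      · exact Or.inl (hkk ▸ e)
      · rw [htk, hkk] at e
        exact Or.inr (mul_right_cancel e)
    -- the involution
    obtain ⟨hh, hhN, hh2, hhact, hhdeg⟩ : ∃ hh ∈ W.NS, hh * hh = 1 ∧
        (∀ q, hh * W.e q * hh⁻¹ = W.e (hQ q)) ∧ ∃ s, hh = W.e s * r ^ 2 := by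
      rcases hk2 with e | e
      · exact ⟨k, hkN, e, hk, v₀, hk0⟩
      · refine ⟨W.e tQ * k, W.NS.mul_mem (W.e_mem_NS _) hkN, ?_, fun q => ?_, tQ * v₀, by
          rw [hk0, map_mul]; group⟩
        · calc W.e tQ * k * (W.e tQ * k) = W.e tQ * (k * W.e tQ * k⁻¹) * (k * k) := by group
            _ = 1 := by rw [hk, e, ← map_mul, ← map_mul, ← map_one W.e]; exact congrArg W.e (by decide +kernel)
        · rw [show W.e tQ * k * W.e q * (W.e tQ * k)⁻¹ = W.e tQ * (k * W.e q * k⁻¹) * (W.e tQ)⁻¹ by group, hk,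
            ← map_inv, ← map_mul, ← map_mul]
          exact congrArg W.e ((show ∀ p : Q, tQ * p * tQ⁻¹ = p by decide +kernel) _)
    obtain ⟨s₀, hs₀⟩ := hhdeg
    have hcomm : ∀ p, hQ p = p → W.e p * hh = hh * W.e p := fun p hp =>
      (mul_inv_eq_iff_eq_mul.mp ((hhact p).trans (congrArg W.e hp))).symm
    have hsqv : ∀ q, (W.e q * hh) * (W.e q * hh) = W.e (q * hQ q) := fun q => by
      rw [map_mul, ← hhact]
      calc W.e q * hh * (W.e q * hh) = W.e q * (hh * W.e q * hh⁻¹) * (hh * hh) := by group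
        _ = _ := by rw [hh2, mul_one]
    have hdeg2 : ∀ q, deg (W.e q * hh) = 2 := fun q => by
      rw [hs₀, show W.e q * (W.e s₀ * r ^ 2) = W.e (q * s₀) * r ^ 2 by rw [map_mul]; group, hdeg]
      decide
    have hinD : ∀ q, q * hQ q = 1 →
        (W.base.InD (W.e q * hh) ↔ (W.base.InD hh ↔ ct q = 0)) := by
      have hlow : ∀ p, p * p = 1 → ct p = 0 → hQ p = p → (W.base.InD (W.e p * hh) ↔ W.base.InD hh) := by
        intro p hp hp0 hpf
        have hnd : ¬ W.base.InD (W.e p) := fun hd => by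
          rw [h.inD_e] at hd; rw [hp0] at hd; exact absurd hd.2 (by decide)
        have hc := hcomm p hpf
        have hp' : W.e p * W.e p = 1 := by rw [← map_mul, hp, map_one]
        constructor
        · intro hd
          by_contra hn
          have hcv : W.e p * hh * W.e p = W.e p * (W.e p * hh) := by rw [mul_assoc, ← hc]
          have := (h.pair hd hcv hp')
          rw [hcv, ← mul_assoc, hp', one_mul] at this
          exact hnd (this.mpr hn)
        · intro hd
          by_contra hn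
          have := (h.pair hd hc.symm hp')
          rw [← hc] at this
          exact hnd (this.mpr hn)
      intro q hq
      rcases (hQ_invol q).mp hq with ⟨h0, h1, h2, -⟩ | ⟨h1, hx, hy⟩
      · rw [hlow q h1 h0 h2]
        simp [h0]
      · have hy' : ∃ f, q = tQ * xQ * (yQ * f) ∧ (yQ * f) * (yQ * f) = 1 ∧ ct (yQ * f) = 0 ∧
            hQ (yQ * f) = yQ * f ∧ (yQ * f) * (tQ * zQ * xQ) * (yQ * f)⁻¹ = tQ * xQ :=
          (show ∀ q : Q, ct q = 1 → cx q = 1 → cy q = 1 → ∃ f, q = tQ * xQ * (yQ * f) ∧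
            (yQ * f) * (yQ * f) = 1 ∧ ct (yQ * f) = 0 ∧
            hQ (yQ * f) = yQ * f ∧ (yQ * f) * (tQ * zQ * xQ) * (yQ * f)⁻¹ = tQ * xQ by decide +kernel) q h1 hx hy
        obtain ⟨f, rfl, f2, f0, ff, fc⟩ := hy'
        have hv2 : W.e (yQ * f) * hh * (W.e (yQ * f) * hh) = 1 := by rw [hsqv, ff, f2, map_one]
        have hc : W.e (tQ * xQ) * (W.e (yQ * f) * hh) = W.e (yQ * f) * hh * W.e (tQ * xQ) := by
          refine (mul_inv_eq_iff_eq_mul.mp ?_).symm
          calc W.e (yQ * f) * hh * W.e (tQ * xQ) * (W.e (yQ * f) * hh)⁻¹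
              = W.e (yQ * f) * (hh * W.e (tQ * xQ) * hh⁻¹) * (W.e (yQ * f))⁻¹ := by group
            _ = W.e ((yQ * f) * hQ (tQ * xQ) * (yQ * f)⁻¹) := by rw [hhact, map_mul _ _ (yQ * f)⁻¹, map_inv,
                map_mul _ (yQ * f) (hQ _)]
            _ = W.e (tQ * xQ) := by
              rw [show hQ (tQ * xQ) = tQ * zQ * xQ by decide +kernel, fc]
        have := h.pair hDtx hc hv2
        rw [hlow _ f2 f0 ff, ← mul_assoc, ← map_mul] at this
        rw [h1]
        simp only [(show (1 : ZMod 2) ≠ 0 by decide), iff_false]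
        tauto
    let c0 : ZMod 2 := if W.base.InD hh then 0 else 1
    let Tq : Finset Q := Finset.univ.filter fun q => q * hQ q = 1 ∧ ct q = c0
    let T : Finset G := Tq.image fun q => W.e q * hh
    have hTmem : ∀ v, v ∈ T ↔ v ∈ W.NS ∧ W.base.InD v ∧ v ∉ W.base.S := by
      intro v
      constructor
      · intro hv
        obtain ⟨q, hq, rfl⟩ := Finset.mem_image.mp hv
        obtain ⟨h1, h2⟩ := (Finset.mem_filter.mp hq).2
        refine ⟨W.NS.mul_mem (W.e_mem_NS q) hhN, (hinD q h1).mpr ?_, fun hS => ?_⟩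
        · by_cases hD : W.base.InD hh
          · simp [c0, hD] at h2; simp [hD, h2]
          · simp [c0, hD] at h2; simp [hD, h2]
        · obtain ⟨p, hp⟩ := (W.e_range _).mp hS
          have := hdeg2 q
          rw [← hp, show deg (W.e p) = 0 by simpa using hdeg 0 p] at this
          exact absurd this (by decide)
      · rintro ⟨hv, hd, hvS⟩
        obtain ⟨s, hs⟩ := hinv2 v hv hd hvS
        have hv' : v = W.e (s * s₀⁻¹) * hh := by rw [hs, hs₀, map_mul, map_inv]; group
        refine Finset.mem_image.mpr ⟨s * s₀⁻¹, Finset.mem_filter.mpr ⟨Finset.mem_univ _, ?_⟩, hv'.symm⟩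
        have h1 : s * s₀⁻¹ * hQ (s * s₀⁻¹) = 1 := W.e_inj (by rw [← hsqv, ← hv', hd.sq, map_one])
        refine ⟨h1, ?_⟩
        have := (hinD _ h1).mp (hv' ▸ hd)
        by_cases hD : W.base.InD hh
        · simp [c0, hD]; exact this.mp hD
        · simp [c0, hD]
          exact (show ∀ b : ZMod 2, b ≠ 0 → b = 1 by decide) _ (fun e => hD (this.mpr e))
    have hcent : ∀ v ∈ T, {u : G | ∃ g ∈ W.NS, g * v * g⁻¹ = u}.ncard = 4 ∧
        Nat.card ↥(W.NS ⊓ Subgroup.centralizer {v}) = 32 := by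
      intro v hv
      obtain ⟨hvN, hvD, hvS⟩ := (hTmem v).mp hv
      obtain ⟨q, hq, rfl⟩ := Finset.mem_image.mp hv
      have hq2 := (Finset.mem_filter.mp hq).2.1
      set C := W.NS ⊓ Subgroup.centralizer {W.e q * hh}
      have hle : Nat.card C ≤ 32 := W.two_le hvD C (h.isP.to_le inf_le_left)
        (fun p hp => Subgroup.mem_centralizer_singleton_iff.mp hp.2)
      have h16 : 16 < Nat.card C := by
        let Fx := Finset.univ.filter fun p => q * hQ p * q⁻¹ = p
        let j : Option Fx → C := fun o => match o with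
          | none => ⟨W.e q * hh, W.NS.mul_mem (W.e_mem_NS q) hhN,
              Subgroup.mem_centralizer_singleton_iff.mpr rfl⟩
          | some p => ⟨W.e p, W.e_mem_NS _, Subgroup.mem_centralizer_singleton_iff.mpr (by
              have hp := (Finset.mem_filter.mp p.2).2
              refine (mul_inv_eq_iff_eq_mul.mp ?_).symm
              rw [show W.e q * hh * W.e p * (W.e q * hh)⁻¹ = W.e q * (hh * W.e p * hh⁻¹) * (W.e q)⁻¹ by group,
                hhact, ← map_inv, ← map_mul, ← map_mul, hp])⟩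
        have hj : Function.Injective j := by
          rintro (- | p) (- | p') e
          · rfl
          · have e' : W.e q * hh = W.e p' := congrArg Subtype.val e
            exact absurd (show W.e q * hh ∈ W.base.S by rw [e']; exact W.mem_S p') hvS
          · have e' : W.e p = W.e q * hh := congrArg Subtype.val e
            exact absurd (show W.e q * hh ∈ W.base.S by rw [← e']; exact W.mem_S p) hvS
          · exact congrArg some (Subtype.ext (W.e_inj (congrArg Subtype.val e :)))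
        have := Nat.card_le_card_of_injective j hj
        rw [Nat.card_eq_fintype_card (α := Option Fx), Fintype.card_option, Fintype.card_coe] at this
        exact lt_of_lt_of_le (Nat.lt_succ_of_le (hQ_fixed q hq2)) this
      have hdvd : Nat.card C ∣ 128 := h.card_NS ▸ Subgroup.card_dvd_of_le inf_le_left
      have h32 : Nat.card C = 32 := by
        have := (Nat.dvd_prime_pow Nat.prime_two).mp (show Nat.card C ∣ 2 ^ 7 by simpa using hdvd)
        obtain ⟨i, -, hi⟩ := this
        rw [hi] at h16 hle ⊢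
        have h5 : i ≤ 5 := (Nat.pow_le_pow_iff_right (by norm_num : 1 < 2)).mp (by simpa using hle)
        have h4 : 4 < i := (Nat.pow_lt_pow_iff_right (by norm_num : 1 < 2)).mp (by simpa using h16)
        rw [show i = 5 by omega]
        norm_num
      have hcc := class_card W.NS (W.e q * hh)
      rw [h32, h.card_NS] at hcc
      exact ⟨by omega, h32⟩
    let ψ : ↥W.NS →* Multiplicative (ZMod 4) := MonoidHom.mk' (fun g => Multiplicative.ofAdd (deg g))
      (fun g g' => by rw [← ofAdd_add, ← hdeg_mul _ g.2 _ g'.2]; rfl)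
    have hval : ∀ v ∈ W.NS, Base.val ψ v = Multiplicative.ofAdd (deg v) := fun v hv => Base.val_of_mem ψ hv
    have hcard : T.card = 4 * (if W.base.InD hh then 3 else 1) := by
      rw [Finset.card_image_of_injective _ (fun p q e => W.e_inj (mul_right_cancel e))]
      by_cases hD : W.base.InD hh
      · simp only [Tq, c0, hD, if_true, hQ_counts.1]
      · simp only [Tq, c0, hD, if_false, hQ_counts.2]
    refine W.base.index_two_of_count (IsPGroup.of_card (n := 2) (by simp)) ψ
      (c := Multiplicative.ofAdd 2) (by decide +kernel) T (fun v => ?_) (fun v hv => ?_)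
      (fun v hv => (hcent v hv).1) (by norm_num) hcard ?_
    · constructor
      · intro hv
        obtain ⟨h1, h2, h3⟩ := (hTmem v).mp hv
        refine ⟨W.ext_of_cent h1 h2 (hcent v hv).2, ?_⟩
        rw [hval v h1]
        intro e
        exact h3 (hdegS v h1 (Multiplicative.ofAdd.injective e))
      · rintro ⟨⟨h1, h2, -⟩, hne⟩
        refine (hTmem v).mpr ⟨h1, h2, fun hS => hne ?_⟩
        obtain ⟨p, rfl⟩ := (W.e_range v).mp hS
        rw [hval _ h1, show deg (W.e p) = 0 by simpa using hdeg 0 p]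
        rfl
    · obtain ⟨q, -, rfl⟩ := Finset.mem_image.mp hv
      rw [hval _ ((hTmem _).mp hv).1, hdeg2]
    · split_ifs
      · exact ⟨1, rfl⟩
      · exact odd_one

end Setup

end Cfsg.Agent.SixCentralizer
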