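/-
A model of the normalizer of `S` in the pattern `P2` when it fixes `⟨a, z⟩` pointwise.

* `nMul` : the product, in coordinates `(c, d, q)` for `q h^c k^d`
* `four_split` : an odd count for one of five homomorphisms, or one of four exceptional shapes
-/
import Cfsg.Agent.Lib.SixCentralizer.Setup
import Cfsg.Agent.EqLemmas

set_option autoImplicit false
set_option maxRecDepth 100000
set_option synthInstance.maxSize 4000

namespace Cfsg.Agent.SixCentralizer

/-- A power with exponent a flag. -/
def bpow (c : Bool) (q : Q) : Q := if c then q else 1

/-- The action of `h`. -/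
def hActQ (l : Bool) : Q → Q := ext (tQ * aQ) aQ (xQ * bpow l aQ) yQ

/-- The action of `k`. -/
def kActQ (m : Bool) : Q → Q := ext (tQ * aQ * zQ) aQ xQ (yQ * bpow m (aQ * zQ))

/-- The parameters: the two actions and the commutator. -/
structure Par where
  l : Bool
  m : Bool
  b : Q

/-- The action of `h^c k^d`. -/
def Par.act (P : Par) (c d : Bool) (q : Q) : Q :=
  let q' := if d then kActQ P.m q else q
  if c then hActQ P.l q' else q'

/-- Coordinates of an element. -/
abbrev Node : Type := Bool × Bool × Q

/-- The product. -/
def nMul (P : Par) (v w : Node) : Node :=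
  (xor v.1 w.1, xor v.2.1 w.2.1, v.2.2 * P.act v.1 v.2.1 w.2.2 * bpow (v.2.1 && w.1) P.b)

/-- Representatives of `S` modulo `⟨a, z⟩`. -/
def eightQ : List Q := [1, xQ, yQ, xQ * yQ, tQ, tQ * xQ, tQ * yQ, tQ * xQ * yQ]

/-- The representative modulo `⟨a, z⟩`. -/
def rp8 (q : Q) : Q := bpow (ct q = 1) tQ * bpow (cx q = 1) xQ * bpow (cy q = 1) yQ

/-- The representative of a node. -/
def rpN (v : Node) : Node := (v.1, v.2.1, rp8 v.2.2)

/-- All representatives. -/
def repNodes : List Node :=
  ([(false, false), (true, false), (false, true), (true, true)] : List (Bool × Bool)).flatMap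
    fun cd => eightQ.map fun q => (cd.1, cd.2, q)

/-- The identity node. -/
def nOne : Node := (false, false, 1)

/-- The classes of `S`. -/
def baseD : List Node := [(false, false, tQ), (false, false, tQ * xQ), (false, false, tQ * yQ)]

/-- The candidates outside `S`. -/
def candN (P : Par) : List Node :=
  repNodes.filter fun v => decide (nMul P v v = nOne) && (v.1 || v.2.1)

/-- Membership of a class. -/
def memD (D : List Node) (v : Node) : Bool := decide (rpN v ∈ baseD ++ D)

/-- The pair rule at `u`. -/
def pairOk (P : Par) (D : List Node) (u : Node) : Bool :=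
  ((repNodes.filter fun v => decide (nMul P v v = nOne ∧ nMul P u v = nMul P v u))).all
    fun v => memD D v == !memD D (nMul P u v)

/-- Squares in the centralizer of `u` against a commutator there. -/
def sqOk (P : Par) (u : Node) : Bool :=
  let C := repNodes.filter fun v => decide (nMul P u v = nMul P v u)
  C.all fun p => C.all fun q => decide (nMul P p q = nMul P q p) ||
    C.all fun r => decide (nMul P r r = nOne) || decide (nMul P (nMul P r r) (nMul P q p) = nMul P p q)

/-- The conditions on the set of classes. -/
def okD (P : Par) (D : List Node) : Bool :=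
  (baseD ++ D).all (fun u => pairOk P D u) && (baseD ++ D).all (fun u => sqOk P u)

/-- The five homomorphisms. -/
def fiveHom : List (Node → Bool) :=
  [fun v => v.1, fun v => v.2.1, fun v => xor v.1 v.2.1, fun v => decide (ct v.2.2 = 1),
   fun v => decide (cx v.2.2 = 1)]

/-- An odd number of classes for some homomorphism. -/
def oddHomB (D : List Node) : Bool :=
  fiveHom.any fun f => ((baseD ++ D).filter f).length % 2 == 1

/-- The node of `h`. -/
def hN0 : Node := (true, false, 1)
/-- The node of `k`. -/
def kN0 : Node := (false, true, 1)

/-- The shape `(0,0)` with both `h` and `k` conjugate to `t`. -/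
def shapeA (P : Par) (D : List Node) : Bool :=
  !P.l && !P.m && memD D hN0 && memD D kN0 && ((D.filter fun v => xor v.1 v.2.1).length == 6)

/-- The shape `(1,1)` with neither, and one class translated by `z`. -/
def shapeB (P : Par) (D : List Node) : Bool :=
  P.l && P.m && !memD D hN0 && !memD D kN0 && ((D.filter fun v => v.1 && v.2.1).length == 1) &&
    ((D.filter fun v => v.1 && !v.2.1).length == 1)

/-- The shape `(0,1)` with `h` and not `k`. -/
def shapeC (P : Par) (D : List Node) : Bool :=
  !P.l && P.m && memD D hN0 && !memD D kN0 && decide (P.b = aQ * zQ) &&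
    ((D.filter fun v => v.1 && v.2.1).length == 1) &&
    memD D (true, false, yQ) && memD D (false, true, tQ * yQ) &&
    ((D.filter fun v => decide (cy v.2.2 = 1)).length == 3) &&
    ((D.filter fun v => v.1 && v.2.1 && decide (cy v.2.2 = 1)).length == 1)

/-- The shape `(1,0)` with `k` and not `h`. -/
def shapeC' (P : Par) (D : List Node) : Bool := P.l && !P.m && !memD D hN0 && memD D kN0

/-- The check of all candidate sets. -/
def checkPar (P : Par) : Bool :=
  (candN P).sublists.all fun D =>
    !okD P D || oddHomB D || shapeA P D || shapeB P D || shapeC P D || shapeC' P D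

theorem four_check : ∀ l m : Bool, ∀ b ∈ [1, zQ, aQ, aQ * zQ], checkPar ⟨l, m, b⟩ = true := by
  decide +kernel

end Cfsg.Agent.SixCentralizer
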