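/-
The pattern `P2` when the normalizer of `S` fixes `⟨a, z⟩` pointwise: the model is faithful.

* `FourData` : the two involutions `h`, `k`
* `FourData.split` : a subgroup of index 2, or one of the four exceptional shapes
-/
import Cfsg.Agent.Lib.SixCentralizer.PTwo
import Cfsg.Agent.Lib.SixCentralizer.FourModel
import Cfsg.Agent.EqLemmas

set_option autoImplicit false
set_option maxRecDepth 100000
set_option synthInstance.maxSize 4000
set_option linter.style.haveILetI false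

namespace Cfsg.Agent.SixCentralizer

/-- The group `⟨a, z⟩`. -/
def fourQ : Finset Q := {1, zQ, aQ, aQ * zQ}

theorem rp8_spec : ∀ q : Q, q * (rp8 q)⁻¹ ∈ fourQ ∧ rp8 q ∈ eightQ := by decide +kernel

theorem fourQ_comm : ∀ f ∈ fourQ, ∀ q : Q, f * q = q * f := by decide +kernel

theorem mem_repNodes : ∀ c d : Bool, ∀ q ∈ eightQ, (c, d, q) ∈ repNodes := by decide +kernel

theorem repNodes_rp : ∀ v ∈ repNodes, rpN v = v := by decide +kernel

theorem repNodes_nodup : repNodes.Nodup := by decide +kernel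

theorem rep_abelian : ∀ l m : Bool, ∀ b ∈ fourQ, ∀ v ∈ repNodes, ∀ w ∈ repNodes,
    rpN (nMul ⟨l, m, b⟩ v w) = rpN (nMul ⟨l, m, b⟩ w v) := by decide +kernel

theorem act_ct_cx : ∀ l m c d : Bool, ∀ q : Q,
    ct (Par.act ⟨l, m, 1⟩ c d q) = ct q ∧ cx (Par.act ⟨l, m, 1⟩ c d q) = cx q := by decide +kernel

theorem act_invol : ∀ l m : Bool, ∀ q : Q, hActQ l (hActQ l q) = q ∧ kActQ m (kActQ m q) = q ∧
    hActQ l (kActQ m (hActQ l (kActQ m q))) = q := by decide +kernel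

theorem h_normalize : ∀ X Y : Q, inA Y → ¬ Cen Y → X * X = 1 → ct X = 0 → X * Y ≠ Y * X →
    ∃ s : Q, ∃ l : Bool, s * Y * s⁻¹ = yQ ∧ s * X * s⁻¹ = xQ * bpow l aQ := by decide +kernel

theorem h_rotate : ∀ q ∈ fourQ, ∀ p : Q, p * yQ = yQ * p → ∀ w : Q,
    w = ext (tQ * aQ) aQ xQ yQ p * p * q → (q = 1 ∨ q = aQ) ∨
      (w ≠ yQ ∧ q = zQ) ∨ (w ≠ aQ * yQ ∧ q = aQ * zQ) := by decide +kernel

theorem hAct_t : ∀ l : Bool, hActQ l tQ = tQ * aQ ∧ hActQ l aQ = aQ ∧ hActQ l xQ = xQ * bpow l aQ ∧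
    hActQ l yQ = yQ ∧ tQ * hActQ l tQ * aQ = 1 ∧
    (tQ * hActQ l tQ * tQ⁻¹ = tQ * aQ ∧ tQ * hActQ l aQ * tQ⁻¹ = aQ ∧
      tQ * hActQ l xQ * tQ⁻¹ = xQ * bpow l aQ ∧ tQ * hActQ l yQ * tQ⁻¹ = yQ) := by decide +kernel

theorem mi_bpow : ∀ m : Bool, miQ (xQ * bpow m aQ) = yQ * aQ * bpow m (aQ * zQ) ∧
    yQ * aQ * bpow m (aQ * zQ) * aQ = yQ * bpow m (aQ * zQ) := by decide +kernel

universe u

variable {G : Type u} [Group G]

/-- A power with exponent a flag. -/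
def gpow (c : Bool) (g : G) : G := if c then g else 1

namespace Setup

/-- The two involutions normalizing `S`. -/
structure FourData (W : Setup G) where
  p2 : W.P2
  h : G
  k : G
  P : Par
  h_mem : h ∈ W.NS
  k_mem : k ∈ W.NS
  h_sq : h * h = 1
  k_sq : k * k = 1
  b_mem : P.b ∈ fourQ
  h_act : ∀ q, h * W.e q * h⁻¹ = W.e (hActQ P.l q)
  k_act : ∀ q, k * W.e q * k⁻¹ = W.e (kActQ P.m q)
  comm : h * k = W.e P.b * (k * h)

variable (W : Setup G)

/-- One of the two involutions. -/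
theorem P2.exists_h [Finite G] {W : Setup G} (h : W.P2)
    (hfix : ∀ g ∈ W.NS, g * W.e aQ * g⁻¹ = W.e aQ) :
    ∃ g ∈ W.NS, ∃ l : Bool, g * g = 1 ∧ g * W.e tQ * g⁻¹ = W.e (tQ * aQ) ∧ g * W.e aQ * g⁻¹ = W.e aQ ∧
      g * W.e xQ * g⁻¹ = W.e (xQ * bpow l aQ) ∧ g * W.e yQ * g⁻¹ = W.e yQ := by
  obtain ⟨g, hg, hgt⟩ := h.exists_move (f := tQ * aQ) (by decide +kernel)
  rw [← W.e_t] at hgt
  obtain ⟨φ, hi, hφ⟩ := W.exists_actHom hg.1
  obtain ⟨-, hct⟩ := h.act hi hφ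
  have hA : φ aQ = aQ := W.e_inj (by rw [← hφ]; exact hfix g hg)
  have hu : inA (φ yQ) := by
    rw [← W.derA, ← hφ]
    have h2 := commutator_conj _ _ (W.e (tQ * aQ)) (W.e aQ) g _ (by rw [← W.e_t, hgt]) (hfix g hg)
      ((W.derA yQ).mpr (by decide +kernel))
    have hset : Subgroup.centralizer ({W.e (tQ * aQ), W.e aQ} : Set G) =
        Subgroup.centralizer ({W.base.t, W.e aQ} : Set G) := by
      ext g
      simp only [Subgroup.mem_centralizer_iff, Set.mem_insert_iff, Set.mem_singleton_iff, forall_eq_or_imp,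
        forall_eq, map_mul, W.e_t]
      constructor
      · rintro ⟨h1, h2⟩
        refine ⟨mul_right_cancel (b := W.e aQ) ?_, h2⟩
        rw [mul_assoc g W.base.t, ← h1, mul_assoc, mul_assoc, h2]
      · rintro ⟨h1, h2⟩
        exact ⟨by rw [mul_assoc, h2, ← mul_assoc, h1, mul_assoc], h2⟩
    rwa [hset] at h2
  obtain ⟨s, l, hsy, hsx⟩ := h_normalize (φ xQ) (φ yQ) hu
    (fun hc => absurd ((act_center hi).mp hc) (by decide +kernel))
    (by rw [← map_mul, show xQ * xQ = (1 : Q) by decide +kernel, map_one])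
    (by rw [hct]; decide +kernel)
    (fun e => by rw [← map_mul, ← map_mul] at e; exact absurd (hi e) (by decide +kernel))
  have hconj : ∀ q, W.e s * g * W.e q * (W.e s * g)⁻¹ = W.e (s * φ q * s⁻¹) := fun q => by
    simp only [map_mul, map_inv, ← hφ]; group
  have hT : φ tQ = tQ * aQ := W.e_inj (by rw [← hφ, hgt])
  obtain ⟨g', hg'⟩ : ∃ g', g' = W.e s * g := ⟨_, rfl⟩
  have hg'N : g' ∈ W.NS := hg' ▸ W.NS.mul_mem (W.e_mem_NS s) hg
  have act' : ∀ q, g' * W.e q * g'⁻¹ = W.e (hActQ l q) := fun q => by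
    refine W.conj_ext ?_ ?_ ?_ ?_ q <;> rw [hg', hconj]
    · rw [hT]; exact congrArg W.e ((show ∀ s : Q, s * (tQ * aQ) * s⁻¹ = tQ * aQ by decide +kernel) s)
    · rw [hA]; exact congrArg W.e ((show ∀ s : Q, s * aQ * s⁻¹ = aQ by decide +kernel) s)
    · rw [hsx]
    · rw [hsy]
  have act2 : ∀ q, g' * g' * W.e q * (g' * g')⁻¹ = W.e q := fun q => by
    rw [show g' * g' * W.e q * (g' * g')⁻¹ = g' * (g' * W.e q * g'⁻¹) * g'⁻¹ by group, act', act',
      (act_invol l false q).1]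
  have hmem : g' * g' ∈ W.base.S := W.mem_of_fix (hg'N.1.mul hg'N.1) (by rw [← W.e_t]; exact act2 _)
  obtain ⟨q, hq⟩ := (W.e_range _).mp hmem
  have hqc : Cen q := fun p => W.e_inj (by
    rw [map_mul, map_mul, hq]
    exact (mul_inv_eq_iff_eq_mul.mp (act2 p)).symm)
  have hqn : ¬ W.base.InD (W.e q) := fun hd => W.not_sq hd (g := g') (by rw [hq]; group) hq.symm
  have hqF : q ∈ fourQ := by
    by_contra hn
    refine hqn (h.inD_e.mpr ?_)
    exact (show ∀ q : Q, Cen q → q ∉ fourQ → q * q = 1 ∧ ct q = 1 by decide +kernel) q hqc hn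
  -- rotate
  obtain ⟨g₂, hg₂⟩ : ∃ g₂, g₂ = W.ρ₂ * g' * W.ρ₂⁻¹ := ⟨_, rfl⟩
  have fixg : ∀ p ∈ [aQ, zQ, yQ], Commute g' (W.e p) := by
    intro p hp
    have e : hActQ l p = p := (show ∀ l : Bool, ∀ p ∈ [aQ, zQ, yQ], hActQ l p = p by decide +kernel) l p hp
    exact mul_inv_eq_iff_eq_mul.mp ((act' p).trans (congrArg W.e e))
  have rot : ∀ p p', W.ρ₂ * W.e p * W.ρ₂⁻¹ = W.e p' → Commute g' (W.e p) → Commute g₂ (W.e p') := by
    intro p p' e hc
    rw [hg₂, ← e]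
    show _ * _ = _ * _
    calc W.ρ₂ * g' * W.ρ₂⁻¹ * (W.ρ₂ * W.e p * W.ρ₂⁻¹) = W.ρ₂ * (g' * W.e p) * W.ρ₂⁻¹ := by group
      _ = W.ρ₂ * (W.e p * g') * W.ρ₂⁻¹ := by rw [hc.eq]
      _ = _ := by group
  have ca := rot aQ aQ W.ρ₂_a (fixg _ (by simp))
  have cy := rot zQ yQ W.ρ₂_z (fixg _ (by simp))
  have cyz := rot yQ (yQ * zQ) W.ρ₂_y (fixg _ (by simp))
  have cz : Commute g₂ (W.e zQ) := by
    have := cy.mul_right cyz
    rwa [← map_mul, show yQ * (yQ * zQ) = zQ by decide +kernel] at this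
  have ht2 : g₂ * W.e tQ * g₂⁻¹ = W.e (tQ * aQ) := by
    have h1 := W.inv_conj (W.conj_t W.ρ₂_t)
    rw [inv_inv] at h1
    rw [hg₂, show W.ρ₂ * g' * W.ρ₂⁻¹ * W.e tQ * (W.ρ₂ * g' * W.ρ₂⁻¹)⁻¹ =
      W.ρ₂ * (g' * (W.ρ₂⁻¹ * W.e tQ * W.ρ₂) * g'⁻¹) * W.ρ₂⁻¹ by group, h1, act',
      (hAct_t l).1]
    exact W.conj_mul (W.conj_t W.ρ₂_t) W.ρ₂_a
  obtain ⟨w, hw⟩ : ∃ w, w = g'⁻¹ * g₂ := ⟨_, rfl⟩
  have hwS : w ∈ W.base.S := by
    refine W.centA w ?_ ?_ ?_ ?_
    · rw [← mul_inv_eq_iff_eq_mul, ← W.e_t, hw,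
        show g'⁻¹ * g₂ * W.e tQ * (g'⁻¹ * g₂)⁻¹ = g'⁻¹ * (g₂ * W.e tQ * g₂⁻¹) * g'⁻¹⁻¹ by group, ht2]
      exact W.inv_conj ((act' tQ).trans (congrArg W.e (hAct_t l).1))
    · exact hw ▸ (fixg _ (by simp)).inv_left.mul_left ca
    · exact hw ▸ (fixg _ (by simp)).inv_left.mul_left cz
    · exact hw ▸ (fixg _ (by simp)).inv_left.mul_left cy
  obtain ⟨p, hp⟩ := (W.e_range _).mp hwS
  have hpy : p * yQ = yQ * p := W.e_inj (by
    rw [map_mul, map_mul, hp, hw]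
    exact ((fixg _ (by simp)).inv_left.mul_left cy).eq)
  have hsq2 : W.ρ₂ * W.e q * W.ρ₂⁻¹ = W.e (hActQ l p * p * q) := by
    have hg2' : g₂ = g' * W.e p := by rw [hp, hw]; group
    calc W.ρ₂ * W.e q * W.ρ₂⁻¹ = g₂ * g₂ := by rw [hq, hg₂]; group
      _ = (g' * W.e p * g'⁻¹) * (g' * g' * W.e p * (g' * g')⁻¹) * (g' * g') := by rw [hg2']; group
      _ = _ := by rw [act', act2, ← hq, ← map_mul, ← map_mul]
  have hl : hActQ l p = ext (tQ * aQ) aQ xQ yQ p :=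
    (show ∀ l : Bool, ∀ p : Q, p * yQ = yQ * p → hActQ l p = ext (tQ * aQ) aQ xQ yQ p by decide +kernel) l p hpy
  rw [hl] at hsq2
  have hq1a : q = 1 ∨ q = aQ := by
    rcases h_rotate q hqF p hpy _ rfl with hc | ⟨hc, rfl⟩ | ⟨hc, rfl⟩
    · exact hc
    · rw [W.ρ₂_z, W.e_eq] at hsq2
      exact absurd hsq2.symm hc
    · rw [W.ρ₂_az, W.e_eq] at hsq2
      exact absurd hsq2.symm hc
  rcases hq1a with rfl | rfl
  · exact ⟨g', hg'N, l, by rw [← hq, map_one], by rw [act']; exact congrArg W.e (hAct_t l).1,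
      by rw [act']; exact congrArg W.e (hAct_t l).2.1,
      by rw [act']; exact congrArg W.e (hAct_t l).2.2.1,
      by rw [act']; exact congrArg W.e (hAct_t l).2.2.2.1⟩
  · refine ⟨W.e tQ * g', W.NS.mul_mem (W.e_mem_NS _) hg'N, l, ?_, ?_⟩
    · calc W.e tQ * g' * (W.e tQ * g') = W.e tQ * (g' * W.e tQ * g'⁻¹) * (g' * g') := by group
        _ = 1 := by
          rw [act', ← hq, ← map_mul, ← map_mul, ← map_one W.e]
          exact congrArg W.e (hAct_t l).2.2.2.2.1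
    · simp only [show ∀ u, W.e tQ * g' * W.e u * (W.e tQ * g')⁻¹ = W.e tQ * (g' * W.e u * g'⁻¹) * (W.e tQ)⁻¹
        from fun u => by group, act', ← map_inv, ← map_mul, W.e_eq]
      exact (hAct_t l).2.2.2.2.2

theorem P2.exists_fourData [Finite G] {W : Setup G} (h : W.P2)
    (hfix : ∀ g ∈ W.NS, g * W.e aQ * g⁻¹ = W.e aQ) : Nonempty W.FourData := by
  have hm : W.mirror.P2 := by
    obtain ⟨h1, h2, h3, h4, h5⟩ := h
    refine ⟨?_, ?_, ?_, ?_, ?_⟩
    · show W.base.InD (W.e (miQ (tQ * zQ)))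
      rw [show miQ (tQ * zQ) = tQ * zQ by decide +kernel]; exact h1
    · show W.base.InD (W.e (miQ (tQ * aQ)))
      rw [show miQ (tQ * aQ) = tQ * aQ * zQ by decide +kernel]; exact h3
    · show W.base.InD (W.e (miQ (tQ * aQ * zQ)))
      rw [show miQ (tQ * aQ * zQ) = tQ * aQ by decide +kernel]; exact h2
    · show ¬ W.base.InD (W.e (miQ aQ))
      rw [show miQ aQ = aQ * zQ by decide +kernel]; exact h5
    · show ¬ W.base.InD (W.e (miQ (aQ * zQ)))
      rw [show miQ (aQ * zQ) = aQ by decide +kernel]; exact h4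
  have hfix' : ∀ g ∈ W.mirror.NS, g * W.mirror.e aQ * g⁻¹ = W.mirror.e aQ := by
    intro g hg
    have hg' : g ∈ W.NS := hg
    obtain ⟨φ, hi, hφ⟩ := W.exists_actHom hg'.1
    show g * W.e (miQ aQ) * g⁻¹ = W.e (miQ aQ)
    rw [show miQ aQ = aQ * zQ by decide +kernel, hφ, map_mul φ, act_z hi,
      show φ aQ = aQ from W.e_inj (by rw [← hφ]; exact hfix g hg')]
  obtain ⟨u, hu, l, hu2, u1, u2, u3, u4⟩ := h.exists_h hfix
  obtain ⟨v, hv, m, hv2, v1, v2, v3, v4⟩ := hm.exists_h hfix'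
  have hu' : ∀ q, u * W.e q * u⁻¹ = W.e (hActQ l q) := fun q => W.conj_ext u1 u2 u3 u4 q
  have v1' : v * W.e tQ * v⁻¹ = W.e (tQ * aQ * zQ) := by
    have e : v * W.e (miQ tQ) * v⁻¹ = W.e (miQ (tQ * aQ)) := v1
    rwa [show miQ tQ = tQ by decide +kernel, show miQ (tQ * aQ) = tQ * aQ * zQ by decide +kernel] at e
  have hv'' : v ∈ W.NS := hv
  have v2' : v * W.e aQ * v⁻¹ = W.e aQ := hfix v hv''
  have v3' : v * W.e xQ * v⁻¹ = W.e xQ := by
    have e : v * W.e (miQ yQ) * v⁻¹ = W.e (miQ yQ) := v4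
    rw [show miQ yQ = xQ * aQ by decide +kernel] at e
    have h2 := W.conj_mul e v2'
    rwa [show xQ * aQ * aQ = xQ by decide +kernel] at h2
  have v4' : v * W.e yQ * v⁻¹ = W.e (yQ * bpow m (aQ * zQ)) := by
    have e : v * W.e (miQ xQ) * v⁻¹ = W.e (miQ (xQ * bpow m aQ)) := v3
    rw [show miQ xQ = yQ * aQ by decide +kernel, (mi_bpow m).1] at e
    have h2 := W.conj_mul e v2'
    rwa [show yQ * aQ * aQ = yQ by decide +kernel,
      (mi_bpow m).2] at h2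
  have hv' : ∀ q, v * W.e q * v⁻¹ = W.e (kActQ m q) := fun q => W.conj_ext v1' v2' v3' v4' q
  have act4 : ∀ q, u * v * (u * v) * W.e q * (u * v * (u * v))⁻¹ = W.e q := fun q => by
    rw [show u * v * (u * v) * W.e q * (u * v * (u * v))⁻¹ =
      u * (v * (u * (v * W.e q * v⁻¹) * u⁻¹) * v⁻¹) * u⁻¹ by group, hv', hu', hv', hu',
      (act_invol l m q).2.2]
  have hN : u * v ∈ W.NS := W.NS.mul_mem hu hv''
  have hmem : u * v * (u * v) ∈ W.base.S :=
    W.mem_of_fix (hN.1.mul hN.1) (by rw [← W.e_t]; exact act4 _)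
  obtain ⟨b, hb⟩ := (W.e_range _).mp hmem
  have hbc : Cen b := fun p => W.e_inj (by
    rw [map_mul, map_mul, hb]
    exact (mul_inv_eq_iff_eq_mul.mp (act4 p)).symm)
  have hbn : ¬ W.base.InD (W.e b) := fun hd => W.not_sq hd (g := u * v) (by rw [hb]; group) hb.symm
  have hbF : b ∈ fourQ := by
    by_contra hn
    refine hbn (h.inD_e.mpr ?_)
    exact (show ∀ q : Q, Cen q → q ∉ fourQ → q * q = 1 ∧ ct q = 1 by decide +kernel) b hbc hn
  exact ⟨{ p2 := h, h := u, k := v, P := ⟨l, m, b⟩, h_mem := hu, k_mem := hv'', h_sq := hu2,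
           k_sq := hv2, b_mem := hbF, h_act := hu', k_act := hv',
           comm := by
             rw [hb]
             calc u * v = u * v * (u * (v * v) * u) := by rw [hv2, mul_one, hu2, mul_one]
               _ = u * v * (u * v) * (v * u) := by group }⟩

namespace FourData

variable {W} (d : W.FourData)

/-- The element with given coordinates. -/
def μ (v : Node) : G := W.e v.2.2 * gpow v.1 d.h * gpow v.2.1 d.k

theorem μ_one : d.μ nOne = 1 := by simp [μ, nOne, gpow]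

theorem μ_e (q : Q) : d.μ (false, false, q) = W.e q := by simp [μ, gpow]

theorem μ_h : d.μ hN0 = d.h := by simp [μ, hN0, gpow]

theorem μ_k : d.μ kN0 = d.k := by simp [μ, kN0, gpow]

theorem μ_mem (v : Node) : d.μ v ∈ W.NS := by
  refine W.NS.mul_mem (W.NS.mul_mem (W.e_mem_NS _) ?_) ?_
  · rcases v.1 <;> simp [gpow, W.NS.one_mem, d.h_mem]
  · rcases v.2.1 <;> simp [gpow, W.NS.one_mem, d.k_mem]

theorem μ_act (v : Node) (q : Q) :
    gpow v.1 d.h * gpow v.2.1 d.k * W.e q * (gpow v.1 d.h * gpow v.2.1 d.k)⁻¹ =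
      W.e (d.P.act v.1 v.2.1 q) := by
  obtain ⟨c, e, -⟩ := v
  cases c <;> cases e <;> simp only [gpow, Par.act, Bool.false_eq_true, if_false, if_true, one_mul, mul_one]
  · simp
  · exact d.k_act q
  · exact d.h_act q
  · rw [← d.h_act, ← d.k_act]; group

theorem μ_mul (v w : Node) : d.μ v * d.μ w = d.μ (nMul d.P v w) := by
  have step : d.μ v * d.μ w = W.e v.2.2 * W.e (d.P.act v.1 v.2.1 w.2.2) *
      (gpow v.1 d.h * gpow v.2.1 d.k * gpow w.1 d.h * gpow w.2.1 d.k) := by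
    rw [← d.μ_act v w.2.2]
    simp only [μ]
    group
  have key : gpow v.1 d.h * gpow v.2.1 d.k * gpow w.1 d.h * gpow w.2.1 d.k =
      W.e (bpow (v.2.1 && w.1) d.P.b) * gpow (xor v.1 w.1) d.h * gpow (xor v.2.1 w.2.1) d.k := by
    have hbz : d.h * W.e d.P.b = W.e d.P.b * d.h := mul_inv_eq_iff_eq_mul.mp ((d.h_act _).trans
      (congrArg W.e ((show ∀ l : Bool, ∀ b ∈ fourQ, hActQ l b = b by decide +kernel) _ _ d.b_mem)))
    have hb2 : W.e d.P.b * W.e d.P.b = 1 := by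
      rw [← map_mul, ← map_one W.e]
      exact congrArg W.e ((show ∀ b ∈ fourQ, b * b = 1 by decide +kernel) _ d.b_mem)
    have kh : d.k * d.h = W.e d.P.b * (d.h * d.k) := by rw [d.comm, ← mul_assoc, hb2, one_mul]
    have hkh : d.h * d.k * d.h = W.e d.P.b * d.k := by
      rw [mul_assoc, kh, ← mul_assoc, hbz, mul_assoc, ← mul_assoc d.h d.h, d.h_sq, one_mul]
    cases v.1 <;> cases v.2.1 <;> cases w.1 <;> cases w.2.1 <;>
      simp only [gpow, bpow, Bool.and_false, Bool.false_and, Bool.and_true, Bool.xor_false, Bool.false_xor,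
        Bool.xor_true, Bool.not_false, Bool.not_true, Bool.false_eq_true, if_false, if_true, one_mul, mul_one,
        map_one, d.h_sq, d.k_sq]
    all_goals first
      | exact kh.trans (mul_assoc _ _ _).symm
      | exact hkh
      | (rw [mul_assoc, d.k_sq, mul_one])
      | (rw [kh, mul_assoc, mul_assoc d.h, d.k_sq, mul_one])
      | (rw [hkh, mul_assoc, d.k_sq, mul_one])
  rw [step, key]
  simp only [μ, nMul, map_mul]
  group

theorem μ_inj : Function.Injective d.μ := by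
  rintro ⟨c, e, q⟩ ⟨c', e', q'⟩ he
  have ht : ∀ v : Node, d.μ v * W.e tQ * (d.μ v)⁻¹ = W.e (d.P.act v.1 v.2.1 tQ) := fun v => by
    have hc : Cen (d.P.act v.1 v.2.1 tQ) := by
      obtain ⟨⟨l, m, b⟩, hP⟩ : ∃ P, P = d.P := ⟨_, rfl⟩
      rw [← hP]
      exact (show ∀ l m c e : Bool, Cen (Par.act ⟨l, m, 1⟩ c e tQ) by decide +kernel) l m v.1 v.2.1
    rw [show d.μ v * W.e tQ * (d.μ v)⁻¹ = W.e v.2.2 * (gpow v.1 d.h * gpow v.2.1 d.k * W.e tQ *
        (gpow v.1 d.h * gpow v.2.1 d.k)⁻¹) * (W.e v.2.2)⁻¹ by simp only [μ]; group,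
      d.μ_act, ← map_inv, ← map_mul, ← map_mul]
    exact congrArg W.e (by rw [hc v.2.2, mul_inv_cancel_right])
  have h1 := ht (c, e, q)
  rw [he, ht, W.e_eq] at h1
  obtain ⟨⟨l, m, b⟩, hP⟩ : ∃ P, P = d.P := ⟨_, rfl⟩
  rw [← hP] at h1
  obtain ⟨rfl, rfl⟩ : c' = c ∧ e' = e := (show ∀ l m c e c' e' : Bool,
    Par.act ⟨l, m, 1⟩ c' e' tQ = Par.act ⟨l, m, 1⟩ c e tQ → c' = c ∧ e' = e by decide +kernel) l m c e c' e' h1
  simp only [μ, mul_left_inj] at he
  rw [W.e_eq.mp he]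

include d in
theorem μ_surj [Finite G] {g : G} (hg : g ∈ W.NS) : ∃ v, d.μ v = g := by
  obtain ⟨f, hf, hgt⟩ := d.p2.act_t hg
  obtain ⟨c, e, rfl⟩ : ∃ c e, f = d.P.act c e tQ := by
    obtain ⟨⟨l, m, b⟩, hP⟩ : ∃ P, P = d.P := ⟨_, rfl⟩
    rw [← hP]
    exact (show ∀ l m : Bool, ∀ f ∈ orbitQ, ∃ c e, f = Par.act ⟨l, m, 1⟩ c e tQ by decide +kernel) l m f hf
  have hw : gpow c d.h * gpow e d.k ∈ W.NS := by
    have := d.μ_mem (c, e, 1)
    simpa [μ] using this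
  have hS : g * (gpow c d.h * gpow e d.k)⁻¹ ∈ W.base.S := by
    refine W.mem_of_fix_center (W.NS.mul_mem hg (W.NS.inv_mem hw)).1 (q := d.P.act c e tQ) ?_ ⟨g, hgt⟩ ?_
    · exact (show ∀ f ∈ orbitQ, Cen f by decide +kernel) _ hf
    · rw [← d.μ_act (c, e, 1) tQ]
      calc g * (gpow c d.h * gpow e d.k)⁻¹ * (gpow c d.h * gpow e d.k * W.e tQ *
            (gpow c d.h * gpow e d.k)⁻¹) * (g * (gpow c d.h * gpow e d.k)⁻¹)⁻¹
          = g * W.base.t * g⁻¹ := by rw [W.e_t]; group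
        _ = _ := by rw [hgt, ← d.μ_act (c, e, 1) tQ]
  obtain ⟨q, hq⟩ := (W.e_range _).mp hS
  exact ⟨(c, e, q), by simp only [μ]; rw [hq]; group⟩

include d in
theorem fixes_four [Finite G] {g : G} (hg : g ∈ W.NS) {f : Q} (hf : f ∈ fourQ) :
    g * W.e f = W.e f * g := by
  obtain ⟨v, rfl⟩ := d.μ_surj hg
  rw [← mul_inv_eq_iff_eq_mul, show d.μ v * W.e f * (d.μ v)⁻¹ = W.e v.2.2 * (gpow v.1 d.h * gpow v.2.1 d.k *
      W.e f * (gpow v.1 d.h * gpow v.2.1 d.k)⁻¹) * (W.e v.2.2)⁻¹ by simp only [μ]; group,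
    d.μ_act, ← map_inv, ← map_mul, ← map_mul]
  obtain ⟨⟨l, m, b⟩, hP⟩ : ∃ P, P = d.P := ⟨_, rfl⟩
  rw [← hP, show Par.act ⟨l, m, b⟩ v.1 v.2.1 f = f from
    (show ∀ l m c e : Bool, ∀ f ∈ fourQ, Par.act ⟨l, m, 1⟩ c e f = f by decide +kernel) l m _ _ f hf,
    ← fourQ_comm f hf, mul_inv_cancel_right]

theorem μ_rp (v : Node) : ∃ f ∈ fourQ, d.μ v = W.e f * d.μ (rpN v) :=
  ⟨_, (rp8_spec v.2.2).1, by simp only [μ, rpN, map_mul, map_inv]; group⟩

theorem rpN_mem (v : Node) : rpN v ∈ repNodes := mem_repNodes _ _ _ (rp8_spec v.2.2).2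

include d in
theorem μ_conj [Finite G] {g v : G} (hg : g ∈ W.NS) (hv : v ∈ W.NS) :
    ∃ f ∈ fourQ, g * v * g⁻¹ = W.e f * v := by
  obtain ⟨a, rfl⟩ := d.μ_surj hg
  obtain ⟨c, rfl⟩ := d.μ_surj hv
  obtain ⟨f₁, h₁, e₁⟩ := d.μ_rp a
  obtain ⟨f₂, h₂, e₂⟩ := d.μ_rp c
  obtain ⟨f₃, h₃, e₃⟩ := d.μ_rp (nMul d.P (rpN a) (rpN c))
  obtain ⟨f₄, h₄, e₄⟩ := d.μ_rp (nMul d.P (rpN c) (rpN a))
  have hab : rpN (nMul d.P (rpN a) (rpN c)) = rpN (nMul d.P (rpN c) (rpN a)) := by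
    obtain ⟨⟨l, m, b⟩, hP⟩ : ∃ P, P = d.P := ⟨_, rfl⟩
    have hb := d.b_mem
    rw [← hP] at hb ⊢
    exact rep_abelian l m b hb _ (rpN_mem a) _ (rpN_mem c)
  rw [← d.μ_mul] at e₃ e₄
  have c1 : ∀ {f : Q}, f ∈ fourQ → ∀ u : Node, d.μ u * W.e f = W.e f * d.μ u := fun hf u =>
    d.fixes_four (d.μ_mem u) hf
  refine ⟨f₃ * f₄⁻¹, (show ∀ p ∈ fourQ, ∀ q ∈ fourQ, p * q⁻¹ ∈ fourQ by decide +kernel) _ h₃ _ h₄, ?_⟩
  rw [e₁, e₂]
  calc W.e f₁ * d.μ (rpN a) * (W.e f₂ * d.μ (rpN c)) * (W.e f₁ * d.μ (rpN a))⁻¹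
      = W.e f₁ * (d.μ (rpN a) * W.e f₂) * d.μ (rpN c) * (d.μ (rpN a))⁻¹ * (W.e f₁)⁻¹ := by group
    _ = W.e f₁ * W.e f₂ * (d.μ (rpN a) * d.μ (rpN c)) * (d.μ (rpN a))⁻¹ * (W.e f₁)⁻¹ := by
        rw [c1 h₂]; group
    _ = W.e f₁ * W.e f₂ * (W.e f₃ * (W.e f₄)⁻¹ * (d.μ (rpN c) * d.μ (rpN a))) * (d.μ (rpN a))⁻¹ *
          (W.e f₁)⁻¹ := by rw [e₃, e₄, ← hab]; group
    _ = W.e (f₁ * f₂ * (f₃ * f₄⁻¹)) * d.μ (rpN c) * (W.e f₁)⁻¹ := by simp only [map_mul, map_inv]; group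
    _ = W.e (f₁ * f₂ * (f₃ * f₄⁻¹) * f₁⁻¹) * d.μ (rpN c) := by
        rw [mul_assoc, ← map_inv, c1 ((show ∀ f ∈ fourQ, f⁻¹ ∈ fourQ by decide +kernel) _ h₁),
          ← mul_assoc, ← map_mul]
    _ = W.e (f₃ * f₄⁻¹) * (W.e f₂ * d.μ (rpN c)) := by
        rw [← mul_assoc (W.e (f₃ * f₄⁻¹)) (W.e f₂), ← map_mul]
        congr 2
        revert h₁ h₂ h₃ h₄
        generalize f₁ = p₁, f₂ = p₂, f₃ = p₃, f₄ = p₄
        revert p₁ p₂ p₃ p₄
        exact fun p₁ p₂ p₃ p₄ h₁ h₂ h₃ h₄ => (show ∀ p₁ ∈ fourQ, ∀ p₂ ∈ fourQ, ∀ p₃ ∈ fourQ, ∀ p₄ ∈ fourQ,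
          p₁ * p₂ * (p₃ * p₄⁻¹) * p₁⁻¹ = p₃ * p₄⁻¹ * p₂ by decide +kernel) p₁ h₁ p₂ h₂ p₃ h₃ p₄ h₄

include d in
theorem class_eq [Finite G] {v : G} (hv : v ∈ W.NS) (hd : W.base.InD v) :
    {u : G | ∃ g ∈ W.NS, g * v * g⁻¹ = u}.ncard = 4 ∧
      Nat.card ↥(W.NS ⊓ Subgroup.centralizer {v}) = 32 ∧
      ∀ f ∈ fourQ, ∃ g ∈ W.NS, g * v * g⁻¹ = W.e f * v := by
  classical
  set M : Finset G := fourQ.image fun f => W.e f * v with hM
  have hsub : {u : G | ∃ g ∈ W.NS, g * v * g⁻¹ = u} ⊆ (M : Set G) := by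
    rintro u ⟨g, hg, rfl⟩
    obtain ⟨f, hf, e⟩ := d.μ_conj hg hv
    exact Finset.mem_coe.mpr (Finset.mem_image.mpr ⟨f, hf, e.symm⟩)
  have hMc : M.card = 4 := by
    rw [hM, Finset.card_image_of_injective _ (fun p q e => W.e_inj (mul_right_cancel e))]
    decide +kernel
  obtain ⟨h4, h32⟩ := W.cent_card d.p2.isP hd (m := 4) (by rw [d.p2.card_NS])
    ((Set.ncard_le_ncard hsub (Finset.finite_toSet _)).trans (by rw [Set.ncard_coe_finset, hMc]))
  refine ⟨h4, h32, fun f hf => ?_⟩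
  have := Set.eq_of_subset_of_ncard_le hsub (by rw [h4, Set.ncard_coe_finset, hMc]) (Finset.finite_toSet _)
  have hm : W.e f * v ∈ (M : Set G) := Finset.mem_coe.mpr (Finset.mem_image_of_mem _ hf)
  rw [← this] at hm
  exact hm

theorem inD_rp [Finite G] (v : Node) : W.base.InD (d.μ v) ↔ W.base.InD (d.μ (rpN v)) := by
  obtain ⟨f, hf, e⟩ := d.μ_rp v
  constructor
  · intro hd
    obtain ⟨g, -, hg⟩ := (d.class_eq (d.μ_mem v) hd).2.2 f hf
    rw [e, ← mul_assoc (W.e f) (W.e f), ← map_mul, (show ∀ f ∈ fourQ, f * f = 1 by decide +kernel) f hf, map_one, one_mul] at hg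
    exact hg ▸ (e ▸ hd).conj g
  · intro hd
    obtain ⟨g, -, hg⟩ := (d.class_eq (d.μ_mem _) hd).2.2 f hf
    rw [e, ← hg]
    exact hd.conj g

open Classical in
/-- The classes outside `S`. -/
noncomputable def Dl : List Node := (candN d.P).filter fun v => decide (W.base.InD (d.μ v))

theorem sq_iff (v : Node) : d.μ v * d.μ v = 1 ↔ nMul d.P v v = nOne := by
  rw [d.μ_mul, ← d.μ_one, d.μ_inj.eq_iff]

theorem comm_iff (v w : Node) : d.μ v * d.μ w = d.μ w * d.μ v ↔ nMul d.P v w = nMul d.P w v := by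
  rw [d.μ_mul, d.μ_mul, d.μ_inj.eq_iff]

theorem memD_iff [Finite G] (v : Node) : memD d.Dl v = true ↔ W.base.InD (d.μ v) := by
  classical
  rw [d.inD_rp v, memD, decide_eq_true_iff]
  have hmem := rpN_mem v
  revert hmem
  generalize rpN v = w
  intro hmem
  constructor
  · intro hw
    rcases List.mem_append.mp hw with hw | hw
    · have := (show ∀ w ∈ baseD, w.1 = false ∧ w.2.1 = false ∧ w.2.2 * w.2.2 = 1 ∧ ct w.2.2 = 1 by
        decide +kernel) w hw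
      obtain ⟨c, e, q⟩ := w
      obtain ⟨rfl, rfl, h1, h2⟩ := this
      rw [d.μ_e]
      exact d.p2.inD_e.mpr ⟨h1, h2⟩
    · exact of_decide_eq_true (List.mem_filter.mp hw).2
  · intro hd
    obtain ⟨c, e, q⟩ := w
    by_cases hout : (c || e) = true
    · refine List.mem_append_right _ (List.mem_filter.mpr ⟨List.mem_filter.mpr ⟨hmem, ?_⟩, decide_eq_true hd⟩)
      rw [Bool.and_eq_true, decide_eq_true_iff]
      exact ⟨(d.sq_iff _).mp hd.sq, hout⟩
    · obtain ⟨rfl, rfl⟩ : c = false ∧ e = false := by simpa using hout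
      rw [d.μ_e] at hd
      obtain ⟨h1, h2⟩ := d.p2.inD_e.mp hd
      exact List.mem_append_left _ ((show ∀ w ∈ repNodes, w.1 = false → w.2.1 = false → w.2.2 * w.2.2 = 1 →
        ct w.2.2 = 1 → w ∈ baseD by decide +kernel) _ hmem rfl rfl h1 h2)

theorem all_mem (v : Node) (hv : v ∈ baseD ++ d.Dl) : v ∈ repNodes := by
  rcases List.mem_append.mp hv with hv | hv
  · exact (show ∀ w ∈ baseD, w ∈ repNodes by decide +kernel) v hv
  · exact (List.mem_filter.mp (List.mem_filter.mp hv).1).1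

theorem inD_of_mem [Finite G] {v : Node} (hv : v ∈ baseD ++ d.Dl) : W.base.InD (d.μ v) :=
  (d.memD_iff v).mp (decide_eq_true (by rw [repNodes_rp v (d.all_mem v hv)]; exact hv))

theorem ok [Finite G] : okD d.P d.Dl = true := by
  rw [okD, Bool.and_eq_true, List.all_eq_true, List.all_eq_true]
  constructor
  · intro u hu
    rw [pairOk, List.all_eq_true]
    intro v hv
    obtain ⟨hv2, hc⟩ := of_decide_eq_true (List.mem_filter.mp hv).2
    have := d.p2.pair (d.inD_of_mem hu) ((d.comm_iff u v).mpr hc) ((d.sq_iff v).mpr hv2)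
    rw [d.μ_mul, ← d.memD_iff, ← d.memD_iff] at this
    revert this
    generalize memD d.Dl v = p
    generalize memD d.Dl (nMul d.P u v) = q
    revert p q
    decide
  · intro u hu
    simp only [sqOk, List.all_eq_true, Bool.or_eq_true, decide_eq_true_iff]
    intro p hp q hq
    by_cases hpq : nMul d.P p q = nMul d.P q p
    · exact Or.inl hpq
    · refine Or.inr fun r hr => ?_
      have hud := d.inD_of_mem hu
      have hin : ∀ x, x ∈ (repNodes.filter fun v => decide (nMul d.P u v = nMul d.P v u)) →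
          d.μ x ∈ W.NS ⊓ Subgroup.centralizer {d.μ u} := fun x hx =>
        ⟨d.μ_mem x, Subgroup.mem_centralizer_singleton_iff.mpr
          ((d.comm_iff u x).mpr (of_decide_eq_true (List.mem_filter.mp hx).2)).symm⟩
      rcases W.model_sq hud _ (d.class_eq (d.μ_mem u) hud).2.1
          (fun x hx => Subgroup.mem_centralizer_singleton_iff.mp hx.2) (hin p hp) (hin q hq) (hin r hr)
          (fun e => hpq ((d.comm_iff p q).mp e)) with e | e
      · exact Or.inl ((d.sq_iff r).mp e)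
      · refine Or.inr (d.μ_inj ?_)
        rw [← d.μ_mul, ← d.μ_mul r r, ← d.μ_mul q p, ← d.μ_mul p q]
        exact e

theorem checked [Finite G] : oddHomB d.Dl = true ∨ shapeA d.P d.Dl = true ∨ shapeB d.P d.Dl = true ∨
    shapeC d.P d.Dl = true ∨ shapeC' d.P d.Dl = true := by
  obtain ⟨⟨l, m, b⟩, hP⟩ : ∃ P, P = d.P := ⟨_, rfl⟩
  have hb : b ∈ [1, zQ, aQ, aQ * zQ] := by
    have := d.b_mem
    rw [← hP] at this
    simpa [fourQ] using this
  have hc := four_check l m b hb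
  rw [hP, checkPar, List.all_eq_true] at hc
  have := hc d.Dl (List.mem_sublists.mpr List.filter_sublist)
  simpa [d.ok, or_assoc] using this

/-- The coordinates of an element. -/
noncomputable def node (g : G) : Node := Function.invFun d.μ g

theorem node_μ (v : Node) : d.node (d.μ v) = v := Function.leftInverse_invFun d.μ_inj v

/-- A function of the coordinates, as a function to `ZMod 2`. -/
noncomputable def lift (F : Node → Bool) (g : G) : ZMod 2 := if F (d.node g) then 1 else 0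

theorem five_hom {F : Node → Bool} (hF : F ∈ fiveHom) :
    (∀ v w, F (nMul d.P v w) = xor (F v) (F w)) ∧ ∀ v, F v = F (rpN v) := by
  obtain ⟨⟨l, m, b⟩, hP⟩ : ∃ P, P = d.P := ⟨_, rfl⟩
  have hb := d.b_mem
  rw [← hP] at hb ⊢
  have hb0 : ∀ c : Bool, ct (bpow c b) = 0 ∧ cx (bpow c b) = 0 := fun c =>
    (show ∀ b ∈ fourQ, ∀ c : Bool, ct (bpow c b) = 0 ∧ cx (bpow c b) = 0 by decide +kernel) b hb c
  have hrp : ∀ q, ct (rp8 q) = ct q ∧ cx (rp8 q) = cx q := by decide +kernel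
  have hadd : ∀ x y : ZMod 2, decide (x + y + 0 = 1) = xor (decide (x = 1)) (decide (y = 1)) := by decide
  have hcx : ∀ p q : Q, cx (p * q) = cx p + cx q := by decide +kernel
  simp only [fiveHom, List.mem_cons, List.not_mem_nil, or_false] at hF
  rcases hF with rfl | rfl | rfl | rfl | rfl
  · exact ⟨fun v w => rfl, fun v => rfl⟩
  · exact ⟨fun v w => rfl, fun v => rfl⟩
  · exact ⟨fun v w => by
      simp only [nMul]
      cases v.1 <;> cases v.2.1 <;> cases w.1 <;> cases w.2.1 <;> rfl, fun v => rfl⟩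
  · refine ⟨fun v w => ?_, fun v => by simp only [rpN, (hrp v.2.2).1]⟩
    simp only [nMul, ct_add, (hb0 _).1]
    rw [show ct (Par.act ⟨l, m, b⟩ v.1 v.2.1 w.2.2) = ct w.2.2 from (act_ct_cx l m _ _ _).1]
    exact hadd _ _
  · refine ⟨fun v w => ?_, fun v => by simp only [rpN, (hrp v.2.2).2]⟩
    simp only [nMul, hcx, (hb0 _).2]
    rw [show cx (Par.act ⟨l, m, b⟩ v.1 v.2.1 w.2.2) = cx w.2.2 from (act_ct_cx l m _ _ _).2]
    exact hadd _ _

theorem lift_mul [Finite G] {F : Node → Bool} (hF : F ∈ fiveHom) :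
    ∀ g ∈ W.NS, ∀ g' ∈ W.NS, d.lift F (g * g') = d.lift F g + d.lift F g' := by
  intro g hg g' hg'
  obtain ⟨v, rfl⟩ := d.μ_surj hg
  obtain ⟨w, rfl⟩ := d.μ_surj hg'
  simp only [lift, d.μ_mul, d.node_μ, (d.five_hom hF).1]
  cases F v <;> cases F w <;> decide

open Classical in
/-- The conjugates of `t` in `N(S)` with value 1. -/
noncomputable def TSet [Fintype G] (F : Node → Bool) : Finset G :=
  Finset.univ.filter fun g => g ∈ W.NS ∧ W.base.InD g ∧ d.lift F g = 1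

theorem TSet_card [Fintype G] {F : Node → Bool} (hF : F ∈ fiveHom) :
    (d.TSet F).card = 4 * ((baseD ++ d.Dl).filter F).length := by
  classical
  have hnd : ((baseD ++ d.Dl).filter F).Nodup := by
    refine List.Nodup.filter _ ?_
    rw [List.nodup_append]
    refine ⟨by decide +kernel, (repNodes_nodup.filter _).filter _, fun a ha c hc e => ?_⟩
    subst e
    have h1 := (show ∀ w ∈ baseD, (w.1 || w.2.1) = false by decide +kernel) a ha
    have h2 := (List.mem_filter.mp (List.mem_filter.mp hc).1).2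
    rw [Bool.and_eq_true] at h2
    rw [h1] at h2
    exact absurd h2.2 (by decide)
  have hT : d.TSet F = (fourQ ×ˢ ((baseD ++ d.Dl).filter F).toFinset).image
      fun p => W.e p.1 * d.μ p.2 := by
    ext g
    simp only [TSet, Finset.mem_filter, Finset.mem_univ, true_and, Finset.mem_image, Finset.mem_product,
      List.mem_toFinset, List.mem_filter]
    constructor
    · rintro ⟨hg, hd, hl⟩
      obtain ⟨v, rfl⟩ := d.μ_surj hg
      obtain ⟨f, hf, e⟩ := d.μ_rp v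
      refine ⟨(f, rpN v), ⟨hf, ?_, ?_⟩, e.symm⟩
      · exact of_decide_eq_true ((d.memD_iff v).mpr hd)
      · rw [← (d.five_hom hF).2]
        rw [lift, d.node_μ] at hl
        by_contra hn
        simp only [hn] at hl
        exact absurd hl (by decide)
    · rintro ⟨⟨f, v⟩, ⟨hf, hv, hFv⟩, rfl⟩
      have hdv := d.inD_of_mem hv
      obtain ⟨g, -, hg⟩ := (d.class_eq (d.μ_mem v) hdv).2.2 f hf
      have hN : W.e f * d.μ v ∈ W.NS := W.NS.mul_mem (W.e_mem_NS _) (d.μ_mem v)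
      refine ⟨hN, hg ▸ hdv.conj g, ?_⟩
      have e : W.e f * d.μ v = d.μ (v.1, v.2.1, f * v.2.2) := by simp only [μ, map_mul]; group
      rw [e, lift, d.node_μ, (d.five_hom hF).2, show rpN (v.1, v.2.1, f * v.2.2) = rpN v by
        simp only [rpN]
        rw [(show ∀ f ∈ fourQ, ∀ q : Q, rp8 (f * q) = rp8 q by decide +kernel) f hf],
        repNodes_rp v (d.all_mem v hv)]
      simp [hFv]
  rw [hT, Finset.card_image_of_injOn, Finset.card_product, List.toFinset_card_of_nodup hnd]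
  · rw [show fourQ.card = 4 by decide +kernel]
  · rintro ⟨f, v⟩ hp ⟨f', v'⟩ hp' e
    obtain ⟨hf, hv⟩ := Finset.mem_product.mp hp
    obtain ⟨hf', hv'⟩ := Finset.mem_product.mp hp'
    have rv := repNodes_rp v (d.all_mem v (List.mem_of_mem_filter (List.mem_toFinset.mp hv)))
    have rv' := repNodes_rp v' (d.all_mem v' (List.mem_of_mem_filter (List.mem_toFinset.mp hv')))
    have key : ∀ (f : Q) (v : Node), W.e f * d.μ v = d.μ (v.1, v.2.1, f * v.2.2) := fun f v => by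
      simp only [μ, map_mul]; group
    simp only [key] at e
    have e' := d.μ_inj e
    simp only [Prod.mk.injEq] at e'
    obtain ⟨e1, e2, e3⟩ := e'
    have hr : ∀ f ∈ fourQ, ∀ q : Q, rp8 (f * q) = rp8 q := by decide +kernel
    have hq : v.2.2 = v'.2.2 := by
      have h3 := congrArg rp8 e3
      rw [hr f hf, hr f' hf'] at h3
      have r1 : rp8 v.2.2 = v.2.2 := congrArg (fun w : Node => w.2.2) rv
      have r2 : rp8 v'.2.2 = v'.2.2 := congrArg (fun w : Node => w.2.2) rv'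
      rwa [r1, r2] at h3
    rw [hq] at e3
    exact Prod.ext (mul_right_cancel e3) (Prod.ext e1 (Prod.ext e2 hq))

theorem TSet_spec [Fintype G] (F : Node → Bool) (v : G) :
    v ∈ d.TSet F ↔ W.base.Ext W.NS v ∧ d.lift F v = 1 := by
  classical
  simp only [TSet, Finset.mem_filter, Finset.mem_univ, true_and]
  constructor
  · rintro ⟨h1, h2, h3⟩
    exact ⟨W.ext_of_cent h1 h2 (d.class_eq h1 h2).2.1, h3⟩
  · rintro ⟨⟨h1, h2, -⟩, h3⟩
    exact ⟨h1, h2, h3⟩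

/-- A subgroup of index 2, or an exceptional shape. -/
theorem split [Finite G] : (∃ K : Subgroup G, K.index = 2) ∨ shapeA d.P d.Dl = true ∨
    shapeB d.P d.Dl = true ∨ shapeC d.P d.Dl = true ∨ shapeC' d.P d.Dl = true := by
  rcases d.checked with hc | hc
  · left
    letI := Fintype.ofFinite G
    rw [oddHomB, List.any_eq_true] at hc
    obtain ⟨F, hF, hodd⟩ := hc
    rw [beq_iff_eq] at hodd
    exact W.index_two_of_parity W.NS (d.lift F) (d.lift_mul hF) (d.TSet F) (d.TSet_spec F)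
      (fun v hv => (d.class_eq ((d.TSet_spec F v).mp hv).1.1 ((d.TSet_spec F v).mp hv).1.2.1).1)
      (by norm_num) (d.TSet_card hF) (Nat.odd_iff.mpr hodd)
  · exact Or.inr hc

end FourData

end Setup

end Cfsg.Agent.SixCentralizer
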