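/-
Common tools for the three exceptional shapes.

* `finSub` : a nonempty set closed under products in a finite group, as a subgroup
* `w1Q`, `w2Q` : the two elementary subgroups of order 8 of `⟨a, x, y⟩`
* `FourData.mem_NS_of_translation` : recognizing elements of `N(S)`
-/
import Cfsg.Agent.Lib.SixCentralizer.Four
import Cfsg.Agent.EqLemmas

set_option autoImplicit false
set_option maxRecDepth 100000
set_option synthInstance.maxSize 4000
set_option linter.style.haveILetI false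

namespace Cfsg.Agent.SixCentralizer

/-- The subgroup on a set closed under products. -/
def finSub {H : Type*} [Group H] [Finite H] (p : H → Prop) (h1 : p 1)
    (hmul : ∀ a b, p a → p b → p (a * b)) : Subgroup H where
  carrier := {g | p g}
  one_mem' := h1
  mul_mem' := fun ha hb => hmul _ _ ha hb
  inv_mem' := by
    intro a ha
    have hp : ∀ n : ℕ, p (a ^ n) := by
      intro n
      induction n with
      | zero => simpa using h1
      | succ n ih => rw [pow_succ]; exact hmul _ _ ih ha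
    have : a⁻¹ = a ^ (orderOf a - 1) := by
      refine inv_eq_of_mul_eq_one_right ?_
      rw [← pow_succ', Nat.sub_add_cancel (orderOf_pos a), pow_orderOf_eq_one]
    show p a⁻¹
    rw [this]
    exact hp _

/-- `⟨a, z, x⟩`. -/
def w1Q : Finset Q := {1, aQ, zQ, aQ * zQ, xQ, xQ * zQ, xQ * aQ, xQ * aQ * zQ}

/-- `⟨a, z, y⟩`. -/
def w2Q : Finset Q := {1, aQ, zQ, aQ * zQ, yQ, yQ * zQ, yQ * aQ, yQ * aQ * zQ}

theorem w1Q_sub : ∀ p ∈ w1Q, p * p = 1 ∧ ct p = 0 ∧ ∀ q ∈ w1Q, p * q ∈ w1Q ∧ p * q = q * p := by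
  decide +kernel

theorem w1Q_gen : ∀ p ∈ w1Q, p = 1 ∨ p = aQ ∨ p = zQ ∨ p = aQ * zQ ∨ p = xQ ∨ p = xQ * zQ ∨
    p = xQ * aQ ∨ p = xQ * aQ * zQ := by decide +kernel

theorem cent_xQ : ∀ q : Q, q * xQ = xQ * q → ct q = 0 → q ∈ w1Q := by decide +kernel

theorem act_flag : ∀ l m : Bool, ∀ f ∈ fourQ,
    ∃ c d, Par.act ⟨l, m, 1⟩ c d tQ = tQ * f := by decide +kernel

universe u

variable {G : Type u} [Group G]

namespace Setup

variable {W : Setup G}

/-- Conjugation of an element with known action on generators. -/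
theorem conj_w1 {g : G} {A Z X : Q} (hA : g * W.e aQ * g⁻¹ = W.e A) (hZ : g * W.e zQ * g⁻¹ = W.e Z)
    (hX : g * W.e xQ * g⁻¹ = W.e X) (hA' : A ∈ w1Q) (hZ' : Z ∈ w1Q) (hX' : X ∈ w1Q) :
    ∀ w ∈ w1Q, ∃ w' ∈ w1Q, g * W.e w * g⁻¹ = W.e w' := by
  intro w hw
  have h1 : g * W.e 1 * g⁻¹ = W.e 1 := by simp
  have m : ∀ {p q : Q}, p ∈ w1Q → q ∈ w1Q → p * q ∈ w1Q := fun hp hq => ((w1Q_sub _ hp).2.2 _ hq).1
  rcases w1Q_gen w hw with rfl | rfl | rfl | rfl | rfl | rfl | rfl | rfl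
  · exact ⟨1, by decide +kernel, h1⟩
  · exact ⟨A, hA', hA⟩
  · exact ⟨Z, hZ', hZ⟩
  · exact ⟨A * Z, m hA' hZ', W.conj_mul hA hZ⟩
  · exact ⟨X, hX', hX⟩
  · exact ⟨X * Z, m hX' hZ', W.conj_mul hX hZ⟩
  · exact ⟨X * A, m hX' hA', W.conj_mul hX hA⟩
  · exact ⟨X * A * Z, m (m hX' hA') hZ', W.conj_mul (W.conj_mul hX hA) hZ⟩

namespace FourData

variable (d : W.FourData)

theorem node_conj_t (v : Node) :
    d.μ v * W.e tQ * (d.μ v)⁻¹ = W.e (v.2.2 * d.P.act v.1 v.2.1 tQ * v.2.2⁻¹) := by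
  rw [show d.μ v * W.e tQ * (d.μ v)⁻¹ = W.e v.2.2 * (gpow v.1 d.h * gpow v.2.1 d.k * W.e tQ *
        (gpow v.1 d.h * gpow v.2.1 d.k)⁻¹) * (W.e v.2.2)⁻¹ by simp only [μ]; group,
      d.μ_act, ← map_inv, ← map_mul, ← map_mul]

theorem node_conj (v : Node) (q : Q) :
    d.μ v * W.e q * (d.μ v)⁻¹ = W.e (v.2.2 * d.P.act v.1 v.2.1 q * v.2.2⁻¹) := by
  rw [show d.μ v * W.e q * (d.μ v)⁻¹ = W.e v.2.2 * (gpow v.1 d.h * gpow v.2.1 d.k * W.e q *
        (gpow v.1 d.h * gpow v.2.1 d.k)⁻¹) * (W.e v.2.2)⁻¹ by simp only [μ]; group,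
      d.μ_act, ← map_inv, ← map_mul, ← map_mul]

include d in
/-- The elements of a translation in `⟨a, z⟩` inside `N(S)`. -/
theorem exists_translation [Finite G] {f : Q} (hf : f ∈ fourQ) :
    ∃ r ∈ W.NS, r * W.base.t * r⁻¹ = W.e (tQ * f) := by
  obtain ⟨⟨l, m, b⟩, hP⟩ : ∃ P, P = d.P := ⟨_, rfl⟩
  obtain ⟨c, e, hce⟩ := act_flag l m f hf
  refine ⟨d.μ (c, e, 1), d.μ_mem _, ?_⟩
  rw [← W.e_t, d.node_conj_t, ← hP]
  simp only [one_mul, inv_one, mul_one]
  exact congrArg W.e hce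

include d in
/-- An element fixing `a, z` and `x` up to `z`, with translation in `⟨a, z⟩`, normalizes `S`. -/
theorem mem_NS_of_x [Finite G] {g : G} {f : Q} (hf : f ∈ fourQ) (ha : g * W.e aQ * g⁻¹ = W.e aQ)
    (hz : g * W.e zQ * g⁻¹ = W.e zQ)
    (hx : g * W.e xQ * g⁻¹ = W.e xQ ∨ g * W.e xQ * g⁻¹ = W.e (xQ * zQ))
    (ht : g * W.base.t * g⁻¹ = W.e (tQ * f))
    (hxR : ∀ r ∈ W.NS, r * W.e xQ * r⁻¹ = W.e xQ ∨ r * W.e xQ * r⁻¹ = W.e (xQ * zQ)) :
    g ∈ W.NS := by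
  obtain ⟨r, hr, hrt⟩ := d.exists_translation hf
  obtain ⟨c, hc⟩ : ∃ c, c = r⁻¹ * g := ⟨_, rfl⟩
  have hfix : ∀ p ∈ fourQ, r⁻¹ * W.e p * r⁻¹⁻¹ = W.e p := fun p hp =>
    W.inv_conj (mul_inv_eq_iff_eq_mul.mpr (d.fixes_four hr hp))
  have cconj : ∀ q, c * W.e q * c⁻¹ = r⁻¹ * (g * W.e q * g⁻¹) * r⁻¹⁻¹ := fun q => by rw [hc]; group
  have hct : c * W.base.t = W.base.t * c := by
    rw [← mul_inv_eq_iff_eq_mul, ← W.e_t, cconj, W.e_t, ht]
    rw [← hrt]; group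
  have hca : c * W.e aQ = W.e aQ * c := mul_inv_eq_iff_eq_mul.mp (by
    rw [cconj, ha]; exact hfix _ (by decide +kernel))
  have hcz : c * W.e zQ = W.e zQ * c := mul_inv_eq_iff_eq_mul.mp (by
    rw [cconj, hz]; exact hfix _ (by decide +kernel))
  have hcx : c * W.e xQ * c⁻¹ = W.e xQ ∨ c * W.e xQ * c⁻¹ = W.e (xQ * zQ) := by
    have hzz : r⁻¹ * W.e zQ * r⁻¹⁻¹ = W.e zQ := hfix _ (by decide +kernel)
    have hxx := hxR r⁻¹ (W.NS.inv_mem hr)
    rw [cconj]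
    rcases hx with e | e <;> rw [e] <;> rcases hxx with e' | e'
    · exact Or.inl e'
    · exact Or.inr e'
    · exact Or.inr (W.conj_mul e' hzz)
    · exact Or.inl ((W.conj_mul e' hzz).trans (congrArg W.e (by decide +kernel)))
  have key : c ∈ W.base.S := by
    rcases hcx with e | e
    · exact W.centB c hct hca hcz (mul_inv_eq_iff_eq_mul.mp e)
    · have hm : W.e yQ * c ∈ W.base.S := by
        refine W.centB _ ?_ ?_ ?_ ?_
        · exact (show Commute (W.e yQ) W.base.t from W.e_comm_t _).mul_left hct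
        · exact (show Commute (W.e yQ) (W.e aQ) by
            rw [Commute, SemiconjBy, ← map_mul, ← map_mul]; exact congrArg W.e (by decide +kernel)).mul_left hca
        · exact (show Commute (W.e yQ) (W.e zQ) by
            rw [Commute, SemiconjBy, ← map_mul, ← map_mul]; exact congrArg W.e (by decide +kernel)).mul_left hcz
        · rw [← mul_inv_eq_iff_eq_mul, show W.e yQ * c * W.e xQ * (W.e yQ * c)⁻¹ =
            W.e yQ * (c * W.e xQ * c⁻¹) * (W.e yQ)⁻¹ by group, e, ← map_inv, ← map_mul, ← map_mul]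
          exact congrArg W.e (by decide +kernel)
      simpa using W.base.S.mul_mem (W.base.S.inv_mem (W.mem_S yQ)) hm
  have : g = r * c := by rw [hc]; group
  rw [this]
  exact W.NS.mul_mem hr (W.S_le_NS key)

end FourData

end Setup

end Cfsg.Agent.SixCentralizer
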