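/-
The shape `(0,0)`: transfer to the stabilizer of `⟨a, z⟩` and `x⟨z⟩`.

* `FourData.shapeA_index_two`
-/
import Cfsg.Agent.Lib.SixCentralizer.EdgeBase
import Cfsg.Agent.EqLemmas

set_option autoImplicit false
set_option maxRecDepth 100000
set_option synthInstance.maxSize 4000
set_option linter.style.haveILetI false

namespace Cfsg.Agent.SixCentralizer

theorem edgeOne_node : ∀ b : Q, ∀ c e : Bool, ∀ q : Q,
    (q * Par.act ⟨false, false, b⟩ c e xQ * q⁻¹ = xQ ∨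
      q * Par.act ⟨false, false, b⟩ c e xQ * q⁻¹ = xQ * zQ) ∧
    ∃ w ∈ w1Q, q * Par.act ⟨false, false, b⟩ c e tQ * q⁻¹ = tQ * w ∧
      ((ca (tQ * w) + cx (tQ * w) = 1) ↔ xor c e = true) := by
  intro b
  exact (show ∀ c e : Bool, ∀ q : Q,
    (q * Par.act ⟨false, false, 1⟩ c e xQ * q⁻¹ = xQ ∨
      q * Par.act ⟨false, false, 1⟩ c e xQ * q⁻¹ = xQ * zQ) ∧
    ∃ w ∈ w1Q, q * Par.act ⟨false, false, 1⟩ c e tQ * q⁻¹ = tQ * w ∧
      ((ca (tQ * w) + cx (tQ * w) = 1) ↔ xor c e = true) by decide +kernel)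

theorem w1Q_split : ∀ w ∈ w1Q, w ∈ fourQ ∨ ∃ f ∈ fourQ, w = xQ * f := by decide +kernel

theorem w1Q_fixed : ∀ w ∈ w1Q, ext tQ aQ (xQ * zQ) yQ w = w → w ∈ fourQ := by decide +kernel

theorem w1Q_tr : ∀ w ∈ w1Q, ∀ w' ∈ w1Q,
    (ca (tQ * (w * w')) + cx (tQ * (w * w')) = ca (tQ * w) + cx (tQ * w) + (ca (tQ * w') + cx (tQ * w'))) ∧
    (ext tQ aQ (xQ * zQ) yQ w ∈ w1Q ∧
      ca (tQ * ext tQ aQ (xQ * zQ) yQ w) + cx (tQ * ext tQ aQ (xQ * zQ) yQ w) = ca (tQ * w) + cx (tQ * w)) := by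
  decide +kernel

theorem ext_w1 : ∀ w ∈ w1Q, ext tQ aQ xQ yQ w = w := fun w _ => ext_self w

universe u

variable {G : Type u} [Group G]

namespace Setup

variable {W : Setup G}

set_option maxHeartbeats 1000000 in
theorem FourData.shapeA_index_two [Finite G] (d : W.FourData) (hs : shapeA d.P d.Dl = true) :
    ∃ K : Subgroup G, K.index = 2 := by
  classical
  letI := Fintype.ofFinite G
  simp only [shapeA, Bool.and_eq_true, Bool.not_eq_true', beq_iff_eq] at hs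
  obtain ⟨⟨⟨⟨hl, hm⟩, hh⟩, hk⟩, hcount⟩ := hs
  obtain ⟨b, hP⟩ : ∃ b, d.P = ⟨false, false, b⟩ := by
    obtain ⟨⟨l, m, b⟩, hP⟩ : ∃ P, P = d.P := ⟨_, rfl⟩
    rw [← hP] at hl hm
    subst hl hm
    exact ⟨b, hP.symm⟩
  -- conjugation on `W1` by an element fixing `a, z` and `x` up to `z`
  have act : ∀ {g : G}, g * W.e aQ * g⁻¹ = W.e aQ → g * W.e zQ * g⁻¹ = W.e zQ →
      (g * W.e xQ * g⁻¹ = W.e xQ ∨ g * W.e xQ * g⁻¹ = W.e (xQ * zQ)) → ∀ w ∈ w1Q,
      ((g * W.e xQ * g⁻¹ = W.e xQ → g * W.e w * g⁻¹ = W.e w) ∧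
        ∃ w' ∈ w1Q, g * W.e w * g⁻¹ = W.e w' ∧
          ca (tQ * w') + cx (tQ * w') = ca (tQ * w) + cx (tQ * w) ∧
          (g * W.e xQ * g⁻¹ = W.e (xQ * zQ) → w' = ext tQ aQ (xQ * zQ) yQ w)) := by
    intro g ha hz hx w hw
    have hbase : ∀ X, g * W.e xQ * g⁻¹ = W.e X → g * W.e w * g⁻¹ = W.e (ext tQ aQ X yQ w) := by
      intro X e
      rcases w1Q_gen w hw with rfl | rfl | rfl | rfl | rfl | rfl | rfl | rfl
      all_goals first
        | (rw [map_one, show ext tQ aQ X yQ 1 = 1 by simp [ext, show ct 1 = 0 by decide +kernel,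
            show ca 1 = 0 by decide +kernel, show dix 1 = (0, 0) by decide +kernel], map_one]; group)
        | skip
      all_goals
        have hX : X = xQ ∨ X = xQ * zQ := by
          rcases hx with k | k
          · exact Or.inl (W.e_inj (e.symm.trans k))
          · exact Or.inr (W.e_inj (e.symm.trans k))
      · exact ha.trans (congrArg W.e (by rcases hX with rfl | rfl <;> decide +kernel))
      · exact hz.trans (congrArg W.e (by rcases hX with rfl | rfl <;> decide +kernel))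
      · exact (W.conj_mul ha hz).trans (congrArg W.e (by rcases hX with rfl | rfl <;> decide +kernel))
      · exact e.trans (congrArg W.e (by rcases hX with rfl | rfl <;> decide +kernel))
      · exact (W.conj_mul e hz).trans (congrArg W.e (by rcases hX with rfl | rfl <;> decide +kernel))
      · exact (W.conj_mul e ha).trans (congrArg W.e (by rcases hX with rfl | rfl <;> decide +kernel))
      · exact (W.conj_mul (W.conj_mul e ha) hz).trans
          (congrArg W.e (by rcases hX with rfl | rfl <;> decide +kernel))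
    refine ⟨fun e => by rw [hbase _ e, ext_self], ?_⟩
    rcases hx with e | e
    · refine ⟨w, hw, by rw [hbase _ e, ext_self], rfl, fun e' => ?_⟩
      rw [e, W.e_eq] at e'
      exact absurd e' (by decide +kernel)
    · exact ⟨_, (w1Q_tr w hw w hw).2.1, hbase _ e, (w1Q_tr w hw w hw).2.2, fun _ => rfl⟩
  let p : G → Prop := fun g => g * W.e aQ * g⁻¹ = W.e aQ ∧ g * W.e zQ * g⁻¹ = W.e zQ ∧
    (g * W.e xQ * g⁻¹ = W.e xQ ∨ g * W.e xQ * g⁻¹ = W.e (xQ * zQ)) ∧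
    ∃ w ∈ w1Q, g * W.e tQ * g⁻¹ = W.e (tQ * w)
  let f : G → ZMod 2 := fun g => W.ψ₂ (g * W.base.t * g⁻¹)
  have fval : ∀ {g : G} {w : Q}, g * W.e tQ * g⁻¹ = W.e (tQ * w) → f g = ca (tQ * w) + cx (tQ * w) := by
    intro g w e
    show W.ψ₂ _ = _
    rw [← W.e_t, e, W.ψ₂_e]
  have hmul : ∀ g k, p g → p k → p (g * k) ∧ f (g * k) = f g + f k := by
    rintro g k ⟨ga, gz, gx, w, hw, gt⟩ ⟨ka, kz, kx, w', hw', kt⟩
    obtain ⟨-, u, hu, hue, huf, -⟩ := act ga gz gx w' hw'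
    have hcomp : ∀ q, g * k * W.e q * (g * k)⁻¹ = g * (k * W.e q * k⁻¹) * g⁻¹ := fun q => by group
    have et : g * k * W.e tQ * (g * k)⁻¹ = W.e (tQ * (w * u)) := by
      rw [hcomp, kt, W.conj_mul gt hue, mul_assoc]
    refine ⟨⟨by rw [hcomp, ka, ga], by rw [hcomp, kz, gz], ?_, w * u, ((w1Q_sub w hw).2.2 u hu).1, et⟩, ?_⟩
    · rw [hcomp]
      rcases kx with e | e <;> rw [e] <;> rcases gx with e' | e'
      · exact Or.inl e'
      · exact Or.inr e'
      · exact Or.inr (W.conj_mul e' gz)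
      · exact Or.inl ((W.conj_mul e' gz).trans (congrArg W.e (by decide +kernel)))
    · rw [fval et, fval gt, fval kt, (w1Q_tr w hw u hu).1, huf]
  let T₁ : Subgroup G := finSub p ⟨by simp, by simp, Or.inl (by simp), 1, by decide +kernel, by simp⟩
    (fun g k hg hk => (hmul g k hg hk).1)
  have hT₁ : ∀ {g}, g ∈ T₁ ↔ p g := Iff.rfl
  -- `N(S)` lies in it
  have hNS : ∀ r ∈ W.NS, p r := by
    intro r hr
    obtain ⟨⟨c, e, q⟩, rfl⟩ := d.μ_surj hr
    obtain ⟨hx, w, hw, ht, -⟩ := edgeOne_node b c e q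
    refine ⟨mul_inv_eq_iff_eq_mul.mpr (d.fixes_four hr (by decide +kernel)),
      mul_inv_eq_iff_eq_mul.mpr (d.fixes_four hr (by decide +kernel)), ?_, w, hw, ?_⟩
    · rw [d.node_conj, hP]
      exact hx.imp (congrArg W.e) (congrArg W.e)
    · rw [d.node_conj, hP]
      exact congrArg W.e ht
  have hNSmem : ∀ {g}, p g → (∃ f₀ ∈ fourQ, g * W.e tQ * g⁻¹ = W.e (tQ * f₀)) → g ∈ W.NS := by
    rintro g ⟨ga, gz, gx, -⟩ ⟨f₀, hf₀, gt⟩
    refine d.mem_NS_of_x hf₀ ga gz gx (by rw [← W.e_t]; exact gt) fun r hr => (hNS r hr).2.2.1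
  -- `h` rotated
  obtain ⟨u, hu⟩ : ∃ u, u = W.ρ₁ * d.h * W.ρ₁⁻¹ := ⟨_, rfl⟩
  have hup : p u ∧ u * W.e tQ * u⁻¹ = W.e (tQ * xQ) := by
    have hh' : ∀ q, d.h * W.e q * d.h⁻¹ = W.e (hActQ false q) := fun q => by rw [d.h_act, hl]
    have conj' : ∀ {q q' : Q}, W.ρ₁ * W.e q * W.ρ₁⁻¹ = W.e q' → hActQ false q = q → u * W.e q' * u⁻¹ = W.e q' := by
      intro q q' e1 e2
      rw [hu, ← e1, show W.ρ₁ * d.h * W.ρ₁⁻¹ * (W.ρ₁ * W.e q * W.ρ₁⁻¹) * (W.ρ₁ * d.h * W.ρ₁⁻¹)⁻¹ =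
        W.ρ₁ * (d.h * W.e q * d.h⁻¹) * W.ρ₁⁻¹ by group, hh', e2]
    have ux : u * W.e xQ * u⁻¹ = W.e xQ := conj' W.ρ₁_a (by decide +kernel)
    have uxz : u * W.e (xQ * zQ) * u⁻¹ = W.e (xQ * zQ) := conj' W.ρ₁_x (by decide +kernel)
    have uxaz : u * W.e (xQ * aQ * zQ) * u⁻¹ = W.e (xQ * aQ * zQ) := conj' W.ρ₁_z (by decide +kernel)
    have uz : u * W.e zQ * u⁻¹ = W.e zQ := by
      have := W.conj_mul ux uxz
      rwa [show xQ * (xQ * zQ) = zQ by decide +kernel] at this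
    have ua : u * W.e aQ * u⁻¹ = W.e aQ := by
      have := W.conj_mul uxz uxaz
      rwa [show xQ * zQ * (xQ * aQ * zQ) = aQ by decide +kernel] at this
    have ut : u * W.e tQ * u⁻¹ = W.e (tQ * xQ) := by
      rw [hu, show W.ρ₁ * d.h * W.ρ₁⁻¹ * W.e tQ * (W.ρ₁ * d.h * W.ρ₁⁻¹)⁻¹ =
        W.ρ₁ * (d.h * (W.ρ₁⁻¹ * W.e tQ * W.ρ₁⁻¹⁻¹) * d.h⁻¹) * W.ρ₁⁻¹ by group,
        W.inv_conj (W.conj_t W.ρ₁_t), hh', show hActQ false tQ = tQ * aQ by decide +kernel]
      exact W.conj_mul (W.conj_t W.ρ₁_t) W.ρ₁_a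
    exact ⟨⟨ua, uz, Or.inl ux, xQ, by decide +kernel, ut⟩, ut⟩
  have hreach : ∀ w : w1Q, ∃ g ∈ T₁, g * W.e tQ * g⁻¹ = W.e (tQ * w) := by
    rintro ⟨w, hw⟩
    rcases w1Q_split w hw with hf | ⟨f₀, hf, rfl⟩
    · obtain ⟨r, hr, hrt⟩ := d.exists_translation hf
      exact ⟨r, hNS r hr, by rw [W.e_t]; exact hrt⟩
    · obtain ⟨r, hr, hrt⟩ := d.exists_translation hf
      obtain ⟨⟨ua, uz, ux, -⟩, ut⟩ := hup
      have uf : u * W.e f₀ * u⁻¹ = W.e f₀ := by
        rcases (show ∀ f ∈ fourQ, f = 1 ∨ f = zQ ∨ f = aQ ∨ f = aQ * zQ by decide +kernel) f₀ hf with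
          rfl | rfl | rfl | rfl
        · simp
        · exact uz
        · exact ua
        · exact W.conj_mul ua uz
      refine ⟨u * r, T₁.mul_mem ⟨ua, uz, ux, xQ, by decide +kernel, ut⟩ (hNS r hr), ?_⟩
      rw [show u * r * W.e tQ * (u * r)⁻¹ = u * (r * W.e tQ * r⁻¹) * u⁻¹ by group, W.e_t, hrt,
        W.conj_mul ut uf, mul_assoc]
  -- the order
  choose gen hgen hgt using hreach
  have hcard : Nat.card T₁ = 256 := by
    let Φ : w1Q × Q → T₁ := fun p => ⟨gen p.1 * W.e p.2, T₁.mul_mem (hgen _) (hNS _ (W.e_mem_NS _))⟩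
    have htr : ∀ (g : G) (q : Q), g * W.e q * W.e tQ * (g * W.e q)⁻¹ = g * W.e tQ * g⁻¹ := fun g q => by
      rw [mul_assoc g, W.e_t, W.e_comm_t q]; group
    have hΦ : Function.Bijective Φ := by
      constructor
      · rintro ⟨w, q⟩ ⟨w', q'⟩ e
        have e' : gen w * W.e q = gen w' * W.e q' := congrArg Subtype.val e
        have hww : w = w' := by
          have h1 := htr (gen w) q
          rw [e', htr, hgt, hgt, W.e_eq, mul_right_inj] at h1
          exact Subtype.ext h1.symm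
        subst hww
        rw [W.e_eq.mp (mul_left_cancel e')]
      · rintro ⟨g, hg⟩
        obtain ⟨-, -, -, w, hw, gt⟩ := hT₁.mp hg
        have hc : (gen ⟨w, hw⟩)⁻¹ * g ∈ W.base.S := by
          have hm := hT₁.mp (T₁.mul_mem (T₁.inv_mem (hgen ⟨w, hw⟩)) hg)
          have ht : (gen ⟨w, hw⟩)⁻¹ * g * W.e tQ * ((gen ⟨w, hw⟩)⁻¹ * g)⁻¹ = W.e tQ := by
            rw [show (gen ⟨w, hw⟩)⁻¹ * g * W.e tQ * ((gen ⟨w, hw⟩)⁻¹ * g)⁻¹ =
              (gen ⟨w, hw⟩)⁻¹ * (g * W.e tQ * g⁻¹) * gen ⟨w, hw⟩ by group, gt, ← hgt ⟨w, hw⟩]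
            group
          exact W.mem_of_fix (hNSmem hm ⟨1, by decide +kernel, by rw [mul_one]; exact ht⟩).1
            (by rw [← W.e_t]; exact ht)
        obtain ⟨q, hq⟩ := (W.e_range _).mp hc
        exact ⟨(⟨w, hw⟩, q), Subtype.ext (by simp [Φ, hq])⟩
    rw [← Nat.card_congr (Equiv.ofBijective Φ hΦ), Nat.card_prod, card_Q, Nat.card_eq_finsetCard,
      show w1Q.card = 8 by decide +kernel]
  have hP2 : IsPGroup 2 T₁ := IsPGroup.of_card (n := 8) (by rw [hcard]; norm_num)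
  -- the two descriptions of the value
  have hF : (fun v : Node => xor v.1 v.2.1) ∈ fiveHom := by simp [fiveHom]
  have flift : ∀ r ∈ W.NS, f r = 1 ↔ d.lift (fun v : Node => xor v.1 v.2.1) r = 1 := by
    intro r hr
    obtain ⟨⟨c, e, q⟩, rfl⟩ := d.μ_surj hr
    obtain ⟨-, w, hw, ht, hiff⟩ := edgeOne_node b c e q
    have e1 : f (d.μ (c, e, q)) = ca (tQ * w) + cx (tQ * w) :=
      fval (by rw [d.node_conj, hP]; exact congrArg W.e ht)
    rw [e1, hiff, FourData.lift, d.node_μ]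
    cases c <;> cases e <;> simp
  -- large centralizers lie in `N(S)`
  have hin : ∀ v, W.base.Ext T₁ v → f v = 1 → v ∈ W.NS := by
    rintro v ⟨hvT, hvD, P, hPT, hPc, hPv⟩ -
    obtain ⟨va, vz, vx, w, hw, vt⟩ := hT₁.mp hvT
    refine hNSmem hvT ?_
    have hfixw : v * W.e w * v⁻¹ = W.e w := by
      obtain ⟨-, w', -, e, -, -⟩ := act va vz vx w hw
      have h1 : v * (v * W.e tQ * v⁻¹) * v⁻¹ = W.e tQ := by
        calc v * (v * W.e tQ * v⁻¹) * v⁻¹ = (v * v) * W.e tQ * (v * v)⁻¹ := by group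
          _ = W.e tQ := by rw [hvD.sq]; group
      rw [vt, W.conj_mul vt e, W.e_eq, mul_assoc] at h1
      have h2 : w * w' = 1 := mul_eq_left.mp h1
      rw [e, eq_inv_of_mul_eq_one_right h2,
        inv_eq_of_mul_eq_one_right (w1Q_sub w hw).1]
    rcases vx with hv1 | hv1
    swap
    · obtain ⟨-, w', -, e, -, hw'⟩ := act va vz (Or.inr hv1) w hw
      rw [e, W.e_eq] at hfixw
      exact ⟨w, w1Q_fixed w hw ((hw' hv1).symm.trans hfixw), vt⟩
    -- `v` centralizes `W1`; some element of its centralizer moves `x`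
    set C := T₁ ⊓ Subgroup.centralizer {v} with hC
    have hCle : Nat.card C ≤ 32 := W.two_le hvD C (hP2.to_le inf_le_left)
      (fun p hp => Subgroup.mem_centralizer_singleton_iff.mp hp.2)
    have hPC : P ≤ C := fun p hp => ⟨hPT hp, Subgroup.mem_centralizer_singleton_iff.mpr (hPv p hp)⟩
    have hC32 : Nat.card C = 32 := by
      refine le_antisymm hCle ?_
      rw [← W.card_S, ← hPc]
      exact Nat.card_le_card_of_injective _ (Subgroup.inclusion_injective hPC)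
    have hw1 : ∀ q ∈ w1Q, v * W.e q * v⁻¹ = W.e q := fun q hq => (act va vz (Or.inl hv1) q hq).1 hv1
    have hmove : ∃ g ∈ C, g * W.e xQ * g⁻¹ = W.e (xQ * zQ) := by
      by_contra hno
      let s : Finset G := insert v (w1Q.image W.e)
      have hs : ∀ c ∈ s, c ∈ C ∧ ∀ g ∈ C, g * c = c * g := by
        intro c hc
        rcases Finset.mem_insert.mp hc with rfl | hc
        · exact ⟨⟨hvT, Subgroup.mem_centralizer_singleton_iff.mpr rfl⟩,
            fun g hg => Subgroup.mem_centralizer_singleton_iff.mp hg.2⟩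
        · obtain ⟨q, hq, rfl⟩ := Finset.mem_image.mp hc
          have hqT : W.e q ∈ T₁ := hNS _ (W.e_mem_NS q)
          refine ⟨⟨hqT, Subgroup.mem_centralizer_singleton_iff.mpr ?_⟩, fun g hg => ?_⟩
          · exact (mul_inv_eq_iff_eq_mul.mp (hw1 q hq)).symm
          · obtain ⟨ga, gz, gx, -⟩ := hT₁.mp hg.1
            rcases gx with e | e
            · exact mul_inv_eq_iff_eq_mul.mp ((act ga gz (Or.inl e) q hq).1 e)
            · exact absurd ⟨g, hg, e⟩ hno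
      have h8 := W.model_center hvD C hC32 (fun p hp => Subgroup.mem_centralizer_singleton_iff.mp hp.2) s hs
      have hvn : v ∉ w1Q.image W.e := fun hc => by
        obtain ⟨q, hq, e⟩ := Finset.mem_image.mp hc
        have := (d.p2.inD_e.mp (e ▸ hvD)).2
        rw [(w1Q_sub q hq).2.1] at this
        exact absurd this (by decide)
      rw [Finset.card_insert_of_notMem hvn, Finset.card_image_of_injective _ W.e_inj,
        show w1Q.card = 8 by decide +kernel] at h8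
      omega
    obtain ⟨g, hgC, hgx⟩ := hmove
    obtain ⟨ga, gz, gx, u', hu', gt⟩ := hT₁.mp hgC.1
    obtain ⟨-, w'', -, ew, -, hw''⟩ := act ga gz gx w hw
    have hgv : g * v = v * g := Subgroup.mem_centralizer_singleton_iff.mp hgC.2
    have h1 : g * (v * W.e tQ * v⁻¹) * g⁻¹ = v * (g * W.e tQ * g⁻¹) * v⁻¹ := by
      calc g * (v * W.e tQ * v⁻¹) * g⁻¹ = g * v * W.e tQ * (g * v)⁻¹ := by group
        _ = _ := by rw [hgv]; group
    rw [vt, gt, W.conj_mul gt ew, W.conj_mul vt (hw1 u' hu'), W.e_eq, mul_assoc, mul_assoc, mul_right_inj,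
      ((w1Q_sub w hw).2.2 u' hu').2] at h1
    exact ⟨w, w1Q_fixed w hw ((hw'' hgx).symm.trans (mul_left_cancel h1)), vt⟩
  -- the criterion
  refine W.index_two_of_parity T₁ f (fun g hg k hk => (hmul g k hg hk).2) (d.TSet fun v => xor v.1 v.2.1)
    (fun v => ?_) (m := 8) (N := 3) (fun v hv => ?_) (by norm_num) ?_ ⟨1, rfl⟩
  · rw [d.TSet_spec]
    constructor
    · rintro ⟨⟨h1, h2, P, hP, hPc, hPv⟩, h3⟩
      exact ⟨⟨hNS v h1, h2, P, fun p hp => hNS p (hP hp), hPc, hPv⟩, (flift v h1).mpr h3⟩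
    · rintro ⟨he, h3⟩
      have h1 := hin v he h3
      exact ⟨W.ext_of_cent h1 he.2.1 (d.class_eq h1 he.2.1).2.1, (flift v h1).mp h3⟩
  · obtain ⟨h1, h2, -⟩ := ((d.TSet_spec _ v).mp hv).1
    have hc : Nat.card ↥(T₁ ⊓ Subgroup.centralizer {v}) = 32 := by
      refine le_antisymm (W.two_le h2 _ (hP2.to_le inf_le_left)
        (fun p hp => Subgroup.mem_centralizer_singleton_iff.mp hp.2)) ?_
      rw [← (d.class_eq h1 h2).2.1]
      exact Nat.card_le_card_of_injective _ (Subgroup.inclusion_injective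
        (show W.NS ⊓ Subgroup.centralizer {v} ≤ T₁ ⊓ Subgroup.centralizer {v} from
          fun g hg => ⟨hNS g hg.1, hg.2⟩))
    have := class_card T₁ v
    rw [hc, hcard] at this
    omega
  · rw [d.TSet_card hF, List.filter_append, List.length_append, hcount]
    decide +kernel

end Setup

end Cfsg.Agent.SixCentralizer
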