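/-
The shape `(0,1)`: transfer to a group permuting four classes of involutions.

* `FourData.shapeC_index_two`
-/
import Cfsg.Agent.Lib.SixCentralizer.EdgeBase
import Cfsg.Agent.EqLemmas

set_option autoImplicit false
set_option maxRecDepth 100000
set_option synthInstance.maxSize 4000
set_option linter.style.haveILetI false

namespace Cfsg.Agent.SixCentralizer

/-- The translations of `t, h₁, h₂, h₃`. -/
def trQ : Fin 4 → Q := ![1, aQ, xQ, xQ * zQ]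

/-- The images of an element of `⟨a, z⟩` under the rotation. -/
def rotOne (f : Q) : Q :=
  if f = aQ then xQ else if f = zQ then xQ * aQ * zQ else f

/-- The images of an element of `⟨a, z⟩` under the square of the rotation. -/
def rotTwo (f : Q) : Q :=
  if f = aQ then xQ * zQ else if f = zQ then xQ * aQ else f

theorem commutators : ∀ f ∈ fourQ, ∀ e : Bool, bpow e aQ * (rotOne f * rotTwo f) = aQ * zQ →
    bpow e (aQ * zQ) * (f * rotOne f * rotTwo f) = 1 → f = aQ := by decide +kernel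

theorem w1_commute_y : ∀ c ∈ w1Q, c * yQ = yQ * c → c ∈ fourQ := by decide +kernel

theorem w1_move_fixed : ∀ w ∈ w1Q, ext tQ aQ (xQ * zQ) yQ w = w → w ∈ fourQ := by decide +kernel

theorem x_image : ∀ q : Q, q * q = 1 → ¬ Cen q → ct q = 0 →
    (kActQ true q = q ∨ kActQ true q = q * zQ) → q ∈ w1Q ∧ ∀ p : Q, p * p = 1 → ct p = 0 → p * q ≠ q * p →
      ∃ f ∈ fourQ, p * tQ = f * (tQ * yQ) := by decide +kernel

theorem perm_conj : ∀ γ π : Equiv.Perm (Fin 4), γ 1 = 0 → π * π = 1 → Equiv.Perm.sign π ≠ 1 →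
    ∃ m : Fin 3, ∃ n : Fin 3, ∃ e : Bool,
      (Equiv.swap (1 : Fin 4) 3 * Equiv.swap 1 2) ^ (m : ℕ) *
          (if e then γ * (Equiv.swap (1 : Fin 4) 3 * Equiv.swap 1 2) ^ (n : ℕ) else 1) * π *
        ((Equiv.swap (1 : Fin 4) 3 * Equiv.swap 1 2) ^ (m : ℕ) *
          (if e then γ * (Equiv.swap (1 : Fin 4) 3 * Equiv.swap 1 2) ^ (n : ℕ) else 1))⁻¹ =
        Equiv.swap 2 3 := by decide +kernel

theorem node_cy : ∀ c e : Bool, ∀ q : Q, ∀ b : Q,
    q * Par.act ⟨false, true, b⟩ c e xQ * q⁻¹ = xQ * zQ → cy q = 1 := by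
  intro c e q b
  exact (show ∀ c e : Bool, ∀ q : Q, q * Par.act ⟨false, true, 1⟩ c e xQ * q⁻¹ = xQ * zQ → cy q = 1 by
    decide +kernel) c e q

theorem node_x : ∀ c e : Bool, ∀ q : Q, ∀ b : Q,
    q * Par.act ⟨false, true, b⟩ c e xQ * q⁻¹ = xQ ∨ q * Par.act ⟨false, true, b⟩ c e xQ * q⁻¹ = xQ * zQ := by
  intro c e q b
  exact (show ∀ c e : Bool, ∀ q : Q, q * Par.act ⟨false, true, 1⟩ c e xQ * q⁻¹ = xQ ∨
    q * Par.act ⟨false, true, 1⟩ c e xQ * q⁻¹ = xQ * zQ by decide +kernel) c e q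

theorem node_t : ∀ c e c' e' : Bool, ∀ q q' : Q, ∀ b : Q,
    q * Par.act ⟨false, true, b⟩ c e tQ * q⁻¹ = q' * Par.act ⟨false, true, b⟩ c' e' tQ * q'⁻¹ →
      c = c' ∧ e = e' := by
  intro c e c' e' q q' b
  exact (show ∀ c e c' e' : Bool, ∀ q q' : Q,
    q * Par.act ⟨false, true, 1⟩ c e tQ * q⁻¹ = q' * Par.act ⟨false, true, 1⟩ c' e' tQ * q'⁻¹ →
      c = c' ∧ e = e' by decide +kernel) c e c' e' q q'

universe u

variable {G : Type u} [Group G]

namespace Setup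

variable {W : Setup G}

set_option maxHeartbeats 2000000 in
theorem FourData.shapeC_index_two [Finite G] (d : W.FourData) (hs : shapeC d.P d.Dl = true) :
    ∃ K : Subgroup G, K.index = 2 := by
  classical
  simp only [shapeC, Bool.and_eq_true, Bool.not_eq_true', beq_iff_eq, decide_eq_true_iff] at hs
  obtain ⟨⟨⟨⟨⟨⟨⟨⟨⟨hl, hm⟩, hh⟩, hk⟩, hb⟩, -⟩, hhy⟩, hky⟩, hcount⟩, hn1⟩ := hs
  obtain ⟨b, hP⟩ : ∃ b, d.P = ⟨false, true, b⟩ := by
    obtain ⟨⟨l, m, b⟩, hP⟩ : ∃ P, P = d.P := ⟨_, rfl⟩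
    rw [← hP] at hl hm
    subst hl hm
    exact ⟨b, hP.symm⟩
  have hh₁ : ∀ q, d.h * W.e q * d.h⁻¹ = W.e (hActQ false q) := fun q => by rw [d.h_act, hl]
  have hk₁ : ∀ q, d.k * W.e q * d.k⁻¹ = W.e (kActQ true q) := fun q => by rw [d.k_act, hm]
  have hhD : W.base.InD d.h := by rw [← d.μ_h, ← d.memD_iff]; exact hh
  have hkD : ¬ W.base.InD d.k := by
    rw [← d.μ_k, ← d.memD_iff, hk]
    exact Bool.false_ne_true
  -- centralizing `W1`
  let C1 : G → Prop := fun g => ∀ w ∈ w1Q, g * W.e w * g⁻¹ = W.e w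
  have mkC1 : ∀ {g : G}, g * W.e aQ * g⁻¹ = W.e aQ → g * W.e zQ * g⁻¹ = W.e zQ →
      g * W.e xQ * g⁻¹ = W.e xQ → C1 g := by
    intro g ha hz hx w hw
    rcases w1Q_gen w hw with rfl | rfl | rfl | rfl | rfl | rfl | rfl | rfl
    · simp
    · exact ha
    · exact hz
    · exact W.conj_mul ha hz
    · exact hx
    · exact W.conj_mul hx hz
    · exact W.conj_mul hx ha
    · exact W.conj_mul (W.conj_mul hx ha) hz
  let Norm1 : G → Prop := fun g => ∀ w ∈ w1Q, ∃ w' ∈ w1Q, g * W.e w * g⁻¹ = W.e w'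
  have hsurj : ∀ {g}, Norm1 g → ∀ w' ∈ w1Q, ∃ w ∈ w1Q, g * W.e w * g⁻¹ = W.e w' := by
    intro g hg w' hw'
    choose φ hφ hφe using hg
    have hbij : Function.Surjective (fun w : w1Q => (⟨φ w w.2, hφ _ _⟩ : w1Q)) := by
      refine Finite.injective_iff_surjective.mp fun a c e => ?_
      have h1 := hφe a a.2
      rw [show φ a a.2 = φ c c.2 from congrArg Subtype.val e, ← hφe c c.2] at h1
      exact Subtype.ext (W.e_inj (by simpa using h1))
    obtain ⟨⟨w, hw⟩, e⟩ := hbij ⟨w', hw'⟩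
    exact ⟨w, hw, by rw [hφe w hw, show φ w hw = w' from congrArg Subtype.val e]⟩
  have hρN : Norm1 W.ρ₁ :=
    W.conj_w1 W.ρ₁_a W.ρ₁_z W.ρ₁_x (by decide +kernel) (by decide +kernel) (by decide +kernel)
  have hrotC : ∀ {g}, C1 g → C1 (W.ρ₁ * g * W.ρ₁⁻¹) := by
    intro g hg w' hw'
    obtain ⟨w, hw, e⟩ := hsurj hρN w' hw'
    rw [← e, show W.ρ₁ * g * W.ρ₁⁻¹ * (W.ρ₁ * W.e w * W.ρ₁⁻¹) * (W.ρ₁ * g * W.ρ₁⁻¹)⁻¹ =
      W.ρ₁ * (g * W.e w * g⁻¹) * W.ρ₁⁻¹ by group, hg w hw]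
  -- `K`
  let InK : G → Prop := fun g => C1 g ∧ ∃ w ∈ w1Q, g * W.e tQ * g⁻¹ = W.e (tQ * w)
  have wmul : ∀ {p q : Q}, p ∈ w1Q → q ∈ w1Q → p * q ∈ w1Q := fun hp hq => ((w1Q_sub _ hp).2.2 _ hq).1
  have wcomm : ∀ {p q : Q}, p ∈ w1Q → q ∈ w1Q → p * q = q * p := fun hp hq => ((w1Q_sub _ hp).2.2 _ hq).2
  have Kmul : ∀ {g g' : G} {w w' : Q}, C1 g → C1 g' → w ∈ w1Q → w' ∈ w1Q →
      g * W.e tQ * g⁻¹ = W.e (tQ * w) → g' * W.e tQ * g'⁻¹ = W.e (tQ * w') →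
      C1 (g * g') ∧ g * g' * W.e tQ * (g * g')⁻¹ = W.e (tQ * (w * w')) := by
    intro g g' w w' hg hg' hw hw' e e'
    have hc : ∀ q, g * g' * W.e q * (g * g')⁻¹ = g * (g' * W.e q * g'⁻¹) * g⁻¹ := fun q => by group
    refine ⟨fun v hv => by rw [hc, hg' v hv, hg v hv], ?_⟩
    rw [hc, e', W.conj_mul e (hg w' hw'), mul_assoc]
  have Kfix : ∀ {g : G}, C1 g → g * W.e tQ * g⁻¹ = W.e tQ → ∃ q, g = W.e q ∧ q * xQ = xQ * q := by
    intro g hg e
    have h1 := mul_inv_eq_iff_eq_mul.mp (hg aQ (by decide +kernel))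
    have h2 := mul_inv_eq_iff_eq_mul.mp (hg zQ (by decide +kernel))
    have h3 := mul_inv_eq_iff_eq_mul.mp (hg xQ (by decide +kernel))
    obtain ⟨q, rfl⟩ := (W.e_range g).mp
      (W.centB g (by rw [← W.e_t]; exact mul_inv_eq_iff_eq_mul.mp e) h1 h2 h3)
    exact ⟨q, rfl, W.e_inj (by rw [map_mul, map_mul]; exact h3)⟩
  have hq2 : ∀ q : Q, q * xQ = xQ * q → q * q = 1 := by decide +kernel
  have Ksq : ∀ {g : G}, InK g → ∃ q ∈ w1Q, g * g = W.e q := by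
    rintro g ⟨hg, w, hw, e⟩
    obtain ⟨h1, h2⟩ := Kmul hg hg hw hw e e
    rw [(w1Q_sub w hw).1, mul_one] at h2
    obtain ⟨q, hq, hqx⟩ := Kfix h1 h2
    refine ⟨q, cent_xQ q hqx ?_, hq⟩
    by_contra hne
    exact W.not_sq (d.p2.inD_e.mpr ⟨hq2 q hqx, (show ∀ x : ZMod 2, x ≠ 0 → x = 1 by decide) _ hne⟩)
      (g := g) (by rw [← hq]; group) hq
  let KD : G → Prop := fun g => InK g ∧ W.base.InD g
  have hcomW : ∀ {g : G}, C1 g → ∀ w ∈ w1Q, g * W.e w = W.e w * g := fun hg w hw =>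
    mul_inv_eq_iff_eq_mul.mp (hg w hw)
  have shift : ∀ {v : G}, KD v → ∀ w ∈ w1Q, KD (W.e w * v) := by
    rintro v ⟨⟨hv, w', hw', e⟩, hd⟩ w hw
    refine ⟨⟨fun p hp => ?_, w', hw', ?_⟩, ?_⟩
    · rw [show W.e w * v * W.e p * (W.e w * v)⁻¹ = W.e w * (v * W.e p * v⁻¹) * (W.e w)⁻¹ by group, hv p hp,
        ← map_inv, ← map_mul, ← map_mul, wcomm hw hp, mul_inv_cancel_right]
    · rw [show W.e w * v * W.e tQ * (W.e w * v)⁻¹ = W.e w * (v * W.e tQ * v⁻¹) * (W.e w)⁻¹ by group, e,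
        ← map_inv, ← map_mul, ← map_mul]
      exact congrArg W.e ((show ∀ w ∈ w1Q, ∀ w' ∈ w1Q, w * (tQ * w') * w⁻¹ = tQ * w' by decide +kernel)
        w hw w' hw')
    · have hw2 : W.e w * W.e w = 1 := by rw [← map_mul, (w1Q_sub w hw).1, map_one]
      have hnd : ¬ W.base.InD (W.e w) := fun h => by
        have := (d.p2.inD_e.mp h).2
        rw [(w1Q_sub w hw).2.1] at this
        exact absurd this (by decide)
      by_contra hn
      refine hnd ((d.p2.pair hd (hcomW hv w hw) hw2).mpr ?_)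
      rwa [hcomW hv w hw]
  have hcommW : ∀ {u v : G}, KD u → KD v → ∃ q ∈ w1Q, v * u * v⁻¹ = W.e q * u := by
    rintro u v ⟨⟨hu, w, hw, eu⟩, hud⟩ ⟨⟨hv, w', hw', ev⟩, hvd⟩
    obtain ⟨h1, h2⟩ := Kmul hv hu hw' hw ev eu
    obtain ⟨q, hq, e⟩ := Ksq (g := v * u) ⟨h1, _, wmul hw' hw, h2⟩
    refine ⟨q, hq, ?_⟩
    rw [← e, inv_eq_of_mul_eq_one_right hvd.sq]
    calc v * u * v = v * u * v * (u * u) := by rw [hud.sq, mul_one]
      _ = _ := by group
  -- the four involutions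
  obtain ⟨h₂, hh₂⟩ : ∃ g, g = W.ρ₁ * d.h * W.ρ₁⁻¹ := ⟨_, rfl⟩
  obtain ⟨h₃, hh₃⟩ : ∃ g, g = W.ρ₁ * h₂ * W.ρ₁⁻¹ := ⟨_, rfl⟩
  have rot_t : ∀ {g : G} {w w' : Q}, g * W.e tQ * g⁻¹ = W.e (tQ * w) → W.ρ₁ * W.e w * W.ρ₁⁻¹ = W.e w' →
      W.ρ₁ * g * W.ρ₁⁻¹ * W.e tQ * (W.ρ₁ * g * W.ρ₁⁻¹)⁻¹ = W.e (tQ * w') := by
    intro g w w' e e'
    rw [show W.ρ₁ * g * W.ρ₁⁻¹ * W.e tQ * (W.ρ₁ * g * W.ρ₁⁻¹)⁻¹ =
      W.ρ₁ * (g * (W.ρ₁⁻¹ * W.e tQ * W.ρ₁⁻¹⁻¹) * g⁻¹) * W.ρ₁⁻¹ by group,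
      W.inv_conj (W.conj_t W.ρ₁_t), e]
    exact W.conj_mul (W.conj_t W.ρ₁_t) e'
  have rot_xz : W.ρ₁ * W.e (xQ * zQ) * W.ρ₁⁻¹ = W.e aQ := by
    rw [W.conj_mul W.ρ₁_x W.ρ₁_z]; exact congrArg W.e (by decide +kernel)
  have c1h : C1 d.h := mkC1 ((hh₁ _).trans (congrArg W.e (by decide +kernel)))
    ((hh₁ _).trans (congrArg W.e (by decide +kernel))) ((hh₁ _).trans (congrArg W.e (by decide +kernel)))
  have t1 : d.h * W.e tQ * d.h⁻¹ = W.e (tQ * aQ) := (hh₁ _).trans (congrArg W.e (by decide +kernel))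
  have c2h : C1 h₂ := hh₂ ▸ hrotC c1h
  have t2 : h₂ * W.e tQ * h₂⁻¹ = W.e (tQ * xQ) := hh₂ ▸ rot_t t1 W.ρ₁_a
  have c3h : C1 h₃ := hh₃ ▸ hrotC c2h
  have t3 : h₃ * W.e tQ * h₃⁻¹ = W.e (tQ * (xQ * zQ)) := hh₃ ▸ rot_t t2 W.ρ₁_x
  have d2 : W.base.InD h₂ := hh₂ ▸ hhD.conj _
  have d3 : W.base.InD h₃ := hh₃ ▸ d2.conj _
  have K1 : KD d.h := ⟨⟨c1h, aQ, by decide +kernel, t1⟩, hhD⟩
  have K2 : KD h₂ := ⟨⟨c2h, xQ, by decide +kernel, t2⟩, d2⟩
  have K3 : KD h₃ := ⟨⟨c3h, xQ * zQ, by decide +kernel, t3⟩, d3⟩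
  have htt : W.base.InD (W.e tQ) := by rw [W.e_t]; exact W.base.inD_t
  have K0 : KD (W.e tQ) := by
    refine ⟨⟨fun w hw => ?_, 1, by decide +kernel, ?_⟩, htt⟩
    · rw [← map_inv, ← map_mul, ← map_mul]
      exact congrArg W.e ((show ∀ w ∈ w1Q, tQ * w * tQ⁻¹ = w by decide +kernel) w hw)
    · rw [← map_inv, ← map_mul, ← map_mul]
      exact congrArg W.e (by decide +kernel)
  have sameTr : ∀ {g g' : G} {w : Q}, KD g → KD g' → w ∈ w1Q → w ≠ 1 →
      g * W.e tQ * g⁻¹ = W.e (tQ * w) → g' * W.e tQ * g'⁻¹ = W.e (tQ * w) → ∃ p ∈ w1Q, g = W.e p * g' := by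
    intro g g' w hg hg' hw hw1 e e'
    obtain ⟨h1, h2⟩ := Kmul hg.1.1 hg'.1.1 hw hw e e'
    rw [(w1Q_sub w hw).1, mul_one] at h2
    obtain ⟨p, hp, hpx⟩ := Kfix h1 h2
    have hgp : g = W.e p * g' := by
      rw [← hp]
      calc g = g * (g' * g') := by rw [hg'.2.sq, mul_one]
        _ = g * g' * g' := by group
    refine ⟨p, cent_xQ p hpx ?_, hgp⟩
    by_contra hne
    have hp1 : ct p = 1 := (show ∀ x : ZMod 2, x ≠ 0 → x = 1 by decide) _ hne
    obtain ⟨u, hu, hpu⟩ := (show ∀ p : Q, p * xQ = xQ * p → ct p = 1 → ∃ u ∈ w1Q, p = tQ * u by decide +kernel)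
      p hpx hp1
    apply hw1
    apply W.e_inj
    rw [map_one]
    calc W.e w = W.e (p * (tQ * w * u)) := congrArg W.e (by
          rw [hpu]
          exact ((show ∀ u ∈ w1Q, ∀ w ∈ w1Q, tQ * u * (tQ * w * u) = w by decide +kernel) u hu w hw).symm)
      _ = W.e p * (g' * W.e p * g'⁻¹) := by
          rw [map_mul, hpu, W.conj_mul e' (hg'.1.1 u hu)]
      _ = g * g := by
          rw [hgp]
          calc W.e p * (g' * W.e p * g'⁻¹) = W.e p * (g' * W.e p * g'⁻¹) * (g' * g') := by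
                rw [hg'.2.sq, mul_one]
            _ = _ := by group
      _ = 1 := hg.2.sq
  -- commutators
  have csq : ∀ {g g' : G}, KD g → KD g' → ∃ q ∈ w1Q, g * g' * (g * g') = W.e q := by
    rintro g g' ⟨⟨hg, w, hw, e⟩, -⟩ ⟨⟨hg', w', hw', e'⟩, -⟩
    obtain ⟨h1, h2⟩ := Kmul hg hg' hw hw' e e'
    exact Ksq ⟨h1, _, wmul hw hw', h2⟩
  obtain ⟨q₁, hq₁, s₁⟩ := csq K2 K3
  have hinvW : ∀ {q : Q}, q ∈ w1Q → (W.e q)⁻¹ = W.e q := fun hq =>
    inv_eq_of_mul_eq_one_right (by rw [← map_mul, (w1Q_sub _ hq).1, map_one])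
  have flip : ∀ {g g' : G} {q : Q}, KD g → KD g' → q ∈ w1Q → g * g' * (g * g') = W.e q →
      g' * g * (g' * g) = W.e q := by
    intro g g' q hg hg' hq e
    rw [← hinvW hq, ← e, mul_inv_rev, mul_inv_rev, inv_eq_of_mul_eq_one_right hg.2.sq,
      inv_eq_of_mul_eq_one_right hg'.2.sq]
  have insW : ∀ {g g' : G} {p p' : Q}, C1 g → C1 g' → p ∈ w1Q → p' ∈ w1Q →
      W.e p * g * (W.e p' * g') * (W.e p * g * (W.e p' * g')) = g * g' * (g * g') := by
    intro g g' p p' hg hg' hp hp'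
    have cm : ∀ {u : G} {v : Q}, C1 u → v ∈ w1Q → u * W.e v = W.e v * u := fun hu hv => hcomW hu _ hv
    calc W.e p * g * (W.e p' * g') * (W.e p * g * (W.e p' * g'))
        = W.e p * (g * W.e p') * g' * (W.e p * (g * W.e p') * g') := by group
      _ = W.e (p * p') * (g * g') * W.e (p * p') * (g * g') := by rw [cm hg hp', map_mul]; group
      _ = W.e (p * p') * W.e (p * p') * (g * g') * (g * g') := by
          rw [mul_assoc (W.e (p * p')) (g * g'),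
            show g * g' * W.e (p * p') = W.e (p * p') * (g * g') by
              rw [mul_assoc, cm hg' (wmul hp hp'), ← mul_assoc, cm hg (wmul hp hp'), mul_assoc]]
          group
      _ = g * g' * (g * g') := by rw [← map_mul, (w1Q_sub _ (wmul hp hp')).1, map_one]; group
  have hyN : Norm1 (W.e yQ) := fun w hw => by
    refine ⟨yQ * w * yQ⁻¹, (show ∀ w ∈ w1Q, yQ * w * yQ⁻¹ ∈ w1Q by decide +kernel) w hw, ?_⟩
    simp only [map_mul, map_inv]
  have yconj : ∀ {g : G} {w : Q}, KD g → w ∈ w1Q → g * W.e tQ * g⁻¹ = W.e (tQ * w) →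
      KD (W.e yQ * g * (W.e yQ)⁻¹) ∧ W.e yQ * g * (W.e yQ)⁻¹ * W.e tQ * (W.e yQ * g * (W.e yQ)⁻¹)⁻¹ =
        W.e (tQ * (yQ * w * yQ⁻¹)) := by
    intro g w hg hw e
    have h1 : W.e yQ * g * (W.e yQ)⁻¹ * W.e tQ * (W.e yQ * g * (W.e yQ)⁻¹)⁻¹ =
        W.e (tQ * (yQ * w * yQ⁻¹)) := by
      have hyt : (W.e yQ)⁻¹ * W.e tQ * W.e yQ = W.e tQ := by
        rw [← map_inv, ← map_mul, ← map_mul]
        exact congrArg W.e (by decide +kernel)
      rw [show W.e yQ * g * (W.e yQ)⁻¹ * W.e tQ * (W.e yQ * g * (W.e yQ)⁻¹)⁻¹ =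
        W.e yQ * (g * ((W.e yQ)⁻¹ * W.e tQ * W.e yQ) * g⁻¹) * (W.e yQ)⁻¹ by group, hyt, e,
        ← map_inv, ← map_mul, ← map_mul]
      exact congrArg W.e ((show ∀ w ∈ w1Q, yQ * (tQ * w) * yQ⁻¹ = tQ * (yQ * w * yQ⁻¹) by decide +kernel) w hw)
    refine ⟨⟨⟨fun p hp => ?_, _, (show ∀ w ∈ w1Q, yQ * w * yQ⁻¹ ∈ w1Q by decide +kernel) w hw, h1⟩,
      hg.2.conj _⟩, h1⟩
    obtain ⟨v, hv, ev⟩ := hsurj hyN p hp
    rw [← ev, show W.e yQ * g * (W.e yQ)⁻¹ * (W.e yQ * W.e v * (W.e yQ)⁻¹) * (W.e yQ * g * (W.e yQ)⁻¹)⁻¹ =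
      W.e yQ * (g * W.e v * g⁻¹) * (W.e yQ)⁻¹ by group, hg.1.1 v hv]
  have hq₁F : q₁ ∈ fourQ := by
    obtain ⟨Y2, e2⟩ := yconj K2 (by decide +kernel) t2
    obtain ⟨Y3, e3⟩ := yconj K3 (by decide +kernel) t3
    rw [show yQ * xQ * yQ⁻¹ = xQ * zQ by decide +kernel] at e2
    rw [show yQ * (xQ * zQ) * yQ⁻¹ = xQ by decide +kernel] at e3
    obtain ⟨p, hp, ep⟩ := sameTr Y2 K3 (by decide +kernel) (by decide +kernel) e2 t3
    obtain ⟨p', hp', ep'⟩ := sameTr Y3 K2 (by decide +kernel) (by decide +kernel) e3 t2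
    have h1 : W.e yQ * W.e q₁ * (W.e yQ)⁻¹ = W.e q₁ := by
      rw [← s₁, show W.e yQ * (h₂ * h₃ * (h₂ * h₃)) * (W.e yQ)⁻¹ =
        W.e yQ * h₂ * (W.e yQ)⁻¹ * (W.e yQ * h₃ * (W.e yQ)⁻¹) *
          (W.e yQ * h₂ * (W.e yQ)⁻¹ * (W.e yQ * h₃ * (W.e yQ)⁻¹)) by group, ep, ep', insW c3h c2h hp hp',
        flip K2 K3 hq₁ s₁, s₁]
    have h2 := mul_inv_eq_iff_eq_mul.mp h1
    rw [← map_mul, ← map_mul, W.e_eq] at h2
    exact w1_commute_y q₁ hq₁ h2.symm
  -- rotated commutators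
  obtain ⟨p₄, hp₄, e₄⟩ : ∃ p ∈ w1Q, W.ρ₁ * h₃ * W.ρ₁⁻¹ = W.e p * d.h :=
    sameTr ⟨⟨hrotC c3h, aQ, by decide +kernel, rot_t t3 rot_xz⟩, d3.conj _⟩ K1 (by decide +kernel)
      (by decide +kernel) (rot_t t3 rot_xz) t1
  have hone : ∀ {g : G}, W.e 1 * g = g := fun {g} => by rw [map_one, one_mul]
  obtain ⟨q₂, hq₂, s₂⟩ := csq K3 K1
  obtain ⟨q₃, hq₃, s₃⟩ := csq K1 K2
  have r2 : W.ρ₁ * W.e q₁ * W.ρ₁⁻¹ = W.e q₂ := by
    have hins := insW (p := 1) c3h c1h (by decide +kernel) hp₄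
    rw [hone] at hins
    rw [← s₁, show W.ρ₁ * (h₂ * h₃ * (h₂ * h₃)) * W.ρ₁⁻¹ = W.ρ₁ * h₂ * W.ρ₁⁻¹ * (W.ρ₁ * h₃ * W.ρ₁⁻¹) *
      (W.ρ₁ * h₂ * W.ρ₁⁻¹ * (W.ρ₁ * h₃ * W.ρ₁⁻¹)) by group, e₄, ← hh₃, hins, s₂]
  have r3 : W.ρ₁ * W.e q₂ * W.ρ₁⁻¹ = W.e q₃ := by
    have hins := insW (p' := 1) c1h c2h hp₄ (by decide +kernel)
    rw [hone] at hins
    rw [← s₂, show W.ρ₁ * (h₃ * d.h * (h₃ * d.h)) * W.ρ₁⁻¹ = W.ρ₁ * h₃ * W.ρ₁⁻¹ * (W.ρ₁ * d.h * W.ρ₁⁻¹) *
      (W.ρ₁ * h₃ * W.ρ₁⁻¹ * (W.ρ₁ * d.h * W.ρ₁⁻¹)) by group, e₄, ← hh₂, hins, s₃]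
  have rotF : ∀ f ∈ fourQ, W.ρ₁ * W.e f * W.ρ₁⁻¹ = W.e (rotOne f) ∧
      W.ρ₁ * W.e (rotOne f) * W.ρ₁⁻¹ = W.e (rotTwo f) := by
    have raz : W.ρ₁ * W.e (aQ * zQ) * W.ρ₁⁻¹ = W.e (aQ * zQ) := by
      rw [W.conj_mul W.ρ₁_a W.ρ₁_z]; exact congrArg W.e (by decide +kernel)
    intro f hf
    simp only [fourQ, Finset.mem_insert, Finset.mem_singleton] at hf
    rcases hf with rfl | rfl | rfl | rfl
    · rw [show rotOne 1 = 1 by decide +kernel, show rotTwo 1 = 1 by decide +kernel, map_one]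
      constructor <;> group
    · rw [show rotOne zQ = xQ * aQ * zQ by decide +kernel, show rotTwo zQ = xQ * aQ by decide +kernel]
      exact ⟨W.ρ₁_z, W.ρ₁_z'⟩
    · rw [show rotOne aQ = xQ by decide +kernel, show rotTwo aQ = xQ * zQ by decide +kernel]
      exact ⟨W.ρ₁_a, W.ρ₁_x⟩
    · rw [show rotOne (aQ * zQ) = aQ * zQ by decide +kernel, show rotTwo (aQ * zQ) = aQ * zQ by decide +kernel]
      exact ⟨raz, raz⟩
  have hv2 : q₂ = rotOne q₁ := W.e_inj (r2.symm.trans (rotF q₁ hq₁F).1)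
  have hv3 : q₃ = rotTwo q₁ := W.e_inj (r3.symm.trans (hv2 ▸ (rotF q₁ hq₁F).2))
  -- reordering products
  have K31 : h₃ * d.h = W.e q₂ * (d.h * h₃) := by
    rw [← s₂]
    calc h₃ * d.h = h₃ * d.h * h₃ * (d.h * d.h) * h₃ := by
          rw [hhD.sq, mul_one, mul_assoc _ h₃ h₃, d3.sq, mul_one]
      _ = _ := by group
  have K12 : d.h * h₂ * d.h = W.e q₃ * h₂ := by
    rw [← s₃]
    calc d.h * h₂ * d.h = d.h * h₂ * d.h * (h₂ * h₂) := by rw [d2.sq, mul_one]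
      _ = _ := by group
  have K32 : h₃ * h₂ * h₃ = W.e q₁ * h₂ := by
    rw [← flip K2 K3 hq₁ s₁]
    calc h₃ * h₂ * h₃ = h₃ * h₂ * h₃ * (h₂ * h₂) := by rw [d2.sq, mul_one]
      _ = _ := by group
  obtain ⟨A, hA⟩ : ∃ A, A = d.h * h₂ * h₃ := ⟨_, rfl⟩
  obtain ⟨h12, t12⟩ := Kmul c1h c2h (by decide +kernel) (by decide +kernel) t1 t2
  obtain ⟨cA, tA⟩ := Kmul h12 c3h (by decide +kernel) (by decide +kernel) t12 t3
  rw [← hA, show aQ * xQ * (xQ * zQ) = aQ * zQ by decide +kernel] at tA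
  rw [← hA] at cA
  have A2 : A * A = W.e (q₁ * q₂ * q₃) := by
    calc A * A = d.h * h₂ * (h₃ * d.h) * h₂ * h₃ := by rw [hA]; group
      _ = d.h * h₂ * W.e q₂ * d.h * h₃ * h₂ * h₃ := by rw [K31]; group
      _ = W.e q₂ * (d.h * h₂ * d.h) * (h₃ * h₂ * h₃) := by
          rw [show d.h * h₂ * W.e q₂ = W.e q₂ * (d.h * h₂) by
            rw [mul_assoc, hcomW c2h q₂ hq₂, ← mul_assoc, hcomW c1h q₂ hq₂, mul_assoc]]
          group
      _ = W.e q₂ * W.e q₃ * W.e q₁ * (h₂ * h₂) := by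
          rw [K12, K32, show W.e q₂ * (W.e q₃ * h₂) * (W.e q₁ * h₂) = W.e q₂ * W.e q₃ * (h₂ * W.e q₁) * h₂ by
            group, hcomW c2h q₁ hq₁]
          group
      _ = _ := by
          rw [d2.sq, mul_one, ← map_mul, ← map_mul]
          exact congrArg W.e (by rw [wcomm (wmul hq₂ hq₃) hq₁, mul_assoc])
  have kC : C1 d.k := mkC1 ((hk₁ _).trans (congrArg W.e (by decide +kernel)))
    ((hk₁ _).trans (congrArg W.e (by decide +kernel))) ((hk₁ _).trans (congrArg W.e (by decide +kernel)))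
  have tk : d.k * W.e tQ * d.k⁻¹ = W.e (tQ * (aQ * zQ)) := (hk₁ _).trans (congrArg W.e (by decide +kernel))
  obtain ⟨q₀, hq₀, hq₀x⟩ : ∃ q, d.k = W.e q * A ∧ q * xQ = xQ * q := by
    have hAi : A⁻¹ * W.e tQ * A⁻¹⁻¹ = W.e (tQ * (aQ * zQ)) := by
      have h1 := W.inv_conj (W.conj_mul tA (cA (aQ * zQ) (by decide +kernel)))
      rwa [show tQ * (aQ * zQ) * (aQ * zQ) = tQ by decide +kernel] at h1
    have cAi : C1 A⁻¹ := fun w hw => W.inv_conj (cA w hw)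
    obtain ⟨h1, h2⟩ := Kmul kC cAi (by decide +kernel) (by decide +kernel) tk hAi
    rw [show aQ * zQ * (aQ * zQ) = 1 by decide +kernel, mul_one] at h2
    obtain ⟨q, hq, hqx⟩ := Kfix h1 h2
    exact ⟨q, by rw [← hq]; group, hqx⟩
  have hAq : ∀ q : Q, q * xQ = xQ * q → A * W.e q * A⁻¹ = W.e (q * bpow (ct q = 1) (aQ * zQ)) := by
    intro q hq
    obtain ⟨u, hu, h'⟩ := (show ∀ q : Q, q * xQ = xQ * q → ∃ u ∈ w1Q, (ct q = 1 ∧ q = tQ * u ∨ ct q ≠ 1 ∧ q = u) by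
      decide +kernel) q hq
    rcases h' with ⟨h1, h2⟩ | ⟨h1, h2⟩ <;> subst h2
    · rw [W.conj_mul tA (cA u hu), decide_eq_true h1]
      exact congrArg W.e ((show ∀ u ∈ w1Q, tQ * (aQ * zQ) * u = tQ * u * bpow true (aQ * zQ) by decide +kernel)
        u hu)
    · rw [cA q hu, decide_eq_false h1]
      simp [bpow]
  have sqA : ∀ q : Q, q * xQ = xQ * q →
      W.e q * A * (W.e q * A) = W.e (bpow (ct q = 1) (aQ * zQ) * (q₁ * q₂ * q₃)) := by
    intro q hq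
    calc W.e q * A * (W.e q * A) = W.e q * (A * W.e q * A⁻¹) * (A * A) := by group
      _ = _ := by
          rw [hAq q hq, A2, ← map_mul, ← map_mul]
          exact congrArg W.e (by rw [← mul_assoc q, hq2 q hq, one_mul])
  have eq_b : bpow (ct q₀ = 1) aQ * (q₂ * q₃) = aQ * zQ := by
    have e1 : d.h * d.k * d.h = W.e (aQ * zQ) * d.k := by
      rw [d.comm, hb, mul_assoc, mul_assoc d.k, d.h_sq, mul_one]
    have e2 : d.h * d.k * d.h = W.e (q₀ * bpow (ct q₀ = 1) aQ * (q₂ * q₃)) * A := by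
      rw [hq₀]
      calc d.h * (W.e q₀ * A) * d.h = (d.h * W.e q₀ * d.h⁻¹) * (d.h * A * d.h) := by group
        _ = _ := by
          have hAh : d.h * A * d.h = W.e (q₂ * q₃) * A := by
            calc d.h * A * d.h = (d.h * d.h) * h₂ * (h₃ * d.h) := by rw [hA]; group
              _ = h₂ * W.e q₂ * (d.h * h₃) := by rw [hhD.sq, one_mul, K31]; group
              _ = W.e q₂ * (h₂ * d.h) * h₃ := by rw [hcomW c2h q₂ hq₂]; group
              _ = W.e q₂ * (W.e q₃ * (d.h * h₂)) * h₃ := by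
                  have : h₂ * d.h = W.e q₃ * (d.h * h₂) := by
                    rw [← flip K1 K2 hq₃ s₃]
                    calc h₂ * d.h = h₂ * d.h * h₂ * (d.h * d.h) * h₂ := by
                          rw [hhD.sq, mul_one, mul_assoc _ h₂ h₂, d2.sq, mul_one]
                      _ = _ := by group
                  rw [this]
              _ = _ := by rw [map_mul, hA]; group
          rw [hh₁, hAh, show hActQ false q₀ = q₀ * bpow (ct q₀ = 1) aQ from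
            (show ∀ q : Q, q * xQ = xQ * q → hActQ false q = q * bpow (ct q = 1) aQ by decide +kernel) q₀ hq₀x,
            ← mul_assoc, ← map_mul]
    rw [e1, hq₀, ← mul_assoc, ← map_mul, mul_left_inj, W.e_eq] at e2
    have : aQ * zQ * q₀ = q₀ * (aQ * zQ) := ((show ∀ q : Q, aQ * zQ * q = q * (aQ * zQ) by decide +kernel) q₀)
    rw [this, mul_assoc] at e2
    exact (mul_left_cancel e2).symm
  have eq_k : bpow (ct q₀ = 1) (aQ * zQ) * (q₁ * q₂ * q₃) = 1 := by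
    apply W.e_inj
    rw [← sqA q₀ hq₀x, ← hq₀, d.k_sq, map_one]
  have hq₁a : q₁ = aQ := commutators q₁ hq₁F _ (hv2 ▸ hv3 ▸ eq_b) (hv2 ▸ hv3 ▸ eq_k)
  rw [hq₁a] at hv2 hv3
  rw [show rotOne aQ = xQ by decide +kernel] at hv2
  rw [show rotTwo aQ = xQ * zQ by decide +kernel] at hv3
  -- the classification
  let dd : Fin 4 → G := ![W.e tQ, d.h, h₂, h₃]
  have hddK : ∀ i, KD (dd i) := by intro i; fin_cases i <;> assumption
  have hddt : ∀ i, dd i * W.e tQ * (dd i)⁻¹ = W.e (tQ * trQ i) := by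
    intro i
    fin_cases i
    · show W.e tQ * W.e tQ * (W.e tQ)⁻¹ = W.e (tQ * 1)
      rw [mul_one]; group
    · exact t1
    · exact t2
    · exact t3
  have classify : ∀ v, KD v → ∃ i, ∃ w ∈ w1Q, v = W.e w * dd i := by
    intro v hv
    obtain ⟨⟨hvC, w, hw, ev⟩, hvd⟩ := hv
    have single : ∀ i, trQ i = w → w ≠ 1 → ∃ i, ∃ w ∈ w1Q, v = W.e w * dd i := by
      intro i hi hne
      obtain ⟨p, hp, e⟩ := sameTr ⟨⟨hvC, w, hw, ev⟩, hvd⟩ (hddK i) hw hne ev (hi ▸ hddt i)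
      exact ⟨i, p, hp, e⟩
    -- a product of two of them has no translate in the class
    have pairNo : ∀ {g g' : G} {u u' c : Q}, C1 g → C1 g' → u ∈ w1Q → u' ∈ w1Q →
        g * W.e tQ * g⁻¹ = W.e (tQ * u) → g' * W.e tQ * g'⁻¹ = W.e (tQ * u') → g * g = 1 → g' * g' = 1 →
        g * g' * (g * g') = W.e c → c ∈ w1Q → u * u' = w → c ≠ 1 → u * u' * c ≠ 1 → False := by
      intro g g' u u' c hg hg' hu hu' e e' hg2 hg2' hc hcw huw hc1 hc2
      obtain ⟨h1, h2⟩ := Kmul hvC hg' hw hu' ev e'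
      obtain ⟨h3, h4⟩ := Kmul h1 hg (wmul hw hu') hu h2 e
      rw [← huw, show u * u' * u' * u = 1 by
        rw [mul_assoc u u' u', (w1Q_sub u' hu').1, mul_one, (w1Q_sub u hu).1], mul_one] at h4
      obtain ⟨q, hq, hqx⟩ := Kfix h3 h4
      have hvq : v = W.e q * (g * g') := by
        rw [← hq]
        calc v = v * (g' * (g * g) * g') := by rw [hg2, mul_one, hg2', mul_one]
          _ = v * g' * g * (g * g') := by group
      obtain ⟨u₀, hu₀, h'⟩ := (show ∀ q : Q, q * xQ = xQ * q →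
        ∃ u ∈ w1Q, (ct q = 1 ∧ q = tQ * u ∨ ct q ≠ 1 ∧ q = u) by decide +kernel) q hqx
      obtain ⟨hgg, tgg⟩ := Kmul hg hg' hu hu' e e'
      have hsq := hvd.sq
      rw [hvq, show W.e q * (g * g') * (W.e q * (g * g')) =
        W.e q * (g * g' * W.e q * (g * g')⁻¹) * (g * g' * (g * g')) by group, hc] at hsq
      rcases h' with ⟨-, h⟩ | ⟨-, h⟩ <;> subst h
      · rw [W.conj_mul tgg (hgg u₀ hu₀), ← map_mul, ← map_mul, ← map_one W.e, W.e_eq] at hsq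
        exact hc2 (((show ∀ u ∈ w1Q, ∀ u' ∈ w1Q, ∀ c ∈ w1Q, tQ * u * (tQ * u' * u) * c = u' * c by
          decide +kernel) u₀ hu₀ (u * u') (wmul hu hu') c hcw).symm.trans hsq)
      · rw [hgg q hu₀, ← map_mul, ← map_mul, ← map_one W.e, W.e_eq, hq2 q hqx, one_mul] at hsq
        exact hc1 hsq
    rcases w1Q_gen w hw with rfl | rfl | rfl | rfl | rfl | rfl | rfl | rfl
    · rw [mul_one] at ev
      obtain ⟨q, rfl, hqx⟩ := Kfix hvC ev
      obtain ⟨hqq, hq1⟩ := d.p2.inD_e.mp hvd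
      obtain ⟨u, hu, rfl⟩ := (show ∀ q : Q, q * xQ = xQ * q → ct q = 1 → ∃ u ∈ w1Q, q = u * tQ by decide +kernel)
        q hqx hq1
      exact ⟨0, u, hu, by rw [map_mul]; rfl⟩
    · exact single 1 rfl (by decide +kernel)
    · exact (pairNo c2h c3h (by decide +kernel) (by decide +kernel) t2 t3 d2.sq d3.sq s₁ hq₁
        (by decide +kernel) (by rw [hq₁a]; decide +kernel) (by rw [hq₁a]; decide +kernel)).elim
    · exfalso
      obtain ⟨h1, h2⟩ := Kmul hvC kC hw (by decide +kernel) ev tk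
      rw [show aQ * zQ * (aQ * zQ) = 1 by decide +kernel, mul_one] at h2
      obtain ⟨q, hq, hqx⟩ := Kfix h1 h2
      have hvq : v = W.e q * d.k := by
        rw [← hq]
        calc v = v * (d.k * d.k) := by rw [d.k_sq, mul_one]
          _ = v * d.k * d.k := by group
      have hq0 : ct q = 0 := by
        by_contra hne
        obtain ⟨u, hu, rfl⟩ := (show ∀ q : Q, q * xQ = xQ * q → ct q = 1 → ∃ u ∈ w1Q, q = tQ * u by decide +kernel)
          q hqx ((show ∀ x : ZMod 2, x ≠ 0 → x = 1 by decide) _ hne)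
        have hsq := hvd.sq
        rw [hvq, show W.e (tQ * u) * d.k * (W.e (tQ * u) * d.k) =
          W.e (tQ * u) * (d.k * W.e (tQ * u) * d.k⁻¹) * (d.k * d.k) by group, d.k_sq, mul_one,
          W.conj_mul tk (kC u hu), ← map_mul, ← map_one W.e, W.e_eq] at hsq
        exact (show ∀ u ∈ w1Q, tQ * u * (tQ * (aQ * zQ) * u) ≠ 1 by decide +kernel) u hu hsq
      have hqW := cent_xQ q hqx hq0
      have := (shift ⟨⟨hvC, _, hw, ev⟩, hvd⟩ q hqW).2
      rw [hvq, ← mul_assoc, ← map_mul, (w1Q_sub q hqW).1, map_one, one_mul] at this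
      exact hkD this
    · exact single 2 rfl (by decide +kernel)
    · exact single 3 rfl (by decide +kernel)
    · exact (pairNo c1h c2h (by decide +kernel) (by decide +kernel) t1 t2 hhD.sq d2.sq s₃ hq₃
        (by decide +kernel) (by rw [hv3]; decide +kernel) (by rw [hv3]; decide +kernel)).elim
    · exact (pairNo c3h c1h (by decide +kernel) (by decide +kernel) t3 t1 d3.sq hhD.sq s₂ hq₂
        (by decide +kernel) (by rw [hv2]; decide +kernel) (by rw [hv2]; decide +kernel)).elim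
  have uniq : ∀ {i j : Fin 4} {u u' : Q}, u ∈ w1Q → u' ∈ w1Q → W.e u * dd i = W.e u' * dd j → i = j := by
    intro i j u u' hu hu' e
    have key : ∀ (i : Fin 4) {u : Q}, u ∈ w1Q →
        W.e u * dd i * W.e tQ * (W.e u * dd i)⁻¹ = W.e (tQ * trQ i) := by
      intro i u hu
      rw [show W.e u * dd i * W.e tQ * (W.e u * dd i)⁻¹ = W.e u * (dd i * W.e tQ * (dd i)⁻¹) * (W.e u)⁻¹ by group,
        hddt, ← map_inv, ← map_mul, ← map_mul]
      exact congrArg W.e ((show ∀ i : Fin 4, ∀ u ∈ w1Q, u * (tQ * trQ i) * u⁻¹ = tQ * trQ i by decide +kernel) i u hu)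
    have h1 := key i hu
    rw [e, key j hu', W.e_eq, mul_right_inj] at h1
    exact (show ∀ i j : Fin 4, trQ j = trQ i → i = j by decide +kernel) i j h1
  -- `H`
  let pH : G → Prop := fun g => Norm1 g ∧ ∀ v, KD v → KD (g * v * g⁻¹)
  let H : Subgroup G := finSub pH ⟨fun w hw => ⟨w, hw, by simp⟩, fun v hv => by simpa using hv⟩
    (by
      rintro g g' ⟨hg, hg'⟩ ⟨hk, hk'⟩
      refine ⟨fun w hw => ?_, fun v hv => ?_⟩
      · obtain ⟨w', hw', e⟩ := hk w hw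
        obtain ⟨w'', hw'', e'⟩ := hg w' hw'
        exact ⟨w'', hw'', by rw [← e', ← e]; group⟩
      · have := hg' _ (hk' v hv)
        rwa [show g * g' * v * (g * g')⁻¹ = g * (g' * v * g'⁻¹) * g⁻¹ by group])
  have inH : ∀ {g : G}, Norm1 g → KD (g⁻¹ * W.e tQ * g) → g ∈ H := by
    refine fun {g} hg hu => ⟨hg, fun v hv => ⟨⟨fun w' hw' => ?_, ?_⟩, hv.2.conj g⟩⟩
    · obtain ⟨w, hw, e⟩ := hsurj hg w' hw'
      rw [← e, show g * v * g⁻¹ * (g * W.e w * g⁻¹) * (g * v * g⁻¹)⁻¹ = g * (v * W.e w * v⁻¹) * g⁻¹ by group,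
        hv.1.1 w hw]
    · obtain ⟨q, hq, e⟩ := hcommW hu hv
      obtain ⟨q', hq', e'⟩ := hg q hq
      refine ⟨q', hq', ?_⟩
      rw [show g * v * g⁻¹ * W.e tQ * (g * v * g⁻¹)⁻¹ = g * (v * (g⁻¹ * W.e tQ * g) * v⁻¹) * g⁻¹ by group, e,
        show g * (W.e q * (g⁻¹ * W.e tQ * g)) * g⁻¹ = g * W.e q * g⁻¹ * W.e tQ by group, e', ← map_mul]
      exact congrArg W.e ((show ∀ w ∈ w1Q, w * tQ = tQ * w by decide +kernel) q' hq')
  have hKDH : ∀ {v : G}, KD v → v ∈ H := by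
    intro v hv
    refine inH (fun w hw => ⟨w, hw, hv.1.1 w hw⟩) ?_
    rw [inv_eq_of_mul_eq_one_right hv.2.sq]
    obtain ⟨q, hq, e⟩ := hcommW K0 hv
    have := shift K0 q hq
    rw [← e, inv_eq_of_mul_eq_one_right hv.2.sq] at this
    exact this
  have hρt : W.ρ₁⁻¹ * W.e tQ * W.ρ₁ = W.e tQ := by
    have h1 := W.inv_conj (W.conj_t W.ρ₁_t)
    rwa [inv_inv] at h1
  have hρH : W.ρ₁ ∈ H := inH hρN (by rw [hρt]; exact K0)
  have hyH : W.e yQ ∈ H := inH hyN (by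
    rw [← map_inv, ← map_mul, ← map_mul, show yQ⁻¹ * tQ * yQ = tQ by decide +kernel]
    exact K0)
  have hNS : ∀ r ∈ W.NS, r ∈ H := by
    intro r hr
    have ha := mul_inv_eq_iff_eq_mul.mpr (d.fixes_four hr (f := aQ) (by decide +kernel))
    have hz := mul_inv_eq_iff_eq_mul.mpr (d.fixes_four hr (f := zQ) (by decide +kernel))
    obtain ⟨⟨c, e, q⟩, rfl⟩ := d.μ_surj hr
    refine inH ?_ ?_
    · have hx : d.μ (c, e, q) * W.e xQ * (d.μ (c, e, q))⁻¹ =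
          W.e (q * Par.act ⟨false, true, b⟩ c e xQ * q⁻¹) := by rw [d.node_conj, hP]
      rcases node_x c e q b with k | k <;> rw [k] at hx
      · exact W.conj_w1 ha hz hx (by decide +kernel) (by decide +kernel) (by decide +kernel)
      · exact W.conj_w1 ha hz hx (by decide +kernel) (by decide +kernel) (by decide +kernel)
    · obtain ⟨f, hf, e'⟩ := d.p2.act_t (W.NS.inv_mem hr)
      rw [inv_inv, ← W.e_t] at e'
      rw [e']
      obtain ⟨f₀, hf₀, rfl⟩ := (show ∀ x ∈ orbitQ, ∃ f ∈ fourQ, x = f * tQ by decide +kernel) f hf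
      rw [map_mul]
      exact shift K0 f₀ ((show ∀ f ∈ fourQ, f ∈ w1Q by decide +kernel) f₀ hf₀)
  -- the permutation
  have hidx : ∀ g ∈ H, ∀ i, ∃ j, ∃ w ∈ w1Q, g * dd i * g⁻¹ = W.e w * dd j :=
    fun g hg i => classify _ (hg.2 _ (hddK i))
  choose π wπ hwπ hπ using hidx
  have hπinj : ∀ g (hg : g ∈ H), Function.Injective (π g hg) := by
    intro g hg i j e
    have e1 := hπ g hg i
    rw [e] at e1
    have h1 : g * (dd i * (dd j)⁻¹) * g⁻¹ = W.e (wπ g hg i * (wπ g hg j)⁻¹) := by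
      rw [show g * (dd i * (dd j)⁻¹) * g⁻¹ = g * dd i * g⁻¹ * (g * dd j * g⁻¹)⁻¹ by group, e1, hπ g hg j,
        map_mul, map_inv]
      group
    obtain ⟨w, hw, ew⟩ := hsurj hg.1 _ (wmul (hwπ g hg i)
      ((show ∀ w ∈ w1Q, w⁻¹ ∈ w1Q by decide +kernel) _ (hwπ g hg j)))
    rw [← ew, mul_left_inj, mul_right_inj] at h1
    refine uniq (u := 1) (u' := w) (by decide +kernel) hw ?_
    rw [map_one, one_mul, ← h1]
    group
  let P4 : G → Equiv.Perm (Fin 4) := fun g =>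
    if hg : g ∈ H then Equiv.ofBijective _ (Finite.injective_iff_bijective.mp (hπinj g hg)) else 1
  have P4_eq : ∀ {g : G}, g ∈ H → ∀ {i j : Fin 4} {w : Q}, w ∈ w1Q → g * dd i * g⁻¹ = W.e w * dd j →
      P4 g i = j := by
    intro g hg i j w hw e
    simp only [P4, dif_pos hg, Equiv.ofBijective_apply]
    exact uniq (hwπ g hg i) hw ((hπ g hg i).symm.trans e)
  have P4_spec : ∀ {g : G}, g ∈ H → ∀ i, ∃ w ∈ w1Q, g * dd i * g⁻¹ = W.e w * dd (P4 g i) := by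
    intro g hg i
    refine ⟨_, hwπ g hg i, ?_⟩
    rw [P4_eq hg (hwπ g hg i) (hπ g hg i)]
    exact hπ g hg i
  have P4_mul : ∀ {g g' : G}, g ∈ H → g' ∈ H → P4 (g * g') = P4 g * P4 g' := by
    intro g g' hg hg'
    refine Equiv.ext fun i => ?_
    obtain ⟨w', hw', e'⟩ := P4_spec hg' i
    obtain ⟨w, hw, e⟩ := P4_spec hg (P4 g' i)
    obtain ⟨u, hu, eu⟩ := hg.1 w' hw'
    refine P4_eq (H.mul_mem hg hg') (wmul hu hw) ?_
    rw [show g * g' * dd i * (g * g')⁻¹ = g * (g' * dd i * g'⁻¹) * g⁻¹ by group, e',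
      show g * (W.e w' * dd (P4 g' i)) * g⁻¹ = g * W.e w' * g⁻¹ * (g * dd (P4 g' i) * g⁻¹) by group, eu, e,
      map_mul, mul_assoc]
    rfl
  have P4_one : P4 1 = 1 := by
    have h := P4_mul H.one_mem H.one_mem
    rw [mul_one] at h
    exact mul_eq_left.mp h.symm
  have P4_inv : ∀ {g : G}, g ∈ H → P4 g⁻¹ = (P4 g)⁻¹ := fun {g} hg =>
    eq_inv_of_mul_eq_one_right (by rw [← P4_mul hg (H.inv_mem hg), mul_inv_cancel, P4_one])
  have P4_conj : ∀ {g v : G}, g ∈ H → v ∈ H → P4 (g * v * g⁻¹) = P4 g * P4 v * (P4 g)⁻¹ := fun hg hv => by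
    rw [P4_mul (H.mul_mem hg hv) (H.inv_mem hg), P4_mul hg hv, P4_inv hg]
  have P4_KD : ∀ {v : G}, KD v → P4 v = 1 := by
    intro v hv
    refine Equiv.ext fun i => ?_
    obtain ⟨q, hq, e⟩ := hcommW (hddK i) hv
    exact P4_eq (hKDH hv) hq e
  have P4ρ : P4 W.ρ₁ = Equiv.swap (1 : Fin 4) 3 * Equiv.swap 1 2 := by
    refine Equiv.ext fun i => ?_
    fin_cases i
    · exact P4_eq hρH (w := 1) (by decide +kernel) (by
        show W.ρ₁ * W.e tQ * W.ρ₁⁻¹ = W.e 1 * W.e tQ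
        rw [hone, W.conj_t W.ρ₁_t])
    · exact P4_eq hρH (w := 1) (by decide +kernel) (by
        show W.ρ₁ * d.h * W.ρ₁⁻¹ = W.e 1 * h₂
        rw [hone, hh₂])
    · exact P4_eq hρH (w := 1) (by decide +kernel) (by
        show W.ρ₁ * h₂ * W.ρ₁⁻¹ = W.e 1 * h₃
        rw [hone, hh₃])
    · exact P4_eq hρH hp₄ e₄
  have hyh : W.e yQ * d.h * (W.e yQ)⁻¹ = d.h := by
    have h1 := mul_inv_eq_iff_eq_mul.mp ((hh₁ yQ).trans (congrArg W.e (by decide +kernel : hActQ false yQ = yQ)))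
    rw [← h1]; group
  have P4y : P4 (W.e yQ) = Equiv.swap 2 3 := by
    refine Equiv.ext fun i => ?_
    fin_cases i
    · refine P4_eq hyH (w := 1) (by decide +kernel) ?_
      show W.e yQ * W.e tQ * (W.e yQ)⁻¹ = W.e 1 * W.e tQ
      rw [hone, ← map_inv, ← map_mul, ← map_mul]
      exact congrArg W.e (by decide +kernel)
    · refine P4_eq hyH (w := 1) (by decide +kernel) ?_
      show W.e yQ * d.h * (W.e yQ)⁻¹ = W.e 1 * d.h
      rw [hone, hyh]
    · obtain ⟨Y2, e2⟩ := yconj K2 (by decide +kernel) t2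
      rw [show yQ * xQ * yQ⁻¹ = xQ * zQ by decide +kernel] at e2
      obtain ⟨p, hp, ep⟩ := sameTr Y2 K3 (by decide +kernel) (by decide +kernel) e2 t3
      exact P4_eq hyH hp ep
    · obtain ⟨Y3, e3⟩ := yconj K3 (by decide +kernel) t3
      rw [show yQ * (xQ * zQ) * yQ⁻¹ = xQ by decide +kernel] at e3
      obtain ⟨p, hp, ep⟩ := sameTr Y3 K2 (by decide +kernel) (by decide +kernel) e3 t2
      exact P4_eq hyH hp ep
  -- the element `γ`
  obtain ⟨γ, hγh, hγS, hγP⟩ := W.base.exists_onto hhD (W.NS ⊓ Subgroup.centralizer {d.h})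
    (by rw [(d.class_eq d.h_mem hhD).2.1, W.card_S])
    (fun p hp => Subgroup.mem_centralizer_singleton_iff.mp hp.2)
  have hPnorm : ∀ r ∈ W.NS, ∀ p ∈ W.NS ⊓ Subgroup.centralizer {d.h},
      r * p * r⁻¹ ∈ W.NS ⊓ Subgroup.centralizer {d.h} := by
    intro r hr p hp
    refine ⟨W.NS.mul_mem (W.NS.mul_mem hr hp.1) (W.NS.inv_mem hr), Subgroup.mem_centralizer_singleton_iff.mpr ?_⟩
    obtain ⟨f, hf, e⟩ := d.μ_conj (W.NS.inv_mem hr) d.h_mem
    rw [inv_inv] at e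
    have hpf : p * W.e f = W.e f * p := d.fixes_four hp.1 hf
    have hph := Subgroup.mem_centralizer_singleton_iff.mp hp.2
    calc r * p * r⁻¹ * d.h = r * (p * (r⁻¹ * d.h * r)) * r⁻¹ := by group
      _ = r * ((r⁻¹ * d.h * r) * p) * r⁻¹ := by
          rw [e, ← mul_assoc p, hpf, mul_assoc _ p, hph, mul_assoc (W.e f) d.h p]
      _ = d.h * (r * p * r⁻¹) := by group
  have hγN : ∀ r ∈ W.NS, γ * r * γ⁻¹ ∈ W.NS := fun r hr => W.mem_NS.mpr fun s hs => by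
    have h1 := hγS _ (hPnorm r hr _ (hγP s hs))
    have e : γ * r * γ⁻¹ * s * (γ * r * γ⁻¹)⁻¹ = γ * (r * (γ⁻¹ * s * γ) * r⁻¹) * γ⁻¹ := by group
    rw [e]
    exact h1
  have hγsurj : ∀ r' ∈ W.NS, ∃ r ∈ W.NS, γ * r * γ⁻¹ = r' := by
    intro r' hr'
    obtain ⟨⟨r, hr⟩, e⟩ := Finite.injective_iff_surjective.mp
      (show Function.Injective (fun r : W.NS => (⟨γ * r * γ⁻¹, hγN r r.2⟩ : W.NS)) from
        fun a c e => by simpa using congrArg Subtype.val e) ⟨r', hr'⟩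
    exact ⟨r, hr, congrArg Subtype.val e⟩
  have hinP : ∀ q : Q, hActQ false q = q → W.e q ∈ W.NS ⊓ Subgroup.centralizer {d.h} := by
    intro q hq
    refine ⟨W.e_mem_NS q, Subgroup.mem_centralizer_singleton_iff.mpr ?_⟩
    exact (mul_inv_eq_iff_eq_mul.mp ((hh₁ q).trans (congrArg W.e hq))).symm
  have imgP : ∀ q : Q, hActQ false q = q → ∃ p, γ * W.e q * γ⁻¹ = W.e p := fun q hq => by
    obtain ⟨p, hp⟩ := (W.e_range _).mp (hγS _ (hinP q hq))
    exact ⟨p, hp.symm⟩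
  have img_facts : ∀ {q p : Q}, γ * W.e q * γ⁻¹ = W.e p → q * q = 1 → ct q = 0 → p * p = 1 ∧ ct p = 0 := by
    intro q p e hq hq0
    have hp2 : p * p = 1 := W.e_inj (by
      rw [map_mul, ← e, show γ * W.e q * γ⁻¹ * (γ * W.e q * γ⁻¹) = γ * (W.e q * W.e q) * γ⁻¹ by group,
        ← map_mul, hq, map_one]
      group)
    refine ⟨hp2, ?_⟩
    by_contra hne
    have hD : W.base.InD (W.e p) := d.p2.inD_e.mpr ⟨hp2, (show ∀ x : ZMod 2, x ≠ 0 → x = 1 by decide) _ hne⟩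
    rw [← e, Base.inD_conj_iff, d.p2.inD_e, hq0] at hD
    exact absurd hD.2 (by decide)
  obtain ⟨pz, ez⟩ := imgP zQ (by decide +kernel)
  obtain ⟨px, ex⟩ := imgP xQ (by decide +kernel)
  obtain ⟨py, ey⟩ := imgP yQ (by decide +kernel)
  obtain ⟨pa, ea⟩ := imgP aQ (by decide +kernel)
  have hxy : px * py ≠ py * px := by
    intro k
    have e1 := W.conj_mul ex ey
    have e2 := W.conj_mul ey ex
    rw [← k, ← e1, mul_left_inj, mul_right_inj, W.e_eq] at e2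
    exact absurd e2 (by decide +kernel)
  have hz' : pz = zQ := by
    have e1 := W.conj_mul (W.conj_mul ex ey) (W.conj_mul ex ey)
    rw [show xQ * yQ * (xQ * yQ) = zQ by decide +kernel, ez, W.e_eq] at e1
    obtain ⟨h1, -⟩ := img_facts ex (by decide +kernel) (by decide +kernel)
    obtain ⟨h2, -⟩ := img_facts ey (by decide +kernel) (by decide +kernel)
    rw [e1]
    exact (show ∀ p q : Q, p * p = 1 → q * q = 1 → p * q ≠ q * p → p * q * (p * q) = zQ by decide +kernel)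
      px py h1 h2 hxy
  have ha' : pa ∈ w1Q := by
    obtain ⟨h1, h0⟩ := img_facts ea (by decide +kernel) (by decide +kernel)
    have hc : Cen pa := fun p => W.e_inj (by
      have h3 := d.fixes_four (hγP (W.e p) (W.mem_S p)).1 (f := aQ) (by decide +kernel)
      rw [map_mul, map_mul, ← ea]
      calc W.e p * (γ * W.e aQ * γ⁻¹) = γ * (γ⁻¹ * W.e p * γ * W.e aQ) * γ⁻¹ := by group
        _ = γ * (W.e aQ * (γ⁻¹ * W.e p * γ)) * γ⁻¹ := by rw [h3]
        _ = _ := by group)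
    exact (show ∀ q : Q, Cen q → ct q = 0 → q ∈ w1Q by decide +kernel) pa hc h0
  obtain ⟨hx', hy'⟩ : px ∈ w1Q ∧ ∀ p : Q, p * p = 1 → ct p = 0 → p * px ≠ px * p →
      ∃ f ∈ fourQ, p * tQ = f * (tQ * yQ) := by
    obtain ⟨h1, h0⟩ := img_facts ex (by decide +kernel) (by decide +kernel)
    obtain ⟨r, hr, hrk⟩ := hγsurj d.k d.k_mem
    have hrx : r * W.e xQ * r⁻¹ = W.e xQ ∨ r * W.e xQ * r⁻¹ = W.e (xQ * zQ) := by
      obtain ⟨⟨c, e, q⟩, rfl⟩ := d.μ_surj hr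
      rw [d.node_conj, hP]
      exact (node_x c e q b).imp (congrArg W.e) (congrArg W.e)
    refine x_image px h1 (fun hc => hxy ((hc py).symm)) h0 ?_
    have e : W.e (kActQ true px) = γ * (r * W.e xQ * r⁻¹) * γ⁻¹ := by
      rw [← hk₁, ← hrk, ← ex]; group
    rcases hrx with k | k <;> rw [k] at e
    · exact Or.inl (W.e_inj (e.trans ex))
    · exact Or.inr (W.e_inj (e.trans (by rw [W.conj_mul ex ez, hz'])))
  have hγH : γ ∈ H := inH (W.conj_w1 ea (hz' ▸ ez) ex ha' (by decide +kernel) hx') (by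
    rw [W.e_t, show γ⁻¹ * W.base.t * γ = d.h by rw [← hγh]; group]
    exact K1)
  have P4γ : P4 γ 1 = 0 := P4_eq hγH (w := 1) (by decide +kernel) (by
    show γ * d.h * γ⁻¹ = W.e 1 * W.e tQ
    rw [hone, W.e_t, hγh])
  -- the four classes in `N(S)`
  obtain ⟨vn, hvn⟩ := List.length_eq_one_iff.mp hn1
  have hvn' : vn ∈ d.Dl ∧ vn.1 = true ∧ vn.2.1 = true ∧ cy vn.2.2 = 1 := by
    have : vn ∈ d.Dl.filter fun v => v.1 && v.2.1 && decide (cy v.2.2 = 1) := by rw [hvn]; simp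
    simpa [and_assoc] using List.mem_filter.mp this
  have hyDl : ((true, false, yQ) : Node) ∈ d.Dl ∧ ((false, true, tQ * yQ) : Node) ∈ d.Dl := by
    constructor
    · have h1 := of_decide_eq_true hhy
      rw [show rpN (true, false, yQ) = (true, false, yQ) by decide +kernel] at h1
      exact (List.mem_append.mp h1).resolve_left (by decide +kernel)
    · have h1 := of_decide_eq_true hky
      rw [show rpN (false, true, tQ * yQ) = (false, true, tQ * yQ) by decide +kernel] at h1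
      exact (List.mem_append.mp h1).resolve_left (by decide +kernel)
  let R : Bool → Bool → Node := fun c e =>
    if c then (if e then vn else (true, false, yQ)) else (if e then (false, true, tQ * yQ) else (false, false, tQ * yQ))
  have hR : ∀ w ∈ baseD ++ d.Dl, cy w.2.2 = 1 → w = R w.1 w.2.1 := by
    intro w hw hc
    rcases List.mem_append.mp hw with hw | hw
    · rw [(show ∀ w ∈ baseD, cy w.2.2 = 1 → w = (false, false, tQ * yQ) by decide +kernel) w hw hc]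
      rfl
    · obtain ⟨l, hl'⟩ : ∃ l, l = d.Dl.filter fun v => decide (cy v.2.2 = 1) := ⟨_, rfl⟩
      have hsub : ({(true, false, yQ), (false, true, tQ * yQ), vn} : Finset Node) ⊆ l.toFinset := by
        intro v hv
        simp only [Finset.mem_insert, Finset.mem_singleton] at hv
        rw [List.mem_toFinset, hl', List.mem_filter]
        rcases hv with rfl | rfl | rfl
        · exact ⟨hyDl.1, by decide +kernel⟩
        · exact ⟨hyDl.2, by decide +kernel⟩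
        · exact ⟨hvn'.1, decide_eq_true hvn'.2.2.2⟩
      have h3 : ({(true, false, yQ), (false, true, tQ * yQ), vn} : Finset Node).card = 3 := by
        rw [Finset.card_insert_of_notMem, Finset.card_insert_of_notMem, Finset.card_singleton]
        · simp only [Finset.mem_singleton]
          intro e
          have h' := hvn'.2.1
          rw [← e] at h'
          exact absurd h' (by decide)
        · simp only [Finset.mem_insert, Finset.mem_singleton, not_or]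
          refine ⟨by decide +kernel, fun e => ?_⟩
          have h' := hvn'.2.2.1
          rw [← e] at h'
          exact absurd h' (by decide)
      have heq := Finset.eq_of_subset_of_card_le hsub
        ((List.toFinset_card_le l).trans (by rw [h3, hl', hcount]))
      have hwl : w ∈ l.toFinset := by
        rw [List.mem_toFinset, hl']
        exact List.mem_filter.mpr ⟨hw, decide_eq_true hc⟩
      rw [← heq] at hwl
      simp only [Finset.mem_insert, Finset.mem_singleton] at hwl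
      rcases hwl with rfl | rfl | rfl
      · rfl
      · rfl
      · simp [R, hvn'.2.1, hvn'.2.2.1]
  have hRall : ∀ c e, R c e ∈ baseD ++ d.Dl := by
    intro c e
    cases c <;> cases e
    · exact List.mem_append_left _ (by simp [R, baseD])
    · exact List.mem_append_right _ hyDl.2
    · exact List.mem_append_right _ hyDl.1
    · exact List.mem_append_right _ hvn'.1
  have hRD : ∀ c e, W.base.InD (d.μ (R c e)) := fun c e => d.inD_of_mem (hRall c e)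
  have toRep : ∀ {v : Node}, W.base.InD (d.μ v) →
      ∃ x ∈ W.NS, x * d.μ v * x⁻¹ = d.μ (rpN v) := by
    intro v hd
    obtain ⟨f, hf, e⟩ := d.μ_rp v
    obtain ⟨x, hx, hxe⟩ := (d.class_eq (d.μ_mem _) ((d.inD_rp v).mp hd)).2.2 f hf
    refine ⟨x⁻¹, W.NS.inv_mem hx, ?_⟩
    rw [e, ← hxe]
    group
  have land : ∀ {v : G}, v ∈ H → W.base.InD v → P4 v = Equiv.swap 2 3 →
      ∃ c e, (∃ q, v * W.e tQ * v⁻¹ = W.e (q * Par.act ⟨false, true, b⟩ c e tQ * q⁻¹)) ∧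
        ∃ x ∈ W.NS, x * v * x⁻¹ = d.μ (R c e) := by
    intro v hvH hvd hπv
    obtain ⟨w₀, hw₀, e₀⟩ := P4_spec hvH 0
    rw [hπv, show (Equiv.swap (2 : Fin 4) 3) 0 = 0 by decide] at e₀
    have vt : v * W.e tQ * v⁻¹ = W.e (tQ * w₀) := by
      rw [(show ∀ w ∈ w1Q, tQ * w = w * tQ by decide +kernel) w₀ hw₀, map_mul]
      exact e₀
    have lin : ∀ i, v * W.e (trQ i) * v⁻¹ = W.e (trQ (P4 v i)) := by
      intro i
      obtain ⟨w, hw, e⟩ := P4_spec hvH i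
      have e1 : v * W.e (tQ * trQ i) * v⁻¹ = W.e (tQ * (trQ (P4 v i) * w₀)) := by
        rw [← hddt i, show v * (dd i * W.e tQ * (dd i)⁻¹) * v⁻¹ =
          v * dd i * v⁻¹ * (v * W.e tQ * v⁻¹) * (v * dd i * v⁻¹)⁻¹ by group, e, vt,
          show W.e w * dd (P4 v i) * W.e (tQ * w₀) * (W.e w * dd (P4 v i))⁻¹ =
            W.e w * (dd (P4 v i) * W.e (tQ * w₀) * (dd (P4 v i))⁻¹) * (W.e w)⁻¹ by group,
          W.conj_mul (hddt _) ((hddK _).1.1 w₀ hw₀), ← map_inv, ← map_mul, ← map_mul]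
        exact congrArg W.e ((show ∀ w ∈ w1Q, ∀ w₀ ∈ w1Q, ∀ i : Fin 4,
          w * (tQ * trQ i * w₀) * w⁻¹ = tQ * (trQ i * w₀) by decide +kernel) w hw w₀ hw₀ _)
      have e2 := W.conj_mul vt e1
      rw [show tQ * (tQ * trQ i) = trQ i by
        rw [← mul_assoc, show tQ * tQ = (1 : Q) by decide +kernel, one_mul]] at e2
      rw [e2]
      exact congrArg W.e ((show ∀ w ∈ w1Q, ∀ j : Fin 4, tQ * w * (tQ * (trQ j * w)) = trQ j by decide +kernel)
        w₀ hw₀ _)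
    have va : v * W.e aQ * v⁻¹ = W.e aQ := (lin 1).trans (congrArg W.e (by rw [hπv]; decide +kernel))
    have vx : v * W.e xQ * v⁻¹ = W.e (xQ * zQ) := (lin 2).trans (congrArg W.e (by rw [hπv]; decide +kernel))
    have vxz : v * W.e (xQ * zQ) * v⁻¹ = W.e xQ := (lin 3).trans (congrArg W.e (by rw [hπv]; decide +kernel))
    have vz : v * W.e zQ * v⁻¹ = W.e zQ := by
      have h1 := W.conj_mul vx vxz
      rwa [show xQ * (xQ * zQ) = zQ by decide +kernel, show xQ * zQ * xQ = zQ by decide +kernel] at h1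
    have vw : v * W.e w₀ * v⁻¹ = W.e (ext tQ aQ (xQ * zQ) yQ w₀) := by
      rcases w1Q_gen w₀ hw₀ with rfl | rfl | rfl | rfl | rfl | rfl | rfl | rfl
      · rw [show ext tQ aQ (xQ * zQ) yQ 1 = 1 by decide +kernel, map_one]; group
      · exact va.trans (congrArg W.e (by decide +kernel))
      · exact vz.trans (congrArg W.e (by decide +kernel))
      · exact (W.conj_mul va vz).trans (congrArg W.e (by decide +kernel))
      · exact vx.trans (congrArg W.e (by decide +kernel))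
      · exact (W.conj_mul vx vz).trans (congrArg W.e (by decide +kernel))
      · exact (W.conj_mul vx va).trans (congrArg W.e (by decide +kernel))
      · exact (W.conj_mul (W.conj_mul vx va) vz).trans (congrArg W.e (by decide +kernel))
    have hwF : w₀ ∈ fourQ := by
      refine w1_move_fixed w₀ hw₀ ?_
      have h1 : v * (v * W.e tQ * v⁻¹) * v⁻¹ = W.e tQ := by
        calc v * (v * W.e tQ * v⁻¹) * v⁻¹ = v * v * W.e tQ * (v * v)⁻¹ := by group
          _ = W.e tQ := by rw [hvd.sq]; group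
      rw [vt, W.conj_mul vt vw, W.e_eq, mul_assoc] at h1
      rw [eq_inv_of_mul_eq_one_right (mul_eq_left.mp h1), inv_eq_of_mul_eq_one_right (w1Q_sub w₀ hw₀).1]
    have hvN : v ∈ W.NS := d.mem_NS_of_x hwF va vz (Or.inr vx) (by rw [← W.e_t]; exact vt) fun r hr => by
      obtain ⟨⟨c, e, q⟩, rfl⟩ := d.μ_surj hr
      rw [d.node_conj, hP]
      exact (node_x c e q b).imp (congrArg W.e) (congrArg W.e)
    obtain ⟨⟨c, e, q⟩, rfl⟩ := d.μ_surj hvN
    refine ⟨c, e, ⟨q, by rw [d.node_conj, hP]⟩, ?_⟩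
    have hcy : cy q = 1 := by
      refine node_cy c e q b ?_
      rw [d.node_conj, hP, W.e_eq] at vx
      exact vx
    have hrp : rpN (c, e, q) = R c e := by
      refine hR _ (of_decide_eq_true ((d.memD_iff _).mpr hvd)) ?_
      show cy (rp8 q) = 1
      rw [(show ∀ q : Q, cy (rp8 q) = cy q by decide +kernel) q, hcy]
    rw [← hrp]
    exact toRep hvd
  -- fusion
  have hswap : P4 (W.e (tQ * yQ)) = Equiv.swap 2 3 := by
    rw [map_mul, P4_mul (hKDH K0) hyH, P4_KD K0, one_mul, P4y]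
  have hμty : d.μ (R false false) = W.e (tQ * yQ) := d.μ_e _
  have hμhy : d.μ (R true false) = W.e yQ * d.h := by simp [R, μ, gpow]
  have hswap' : P4 (W.e yQ * d.h) = Equiv.swap 2 3 := by
    rw [P4_mul hyH (hKDH K1), P4_KD K1, mul_one, P4y]
  have hswap2 : ∀ {v : G}, v ∈ H → P4 v = Equiv.swap 2 3 → P4 (h₂ * v * h₂⁻¹) = Equiv.swap 2 3 :=
    fun hv e => by rw [P4_conj (hKDH K2) hv, P4_KD K2, e, one_mul, inv_one, mul_one]
  have h2t : h₂⁻¹ * W.e tQ * h₂ = W.e (tQ * xQ) := by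
    rw [inv_eq_of_mul_eq_one_right d2.sq]
    have := t2
    rwa [inv_eq_of_mul_eq_one_right d2.sq] at this
  have fuse2 : ∃ g ∈ H, g * d.μ (R false false) * g⁻¹ = d.μ (R true true) := by
    have hty : W.base.InD (W.e (tQ * yQ)) := hμty ▸ hRD _ _
    have htyH : W.e (tQ * yQ) ∈ H := hNS _ (W.e_mem_NS _)
    obtain ⟨c, e, ⟨q, ht⟩, x, hx, hxe⟩ := land (H.mul_mem (H.mul_mem (hKDH K2) htyH) (H.inv_mem (hKDH K2)))
      (hty.conj h₂) (hswap2 htyH hswap)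
    have e' : h₂ * W.e (tQ * yQ) * h₂⁻¹ * W.e tQ * (h₂ * W.e (tQ * yQ) * h₂⁻¹)⁻¹ = W.e (tQ * zQ) := by
      rw [show h₂ * W.e (tQ * yQ) * h₂⁻¹ * W.e tQ * (h₂ * W.e (tQ * yQ) * h₂⁻¹)⁻¹ =
        h₂ * (W.e (tQ * yQ) * (h₂⁻¹ * W.e tQ * h₂) * (W.e (tQ * yQ))⁻¹) * h₂⁻¹ by group, h2t,
        ← map_inv, ← map_mul, ← map_mul, show tQ * yQ * (tQ * xQ) * (tQ * yQ)⁻¹ = tQ * (xQ * zQ) by decide +kernel,
        W.conj_mul t2 (c2h _ (by decide +kernel))]
      exact congrArg W.e (by decide +kernel)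
    rw [e', W.e_eq] at ht
    obtain ⟨rfl, rfl⟩ := node_t c e true true q 1 b (ht.symm.trans
      ((show ∀ b : Q, tQ * zQ = 1 * Par.act ⟨false, true, b⟩ true true tQ * 1⁻¹ from fun b => by
        exact (show tQ * zQ = 1 * Par.act ⟨false, true, 1⟩ true true tQ * 1⁻¹ by decide +kernel)) b))
    exact ⟨x * h₂, H.mul_mem (hNS x hx) (hKDH K2), by rw [hμty, ← hxe]; group⟩
  have fuse1 : ∃ g ∈ H, g * d.μ (R true false) * g⁻¹ = d.μ (R false true) := by
    have hhy' : W.base.InD (W.e yQ * d.h) := hμhy ▸ hRD _ _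
    have hhyH : W.e yQ * d.h ∈ H := H.mul_mem hyH (hKDH K1)
    obtain ⟨c, e, ⟨q, ht⟩, x, hx, hxe⟩ := land (H.mul_mem (H.mul_mem (hKDH K2) hhyH) (H.inv_mem (hKDH K2)))
      (hhy'.conj h₂) (hswap2 hhyH hswap')
    have e' : h₂ * (W.e yQ * d.h) * h₂⁻¹ * W.e tQ * (h₂ * (W.e yQ * d.h) * h₂⁻¹)⁻¹ =
        W.e (tQ * (aQ * zQ)) := by
      rw [show h₂ * (W.e yQ * d.h) * h₂⁻¹ * W.e tQ * (h₂ * (W.e yQ * d.h) * h₂⁻¹)⁻¹ =
        h₂ * (W.e yQ * (d.h * (h₂⁻¹ * W.e tQ * h₂) * d.h⁻¹) * (W.e yQ)⁻¹) * h₂⁻¹ by group, h2t, hh₁,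
        ← map_inv, ← map_mul, ← map_mul,
        show yQ * hActQ false (tQ * xQ) * yQ⁻¹ = tQ * (xQ * aQ * zQ) by decide +kernel,
        W.conj_mul t2 (c2h _ (by decide +kernel))]
      exact congrArg W.e (by decide +kernel)
    rw [e', W.e_eq] at ht
    obtain ⟨rfl, rfl⟩ := node_t c e false true q 1 b (ht.symm.trans
      ((show ∀ b : Q, tQ * (aQ * zQ) = 1 * Par.act ⟨false, true, b⟩ false true tQ * 1⁻¹ from fun b => by
        exact (show tQ * (aQ * zQ) = 1 * Par.act ⟨false, true, 1⟩ false true tQ * 1⁻¹ by decide +kernel)) b))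
    exact ⟨x * h₂, H.mul_mem (hNS x hx) (hKDH K2), by rw [hμhy, ← hxe]; group⟩
  have fuse0 : ∃ g ∈ H, g * d.μ (R true false) * g⁻¹ = d.μ (R false false) := by
    obtain ⟨h1, h0⟩ := img_facts ey (by decide +kernel) (by decide +kernel)
    obtain ⟨f, hf, hpf⟩ := hy' py h1 h0 (fun k => hxy k.symm)
    have hty : W.base.InD (W.e (tQ * yQ)) := hμty ▸ hRD _ _
    obtain ⟨x, hx, hxe⟩ := (d.class_eq (W.e_mem_NS _) hty).2.2 f hf
    refine ⟨x⁻¹ * γ, H.mul_mem (H.inv_mem (hNS x hx)) hγH, ?_⟩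
    rw [hμhy, hμty, show x⁻¹ * γ * (W.e yQ * d.h) * (x⁻¹ * γ)⁻¹ =
      x⁻¹ * ((γ * W.e yQ * γ⁻¹) * (γ * d.h * γ⁻¹)) * x by group, ey, hγh, ← W.e_t, ← map_mul, hpf, map_mul, ← hxe]
    group
  have fused : ∀ c e, ∃ g ∈ H, g * d.μ (R c e) * g⁻¹ = d.μ (R false false) := by
    obtain ⟨g0, hg0, e0⟩ := fuse0
    obtain ⟨g1, hg1, e1⟩ := fuse1
    obtain ⟨g2, hg2, e2⟩ := fuse2
    intro c e
    cases c <;> cases e
    · exact ⟨1, H.one_mem, by group⟩
    · exact ⟨g0 * g1⁻¹, H.mul_mem hg0 (H.inv_mem hg1), by rw [← e1, ← e0]; group⟩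
    · exact ⟨g0, hg0, e0⟩
    · exact ⟨g2⁻¹, H.inv_mem hg2, by rw [← e2]; group⟩
  let f : G → ZMod 2 := fun g => if Equiv.Perm.sign (P4 g) = 1 then 0 else 1
  have fhom : ∀ g ∈ H, ∀ g' ∈ H, f (g * g') = f g + f g' := by
    intro g hg g' hg'
    simp only [f, P4_mul hg hg', map_mul]
    rcases Int.units_eq_one_or (Equiv.Perm.sign (P4 g)) with e | e <;>
      rcases Int.units_eq_one_or (Equiv.Perm.sign (P4 g')) with e' | e' <;> simp [e, e'] <;> decide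
  refine W.index_two_of_class H f fhom (v₀ := d.μ (R false false)) ?_ ?_ ?_
  · exact ⟨hNS _ (d.μ_mem _), hRD _ _, W.NS ⊓ Subgroup.centralizer {d.μ (R false false)},
      fun g hg => hNS g hg.1,
      by rw [(d.class_eq (d.μ_mem _) (hRD false false)).2.1, W.card_S],
      fun g hg => Subgroup.mem_centralizer_singleton_iff.mp hg.2⟩
  · rw [hμty]
    simp only [f, hswap, Equiv.Perm.sign_swap (show (2 : Fin 4) ≠ 3 by decide)]
    decide
  · intro v hv hfv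
    obtain ⟨hvH, hvd, -⟩ := hv
    have hodd : Equiv.Perm.sign (P4 v) ≠ 1 := fun e => by
      simp only [f, e, if_true] at hfv
      exact absurd hfv (by decide)
    have hinv : P4 v * P4 v = 1 := by rw [← P4_mul hvH hvH, hvd.sq, P4_one]
    obtain ⟨m, n, e, hc⟩ := perm_conj (P4 γ) (P4 v) P4γ hinv hodd
    have hpow : ∀ j : ℕ, P4 (W.ρ₁ ^ j) = P4 W.ρ₁ ^ j := by
      intro j
      induction j with
      | zero => simpa using P4_one
      | succ j ih => rw [pow_succ, pow_succ, P4_mul (H.pow_mem hρH j) hρH, ih]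
    obtain ⟨r, hr, hP4r⟩ : ∃ r ∈ H, P4 r = (Equiv.swap (1 : Fin 4) 3 * Equiv.swap 1 2) ^ (m : ℕ) *
        (if e then P4 γ * (Equiv.swap (1 : Fin 4) 3 * Equiv.swap 1 2) ^ (n : ℕ) else 1) := by
      have hγρ := H.mul_mem hγH (H.pow_mem hρH (n : ℕ))
      cases e
      · exact ⟨W.ρ₁ ^ (m : ℕ), H.pow_mem hρH _, by simp [hpow, P4ρ]⟩
      · refine ⟨W.ρ₁ ^ (m : ℕ) * (γ * W.ρ₁ ^ (n : ℕ)), H.mul_mem (H.pow_mem hρH _) hγρ, ?_⟩
        rw [P4_mul (H.pow_mem hρH _) hγρ, P4_mul hγH (H.pow_mem hρH _), hpow, hpow, P4ρ]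
        simp
    obtain ⟨c', e', -, x, hx, hxe⟩ := land (H.mul_mem (H.mul_mem hr hvH) (H.inv_mem hr)) (hvd.conj r)
      (by rw [P4_conj hr hvH, hP4r]; exact hc)
    obtain ⟨g, hg, hge⟩ := fused c' e'
    refine ⟨g * (x * r), H.mul_mem hg (H.mul_mem (hNS x hx) hr), ?_⟩
    rw [← hge, ← hxe]
    group

end Setup

end Cfsg.Agent.SixCentralizer
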