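/-
The shape `(1,1)`: transfer to a group preserving a colouring of `t⟨a, z, y⟩`.

* `FourData.shapeB_index_two`
-/
import Cfsg.Agent.Lib.SixCentralizer.EdgeBase
import Cfsg.Agent.EqLemmas

set_option autoImplicit false
set_option maxRecDepth 100000
set_option synthInstance.maxSize 4000
set_option linter.style.haveILetI false

namespace Cfsg.Agent.SixCentralizer

/-- The colour of a point of `t⟨a, z, y⟩`. -/
def colQ (q : Q) : ZMod 2 :=
  if q ∈ ({tQ, tQ * (aQ * zQ), tQ * (yQ * aQ), tQ * (yQ * aQ * zQ)} : Finset Q) then 0 else 1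

/-- The `z`-exponent in `⟨a, z, y⟩`. -/
def czQ (u : Q) : ℕ := if u ∈ ({zQ, aQ * zQ, yQ * zQ, yQ * aQ * zQ} : Finset Q) then 1 else 0

/-- The word in `A, Z, Y` that `u` is in the generators of `⟨a, z, y⟩`. -/
def L2 {M : Type*} [Monoid M] (A Z Y : M) (u : Q) : M :=
  A ^ (ca u).val * Y ^ (cy u).val * Z ^ (czQ u)

theorem L2_self : ∀ u ∈ w2Q, L2 aQ zQ yQ u = u := by decide +kernel

theorem map_L2 {M N : Type*} [Monoid M] [Monoid N] (F : M →* N) (A Z Y : M) (u : Q) :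
    F (L2 A Z Y u) = L2 (F A) (F Z) (F Y) u := by
  simp only [L2, map_mul, map_pow]

/-- The translation and linear part preserve the colouring up to a shift. -/
def ValidQ (w Z Y : Q) : Prop :=
  ∀ u ∈ w2Q, L2 aQ Z Y u ∈ w2Q ∧ colQ (tQ * (w * L2 aQ Z Y u)) = colQ (tQ * u) + colQ (tQ * w)

instance (w Z Y : Q) : Decidable (ValidQ w Z Y) := by unfold ValidQ; infer_instance

/-- An involutive affine map. -/
def InvolQ (w Z Y : Q) : Prop := L2 aQ Z Y w = w ∧ ∀ u ∈ w2Q, L2 aQ Z Y (L2 aQ Z Y u) = u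

instance (w Z Y : Q) : Decidable (InvolQ w Z Y) := by unfold InvolQ; infer_instance

theorem valid_fixed : ∀ w ∈ w2Q, ∀ Z ∈ w2Q, ∀ Y ∈ w2Q, ValidQ w Z Y → InvolQ w Z Y →
    ∃ e ∈ [zQ, yQ, yQ * zQ], L2 aQ Z Y e = e ∧ w ∈ ({1, aQ, e, aQ * e} : Finset Q) := by
  decide +kernel

theorem valid_one : ∀ Y ∈ w2Q, ValidQ 1 zQ Y → Y = yQ ∨ Y = yQ * zQ := by decide +kernel

theorem valid_rho : ValidQ 1 yQ (yQ * zQ) ∧ ValidQ (aQ * yQ * zQ) (aQ * zQ) (yQ * zQ) := by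
  decide +kernel

theorem edgeTwo_node : ∀ b : Q, ∀ c e : Bool, ∀ q : Q,
    (∀ u ∈ w2Q, ∃ u' ∈ w2Q, q * Par.act ⟨true, true, b⟩ c e (tQ * u) * q⁻¹ = tQ * u' ∧
      colQ (tQ * u') = colQ (tQ * u) + (if c then 1 else 0)) ∧
    ∃ u' ∈ w2Q, q * Par.act ⟨true, true, b⟩ c e (tQ * (aQ * yQ)) * q⁻¹ = tQ * u' ∧
      tQ * (aQ * yQ * zQ) * L2 aQ (aQ * zQ) (yQ * zQ) u' ∈ orbitQ := by
  intro b
  exact (show ∀ c e : Bool, ∀ q : Q,
    (∀ u ∈ w2Q, ∃ u' ∈ w2Q, q * Par.act ⟨true, true, 1⟩ c e (tQ * u) * q⁻¹ = tQ * u' ∧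
      colQ (tQ * u') = colQ (tQ * u) + (if c then 1 else 0)) ∧
    ∃ u' ∈ w2Q, q * Par.act ⟨true, true, 1⟩ c e (tQ * (aQ * yQ)) * q⁻¹ = tQ * u' ∧
      tQ * (aQ * yQ * zQ) * L2 aQ (aQ * zQ) (yQ * zQ) u' ∈ orbitQ by decide +kernel)

universe u

variable {G : Type u} [Group G]

namespace Setup

variable {W : Setup G}

theorem conj_L2 {g : G} {T Z Y : Q} (ha : g * W.e aQ * g⁻¹ = W.e aQ) (hT : g * W.e tQ * g⁻¹ = W.e T)
    (hZ : g * W.e zQ * g⁻¹ = W.e Z) (hY : g * W.e yQ * g⁻¹ = W.e Y) {u : Q} (hu : u ∈ w2Q) :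
    g * W.e u * g⁻¹ = W.e (L2 aQ Z Y u) ∧ g * W.e (tQ * u) * g⁻¹ = W.e (T * L2 aQ Z Y u) := by
  have h1 : g * W.e u * g⁻¹ = W.e (L2 aQ Z Y u) := by
    have h := map_L2 ((MulAut.conj g).toMonoidHom.comp W.e) aQ zQ yQ u
    rw [L2_self u hu] at h
    simp only [MonoidHom.coe_comp, Function.comp_apply, MulEquiv.coe_toMonoidHom, MulAut.conj_apply] at h
    rw [h, map_L2, ha, hZ, hY]
  exact ⟨h1, W.conj_mul hT h1⟩

set_option maxHeartbeats 1000000 in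
theorem FourData.shapeB_index_two [Finite G] (d : W.FourData) (hs : shapeB d.P d.Dl = true) :
    ∃ K : Subgroup G, K.index = 2 := by
  classical
  simp only [shapeB, Bool.and_eq_true, Bool.not_eq_true', beq_iff_eq] at hs
  obtain ⟨⟨⟨⟨⟨hl, hm⟩, -⟩, -⟩, hz1⟩, ha1⟩ := hs
  obtain ⟨b, hP⟩ : ∃ b, d.P = ⟨true, true, b⟩ := by
    obtain ⟨⟨l, m, b⟩, hP⟩ : ∃ P, P = d.P := ⟨_, rfl⟩
    rw [← hP] at hl hm
    subst hl hm
    exact ⟨b, hP.symm⟩
  let p : G → Prop := fun g => g * W.e aQ * g⁻¹ = W.e aQ ∧ ∃ c : ZMod 2,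
    ∀ u ∈ w2Q, ∃ u' ∈ w2Q, g * W.e (tQ * u) * g⁻¹ = W.e (tQ * u') ∧
      colQ (tQ * u') = colQ (tQ * u) + c
  let f : G → ZMod 2 := fun g =>
    if g * W.base.t * g⁻¹ ∈ ({tQ, tQ * (aQ * zQ), tQ * (yQ * aQ), tQ * (yQ * aQ * zQ)} : Finset Q).image W.e
    then 0 else 1
  have fval : ∀ {g : G} {q : Q}, g * W.e tQ * g⁻¹ = W.e q → f g = colQ q := by
    intro g q e
    show (if _ then _ else _) = _
    rw [← W.e_t, e, colQ]
    simp only [Finset.mem_image, W.e_eq, exists_eq_right]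
  have fc : ∀ {g : G} {c : ZMod 2}, (∀ u ∈ w2Q, ∃ u' ∈ w2Q, g * W.e (tQ * u) * g⁻¹ = W.e (tQ * u') ∧
      colQ (tQ * u') = colQ (tQ * u) + c) → f g = c := by
    intro g c h
    obtain ⟨u', -, e, hc⟩ := h 1 (by decide +kernel)
    rw [mul_one] at e
    rw [fval e, hc, show colQ (tQ * 1) = 0 by decide +kernel, zero_add]
  have hmul : ∀ g k, p g → p k → p (g * k) ∧ f (g * k) = f g + f k := by
    rintro g k ⟨ga, c, gc⟩ ⟨ka, c', kc⟩
    have hcomp : ∀ q, g * k * W.e q * (g * k)⁻¹ = g * (k * W.e q * k⁻¹) * g⁻¹ := fun q => by group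
    have key : ∀ u ∈ w2Q, ∃ u' ∈ w2Q, g * k * W.e (tQ * u) * (g * k)⁻¹ = W.e (tQ * u') ∧
        colQ (tQ * u') = colQ (tQ * u) + (c + c') := by
      intro u hu
      obtain ⟨u₁, hu₁, e₁, h₁⟩ := kc u hu
      obtain ⟨u₂, hu₂, e₂, h₂⟩ := gc u₁ hu₁
      exact ⟨u₂, hu₂, by rw [hcomp, e₁, e₂], by rw [h₂, h₁]; abel⟩
    exact ⟨⟨by rw [hcomp, ka, ga], c + c', key⟩, by rw [fc key, fc gc, fc kc]⟩
  let H : Subgroup G := finSub p ⟨by simp, 0, fun u hu => ⟨u, hu, by simp, by rw [add_zero]⟩⟩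
    (fun g k hg hk => (hmul g k hg hk).1)
  have hH : ∀ {g}, g ∈ H ↔ p g := Iff.rfl
  have fhom : ∀ g ∈ H, ∀ k ∈ H, f (g * k) = f g + f k := fun g hg k hk => (hmul g k hg hk).2
  have fconj : ∀ g ∈ H, ∀ v ∈ H, f (g * v * g⁻¹) = f v := by
    intro g hg v hv
    have h1 : f (1 : G) = 0 := by
      have := fhom 1 H.one_mem 1 H.one_mem
      rw [mul_one] at this
      simpa using this
    have h2 := fhom g hg g⁻¹ (H.inv_mem hg)
    rw [mul_inv_cancel, h1] at h2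
    rw [fhom _ (H.mul_mem hg hv) _ (H.inv_mem hg), fhom g hg v hv, add_comm (f g), add_assoc, ← h2, add_zero]
  -- elements given by generators
  have mk : ∀ {g : G} {w Z Y : Q}, w ∈ w2Q → ValidQ w Z Y → g * W.e aQ * g⁻¹ = W.e aQ →
      g * W.e tQ * g⁻¹ = W.e (tQ * w) → g * W.e zQ * g⁻¹ = W.e Z → g * W.e yQ * g⁻¹ = W.e Y → g ∈ H := by
    intro g w Z Y hw hv ga gt gz gy
    refine hH.mpr ⟨ga, colQ (tQ * w), fun u hu => ?_⟩
    obtain ⟨h1, h2⟩ := hv u hu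
    refine ⟨w * L2 aQ Z Y u, ?_, ?_, h2⟩
    · exact (show ∀ a ∈ w2Q, ∀ b ∈ w2Q, a * b ∈ w2Q by decide +kernel) w hw _ h1
    · rw [(W.conj_L2 ga gt gz gy hu).2, mul_assoc]
  have shape : ∀ {g : G}, g ∈ H → ∃ w ∈ w2Q, ∃ Z ∈ w2Q, ∃ Y ∈ w2Q, ValidQ w Z Y ∧
      g * W.e tQ * g⁻¹ = W.e (tQ * w) ∧ g * W.e zQ * g⁻¹ = W.e Z ∧ g * W.e yQ * g⁻¹ = W.e Y := by
    intro g hg
    obtain ⟨ga, c, gc⟩ := hH.mp hg
    obtain ⟨w, hw, gt, hcw⟩ := gc 1 (by decide +kernel)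
    rw [mul_one] at gt
    have hcw' : colQ (tQ * w) = c := by rw [hcw, show colQ (tQ * 1) = 0 by decide +kernel, zero_add]
    have lin : ∀ u ∈ w2Q, ∃ u' ∈ w2Q, g * W.e u * g⁻¹ = W.e u' := by
      intro u hu
      obtain ⟨u₁, hu₁, e₁, -⟩ := gc u hu
      refine ⟨w * u₁, (show ∀ a ∈ w2Q, ∀ b ∈ w2Q, a * b ∈ w2Q by decide +kernel) w hw u₁ hu₁, ?_⟩
      have h := W.conj_mul gt e₁
      rw [show tQ * (tQ * u) = u by rw [← mul_assoc, show tQ * tQ = (1 : Q) by decide +kernel, one_mul]] at h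
      rw [h]
      exact congrArg W.e
        ((show ∀ a ∈ w2Q, ∀ b ∈ w2Q, tQ * a * (tQ * b) = a * b by decide +kernel) w hw u₁ hu₁)
    obtain ⟨Z, hZ, gz⟩ := lin zQ (by decide +kernel)
    obtain ⟨Y, hY, gy⟩ := lin yQ (by decide +kernel)
    refine ⟨w, hw, Z, hZ, Y, hY, fun u hu => ?_, gt, gz, gy⟩
    obtain ⟨u₁, -, e₁, h₁⟩ := gc u hu
    obtain ⟨u₂, hu₂, e₂⟩ := lin u hu
    have h := (W.conj_L2 ga gt gz gy hu)
    rw [h.2, W.e_eq, mul_assoc, mul_right_inj] at e₁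
    rw [h.1, W.e_eq] at e₂
    exact ⟨e₂ ▸ hu₂, by rw [e₁, h₁, hcw']⟩
  -- `N(S)`
  have hNS : ∀ r ∈ W.NS, r ∈ H := by
    intro r hr
    obtain ⟨⟨c, e, q⟩, rfl⟩ := d.μ_surj hr
    refine hH.mpr ⟨mul_inv_eq_iff_eq_mul.mpr (d.fixes_four hr (by decide +kernel)),
      if c then 1 else 0, fun u hu => ?_⟩
    obtain ⟨u', hu', e', h'⟩ := (edgeTwo_node b c e q).1 u hu
    exact ⟨u', hu', by rw [d.node_conj, hP]; exact congrArg W.e e', h'⟩
  have flift : ∀ r ∈ W.NS, f r = 1 → (d.node r).1 = true := by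
    intro r hr h1
    obtain ⟨⟨c, e, q⟩, rfl⟩ := d.μ_surj hr
    obtain ⟨u', -, e', h'⟩ := (edgeTwo_node b c e q).1 1 (by decide +kernel)
    have e1 : f (d.μ (c, e, q)) = colQ (tQ * u') := by
      refine fval ?_
      rw [d.node_conj, hP]
      rw [mul_one] at e'
      exact congrArg W.e e'
    rw [e1, h', show colQ (tQ * 1) = 0 by decide +kernel, zero_add] at h1
    rw [d.node_μ]
    cases c
    · exact absurd h1 (by decide)
    · rfl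
  -- membership of `N(S)`
  have hmemNS : ∀ g ∈ H, g * W.e zQ * g⁻¹ = W.e zQ →
      (∃ f₀ ∈ fourQ, g * W.e tQ * g⁻¹ = W.e (tQ * f₀)) → g ∈ W.NS := by
    rintro g hg gz ⟨f₀, hf₀, gt⟩
    obtain ⟨r, hr, hrt⟩ := d.exists_translation hf₀
    obtain ⟨c, hc⟩ : ∃ c, c = r⁻¹ * g := ⟨_, rfl⟩
    have hcH : c ∈ H := hc ▸ H.mul_mem (H.inv_mem (hNS r hr)) hg
    have hct : c * W.e tQ * c⁻¹ = W.e tQ := by
      rw [hc, show r⁻¹ * g * W.e tQ * (r⁻¹ * g)⁻¹ = r⁻¹ * (g * W.e tQ * g⁻¹) * r by group, gt, ← hrt, W.e_t]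
      group
    have hcz : c * W.e zQ * c⁻¹ = W.e zQ := by
      rw [hc, show r⁻¹ * g * W.e zQ * (r⁻¹ * g)⁻¹ = r⁻¹ * (g * W.e zQ * g⁻¹) * r by group, gz,
        mul_assoc, ← d.fixes_four hr (by decide +kernel)]
      group
    obtain ⟨w, -, Z, -, Y, hY, hv, wt, wz, wy⟩ := shape hcH
    rw [hct, W.e_eq] at wt
    rw [hcz, W.e_eq] at wz
    have hw1 : w = 1 := mul_eq_left.mp wt.symm
    rw [hw1, ← wz] at hv
    have hct' : c * W.base.t = W.base.t * c := by rw [← W.e_t]; exact mul_inv_eq_iff_eq_mul.mp hct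
    have hca : c * W.e aQ = W.e aQ * c := mul_inv_eq_iff_eq_mul.mp (hH.mp hcH).1
    have hcz' := mul_inv_eq_iff_eq_mul.mp hcz
    have key : c ∈ W.base.S := by
      rcases valid_one Y hY hv with rfl | rfl
      · exact W.centA c hct' hca hcz' (mul_inv_eq_iff_eq_mul.mp wy)
      · have hm : W.e xQ * c ∈ W.base.S := by
          refine W.centA _ ?_ ?_ ?_ ?_
          · exact (show Commute (W.e xQ) W.base.t from W.e_comm_t _).mul_left hct'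
          · exact (show Commute (W.e xQ) (W.e aQ) by
              rw [Commute, SemiconjBy, ← map_mul, ← map_mul]; exact congrArg W.e (by decide +kernel)).mul_left hca
          · exact (show Commute (W.e xQ) (W.e zQ) by
              rw [Commute, SemiconjBy, ← map_mul, ← map_mul]; exact congrArg W.e (by decide +kernel)).mul_left hcz'
          · rw [← mul_inv_eq_iff_eq_mul, show W.e xQ * c * W.e yQ * (W.e xQ * c)⁻¹ =
              W.e xQ * (c * W.e yQ * c⁻¹) * (W.e xQ)⁻¹ by group, wy, ← map_inv, ← map_mul, ← map_mul]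
            exact congrArg W.e (by decide +kernel)
        simpa using W.base.S.mul_mem (W.base.S.inv_mem (W.mem_S xQ)) hm
    have : g = r * c := by rw [hc]; group
    rw [this]
    exact W.NS.mul_mem hr (W.S_le_NS key)
  -- the rotation
  have hρ : W.ρ₂ ∈ H := mk (w := 1) (by decide +kernel) valid_rho.1 W.ρ₂_a
    (by rw [mul_one]; exact W.conj_t W.ρ₂_t) W.ρ₂_z W.ρ₂_y
  -- an element moving `z`
  obtain ⟨s, hsdef⟩ : ∃ s, s = W.ρ₂ * W.ρ₂ * d.k * W.ρ₂⁻¹ := ⟨_, rfl⟩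
  have hk' : ∀ q, d.k * W.e q * d.k⁻¹ = W.e (kActQ true q) := fun q => by rw [d.k_act, hm]
  have sconj : ∀ {q q₀ q₁ q₂ : Q}, W.ρ₂ * W.e q₀ * W.ρ₂⁻¹ = W.e q →
      W.ρ₂ * W.e (kActQ true q₀) * W.ρ₂⁻¹ = W.e q₁ → W.ρ₂ * W.e q₁ * W.ρ₂⁻¹ = W.e q₂ →
      s * W.e q * s⁻¹ = W.e q₂ := by
    intro q q₀ q₁ q₂ h0 h1 h2
    rw [hsdef, ← h0, show W.ρ₂ * W.ρ₂ * d.k * W.ρ₂⁻¹ * (W.ρ₂ * W.e q₀ * W.ρ₂⁻¹) *
      (W.ρ₂ * W.ρ₂ * d.k * W.ρ₂⁻¹)⁻¹ = W.ρ₂ * (W.ρ₂ * (d.k * W.e q₀ * d.k⁻¹) * W.ρ₂⁻¹) * W.ρ₂⁻¹ by group,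
      hk', h1, h2]
  have sa : s * W.e aQ * s⁻¹ = W.e aQ :=
    sconj W.ρ₂_a (by rw [show kActQ true aQ = aQ by decide +kernel]; exact W.ρ₂_a) W.ρ₂_a
  have st : s * W.e tQ * s⁻¹ = W.e (tQ * (aQ * yQ * zQ)) := by
    refine sconj (W.conj_t W.ρ₂_t) (q₁ := tQ * (aQ * yQ)) ?_ (W.conj_mul (W.conj_t W.ρ₂_t) W.ρ₂_ay)
    rw [show kActQ true tQ = tQ * (aQ * zQ) by decide +kernel]
    exact W.conj_mul (W.conj_t W.ρ₂_t) W.ρ₂_az
  have sz : s * W.e zQ * s⁻¹ = W.e (aQ * zQ) := by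
    have h0 : W.ρ₂ * W.e (yQ * zQ) * W.ρ₂⁻¹ = W.e zQ := by
      rw [W.conj_mul W.ρ₂_y W.ρ₂_z]; exact congrArg W.e (by decide +kernel)
    refine sconj h0 (q₁ := yQ * zQ * aQ) ?_ ?_
    · rw [show kActQ true (yQ * zQ) = yQ * aQ by decide +kernel]
      exact W.conj_mul W.ρ₂_y W.ρ₂_a
    · rw [W.conj_mul h0 W.ρ₂_a]
      exact congrArg W.e (by decide +kernel)
  have sy : s * W.e yQ * s⁻¹ = W.e (yQ * zQ) :=
    sconj W.ρ₂_z (by rw [show kActQ true zQ = zQ by decide +kernel]; exact W.ρ₂_z) W.ρ₂_y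
  have hsH : s ∈ H := mk (w := aQ * yQ * zQ) (by decide +kernel) valid_rho.2 sa st sz sy
  have hsL : ∀ u ∈ w2Q, s * W.e u * s⁻¹ = W.e (L2 aQ (aQ * zQ) (yQ * zQ) u) ∧
      s * W.e (tQ * u) * s⁻¹ = W.e (tQ * (aQ * yQ * zQ) * L2 aQ (aQ * zQ) (yQ * zQ) u) :=
    fun u hu => W.conj_L2 sa st sz sy hu
  have hzfix : ∀ r ∈ W.NS, r * W.e zQ * r⁻¹ = W.e zQ := fun r hr =>
    mul_inv_eq_iff_eq_mul.mpr (d.fixes_four hr (by decide +kernel))
  have hnorm : ∀ r ∈ W.NS, s * r * s⁻¹ ∈ W.NS := by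
    intro r hr
    refine hmemNS _ (H.mul_mem (H.mul_mem hsH (hNS r hr)) (H.inv_mem hsH)) ?_ ?_
    · have h1 : s⁻¹ * W.e zQ * s = W.e (aQ * zQ) := by
        have h2 := W.conj_mul sa sz
        rw [show aQ * (aQ * zQ) = zQ by decide +kernel] at h2
        rw [← h2]; group
      rw [show s * r * s⁻¹ * W.e zQ * (s * r * s⁻¹)⁻¹ = s * (r * (s⁻¹ * W.e zQ * s) * r⁻¹) * s⁻¹ by group, h1,
        mul_inv_eq_iff_eq_mul.mpr (d.fixes_four hr (by decide +kernel)), W.conj_mul sa sz]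
      exact congrArg W.e (by decide +kernel)
    · have h1 : s⁻¹ * W.e tQ * s = W.e (tQ * (aQ * yQ)) := by
        have h2 := (hsL (aQ * yQ) (by decide +kernel)).2
        rw [show tQ * (aQ * yQ * zQ) * L2 aQ (aQ * zQ) (yQ * zQ) (aQ * yQ) = tQ by decide +kernel] at h2
        rw [← h2]; group
      obtain ⟨⟨c, e, q⟩, rfl⟩ := d.μ_surj hr
      obtain ⟨u', hu', e', hF⟩ := (edgeTwo_node b c e q).2
      obtain ⟨f₀, hf₀, hf⟩ := (show ∀ x ∈ orbitQ, ∃ f ∈ fourQ, x = tQ * f by decide +kernel) _ hF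
      refine ⟨f₀, hf₀, ?_⟩
      rw [show s * d.μ (c, e, q) * s⁻¹ * W.e tQ * (s * d.μ (c, e, q) * s⁻¹)⁻¹ =
        s * (d.μ (c, e, q) * (s⁻¹ * W.e tQ * s) * (d.μ (c, e, q))⁻¹) * s⁻¹ by group, h1, d.node_conj, hP, e',
        (hsL u' hu').2, hf]
  have hsq : s * s ∈ W.NS := by
    refine hmemNS _ (H.mul_mem hsH hsH) ?_ ⟨aQ * zQ, by decide +kernel, ?_⟩
    · rw [show s * s * W.e zQ * (s * s)⁻¹ = s * (s * W.e zQ * s⁻¹) * s⁻¹ by group, sz, W.conj_mul sa sz]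
      exact congrArg W.e (by decide +kernel)
    · rw [show s * s * W.e tQ * (s * s)⁻¹ = s * (s * W.e tQ * s⁻¹) * s⁻¹ by group, st,
        (hsL _ (by decide +kernel)).2]
      exact congrArg W.e (by decide +kernel)
  have hsN : s ∉ W.NS := fun h => by
    have := hzfix s h
    rw [sz, W.e_eq] at this
    exact absurd this (by decide +kernel)
  let T₂ : Subgroup G := finSub (fun g => g ∈ W.NS ∨ g * s⁻¹ ∈ W.NS) (Or.inl W.NS.one_mem) (by
    rintro g k (hg | hg) (hk | hk)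
    · exact Or.inl (W.NS.mul_mem hg hk)
    · refine Or.inr ?_
      rw [mul_assoc]
      exact W.NS.mul_mem hg hk
    · refine Or.inr ?_
      have := W.NS.mul_mem hg (hnorm k hk)
      simpa [mul_assoc] using this
    · refine Or.inl ?_
      have := W.NS.mul_mem (W.NS.mul_mem hg (hnorm _ hk)) hsq
      simpa [mul_assoc] using this)
  have hT2 : IsPGroup 2 T₂ := by
    let Φ : Bool × W.NS → T₂ := fun p => ⟨p.2 * gpow p.1 s, by
      cases p.1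
      · exact Or.inl (by simp [gpow])
      · exact Or.inr (by simp [gpow])⟩
    have hΦ : Function.Bijective Φ := by
      constructor
      · rintro ⟨b₁, r₁, hr₁⟩ ⟨b₂, r₂, hr₂⟩ e
        have e' : r₁ * gpow b₁ s = r₂ * gpow b₂ s := congrArg Subtype.val e
        cases b₁ <;> cases b₂ <;> simp only [gpow, if_true, if_false, Bool.false_eq_true, mul_one] at e'
        · exact Prod.ext rfl (Subtype.ext e')
        · refine absurd ?_ hsN
          have : s = r₂⁻¹ * r₁ := by rw [e']; group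
          rw [this]; exact W.NS.mul_mem (W.NS.inv_mem hr₂) hr₁
        · refine absurd ?_ hsN
          have : s = r₁⁻¹ * r₂ := by rw [← e']; group
          rw [this]; exact W.NS.mul_mem (W.NS.inv_mem hr₁) hr₂
        · exact Prod.ext rfl (Subtype.ext (mul_right_cancel e'))
      · rintro ⟨g, hg | hg⟩
        · exact ⟨(false, ⟨g, hg⟩), Subtype.ext (by simp [Φ, gpow])⟩
        · exact ⟨(true, ⟨g * s⁻¹, hg⟩), Subtype.ext (by simp [Φ, gpow])⟩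
    refine IsPGroup.of_card (n := 8) ?_
    rw [← Nat.card_congr (Equiv.ofBijective Φ hΦ), Nat.card_prod, d.p2.card_NS]
    simp
  -- the two classes of `N(S)`
  obtain ⟨v₂, hv₂⟩ := List.length_eq_one_iff.mp hz1
  obtain ⟨v₁, hv₁⟩ := List.length_eq_one_iff.mp ha1
  have hv₂' : v₂ ∈ d.Dl ∧ v₂.1 = true ∧ v₂.2.1 = true := by
    have : v₂ ∈ d.Dl.filter fun v => v.1 && v.2.1 := by rw [hv₂]; simp
    simpa [and_assoc] using List.mem_filter.mp this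
  have hv₁' : v₁ ∈ d.Dl ∧ v₁.1 = true ∧ v₁.2.1 = false := by
    have : v₁ ∈ d.Dl.filter fun v => v.1 && !v.2.1 := by rw [hv₁]; simp
    simpa [and_assoc] using List.mem_filter.mp this
  have hcls : ∀ r ∈ W.NS, W.base.InD r → f r = 1 →
      (∃ x ∈ W.NS, x * r * x⁻¹ = d.μ v₁) ∨ (∃ x ∈ W.NS, x * r * x⁻¹ = d.μ v₂) := by
    intro r hr hd h1
    obtain ⟨v, rfl⟩ := d.μ_surj hr
    have hc := flift _ hr h1
    rw [d.node_μ] at hc
    have hmem : rpN v ∈ baseD ++ d.Dl := of_decide_eq_true ((d.memD_iff v).mpr hd)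
    have hDl : rpN v ∈ d.Dl := (List.mem_append.mp hmem).resolve_left fun hb => by
      have := (show ∀ w ∈ baseD, w.1 = false by decide +kernel) _ hb
      rw [show (rpN v).1 = v.1 from rfl, hc] at this
      exact absurd this (by decide)
    obtain ⟨f₀, hf₀, e⟩ := d.μ_rp v
    have hd' := (d.inD_rp v).mp hd
    obtain ⟨x, hx, hxe⟩ := (d.class_eq (d.μ_mem _) hd').2.2 f₀ hf₀
    rw [← e] at hxe
    have hback : x⁻¹ * d.μ v * x⁻¹⁻¹ = d.μ (rpN v) := by rw [← hxe]; group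
    by_cases he : v.2.1 = true
    · refine Or.inr ⟨x⁻¹, W.NS.inv_mem hx, ?_⟩
      have : rpN v ∈ d.Dl.filter fun v => v.1 && v.2.1 :=
        List.mem_filter.mpr ⟨hDl, by simp [rpN, hc, he]⟩
      rw [hv₂, List.mem_singleton] at this
      rw [← this, hback]
    · refine Or.inl ⟨x⁻¹, W.NS.inv_mem hx, ?_⟩
      have : rpN v ∈ d.Dl.filter fun v => v.1 && !v.2.1 :=
        List.mem_filter.mpr ⟨hDl, by simp [rpN, hc, he]⟩
      rw [hv₁, List.mem_singleton] at this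
      rw [← this, hback]
  have hval : ∀ v : Node, v.1 = true → f (d.μ v) = 1 := by
    rintro ⟨c, e, q⟩ hc
    have hc' : c = true := hc
    obtain ⟨u', -, e', h'⟩ := (edgeTwo_node b c e q).1 1 (by decide +kernel)
    rw [mul_one] at e'
    have hfv : f (d.μ (c, e, q)) = colQ (tQ * u') :=
      fval (by rw [d.node_conj, hP]; exact congrArg W.e e')
    rw [hfv, h', show colQ (tQ * 1) = 0 by decide +kernel, zero_add, hc', if_pos rfl]
  have hD₁ := d.inD_of_mem (List.mem_append_right _ hv₁'.1)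
  have hD₂ := d.inD_of_mem (List.mem_append_right _ hv₂'.1)
  -- `s` fuses them
  have hfuse : ∃ g ∈ H, g * d.μ v₁ * g⁻¹ = d.μ v₂ := by
    have hsv : s * d.μ v₁ * s⁻¹ ∈ W.NS := hnorm _ (d.μ_mem v₁)
    rcases hcls _ hsv (hD₁.conj s) (by rw [fconj s hsH _ (hNS _ (d.μ_mem v₁)), hval _ hv₁'.2.1]) with
      ⟨x, hx, e⟩ | ⟨x, hx, e⟩
    · exfalso
      set C := T₂ ⊓ Subgroup.centralizer {d.μ v₁} with hC
      have h32 := W.two_le hD₁ C (hT2.to_le inf_le_left)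
        (fun g hg => Subgroup.mem_centralizer_singleton_iff.mp hg.2)
      have hle : W.NS ⊓ Subgroup.centralizer {d.μ v₁} ≤ C := fun g hg => ⟨Or.inl hg.1, hg.2⟩
      have heq := Subgroup.eq_of_le_of_card_ge hle (h32.trans (d.class_eq (d.μ_mem v₁) hD₁).2.1.ge)
      have hxs : x * s ∈ C := by
        refine ⟨Or.inr (by simpa using hx), Subgroup.mem_centralizer_singleton_iff.mpr
          (mul_inv_eq_iff_eq_mul.mp ?_)⟩
        rw [show x * s * d.μ v₁ * (x * s)⁻¹ = x * (s * d.μ v₁ * s⁻¹) * x⁻¹ by group, e]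
      rw [← heq] at hxs
      apply hsN
      simpa using W.NS.mul_mem (W.NS.inv_mem hx) hxs.1
    · exact ⟨x * s, H.mul_mem (hNS x hx) hsH, by
        rw [show x * s * d.μ v₁ * (x * s)⁻¹ = x * (s * d.μ v₁ * s⁻¹) * x⁻¹ by group, e]⟩
  refine W.index_two_of_class H f fhom (v₀ := d.μ v₂) ?_ (hval _ hv₂'.2.1) ?_
  · exact ⟨hNS _ (d.μ_mem _), hD₂, W.NS ⊓ Subgroup.centralizer {d.μ v₂}, fun g hg => hNS g hg.1,
      by rw [(d.class_eq (d.μ_mem v₂) hD₂).2.1, W.card_S],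
      fun g hg => Subgroup.mem_centralizer_singleton_iff.mp hg.2⟩
  · intro v hv hfv
    obtain ⟨hvH, hvD, -⟩ := hv
    obtain ⟨w, hw, Z, hZ, Y, hY, hvalid, vt, vz, vy⟩ := shape hvH
    have va := (hH.mp hvH).1
    have hL : ∀ u ∈ w2Q, v * W.e u * v⁻¹ = W.e (L2 aQ Z Y u) := fun u hu => (W.conj_L2 va vt vz vy hu).1
    have hinv : InvolQ w Z Y := by
      have sq : ∀ q : Q, v * (v * W.e q * v⁻¹) * v⁻¹ = W.e q := fun q => by
        calc v * (v * W.e q * v⁻¹) * v⁻¹ = v * v * W.e q * (v * v)⁻¹ := by group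
          _ = W.e q := by rw [hvD.sq]; group
      refine ⟨?_, fun u hu => ?_⟩
      · have h1 := sq tQ
        rw [vt, W.conj_mul vt (hL w hw), W.e_eq, mul_assoc] at h1
        have h2 := mul_eq_left.mp h1
        rw [eq_inv_of_mul_eq_one_right h2, inv_eq_of_mul_eq_one_right
          ((show ∀ u ∈ w2Q, u * u = 1 by decide +kernel) w hw)]
      · have h1 := sq u
        rw [hL u hu, hL _ (hvalid u hu).1, W.e_eq] at h1
        exact h1
    obtain ⟨e₀, he₀, hLe, hwe⟩ := valid_fixed w hw Z hZ Y hY hvalid hinv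
    -- rotate `e₀` to `z`
    obtain ⟨r, hr, hre, hrt⟩ : ∃ r ∈ H, r * W.e e₀ * r⁻¹ = W.e zQ ∧ r * W.e tQ * r⁻¹ = W.e tQ := by
      have h0 : W.ρ₂ * W.e (yQ * zQ) * W.ρ₂⁻¹ = W.e zQ := by
        rw [W.conj_mul W.ρ₂_y W.ρ₂_z]; exact congrArg W.e (by decide +kernel)
      simp only [List.mem_cons, List.not_mem_nil, or_false] at he₀
      rcases he₀ with rfl | rfl | rfl
      · exact ⟨1, H.one_mem, by group, by group⟩
      · refine ⟨W.ρ₂ * W.ρ₂, H.mul_mem hρ hρ, ?_, ?_⟩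
        · rw [show W.ρ₂ * W.ρ₂ * W.e yQ * (W.ρ₂ * W.ρ₂)⁻¹ = W.ρ₂ * (W.ρ₂ * W.e yQ * W.ρ₂⁻¹) * W.ρ₂⁻¹ by group,
            W.ρ₂_y, h0]
        · rw [show W.ρ₂ * W.ρ₂ * W.e tQ * (W.ρ₂ * W.ρ₂)⁻¹ = W.ρ₂ * (W.ρ₂ * W.e tQ * W.ρ₂⁻¹) * W.ρ₂⁻¹ by group,
            W.conj_t W.ρ₂_t, W.conj_t W.ρ₂_t]
      · exact ⟨W.ρ₂, hρ, h0, W.conj_t W.ρ₂_t⟩
    have hra := (hH.mp hr).1
    obtain ⟨v', hv'⟩ : ∃ v', v' = r * v * r⁻¹ := ⟨_, rfl⟩
    have hv'H : v' ∈ H := hv' ▸ H.mul_mem (H.mul_mem hr hvH) (H.inv_mem hr)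
    have he₀w : e₀ ∈ w2Q := (show ∀ e ∈ [zQ, yQ, yQ * zQ], e ∈ w2Q by decide +kernel) e₀ he₀
    have hv'NS : v' ∈ W.NS := by
      refine hmemNS v' hv'H ?_ ?_
      · rw [hv', show r * v * r⁻¹ * W.e zQ * (r * v * r⁻¹)⁻¹ = r * (v * (r⁻¹ * W.e zQ * r) * v⁻¹) * r⁻¹ by group,
          show r⁻¹ * W.e zQ * r = W.e e₀ by rw [← hre]; group, hL e₀ he₀w, hLe, hre]
      · obtain ⟨f₀, hf₀, hwf⟩ : ∃ f₀ ∈ fourQ, r * W.e w * r⁻¹ = W.e f₀ := by
          simp only [Finset.mem_insert, Finset.mem_singleton] at hwe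
          rcases hwe with rfl | rfl | rfl | rfl
          · exact ⟨1, by decide +kernel, by simp⟩
          · exact ⟨aQ, by decide +kernel, hra⟩
          · exact ⟨zQ, by decide +kernel, hre⟩
          · exact ⟨aQ * zQ, by decide +kernel, W.conj_mul hra hre⟩
        refine ⟨f₀, hf₀, ?_⟩
        rw [hv', show r * v * r⁻¹ * W.e tQ * (r * v * r⁻¹)⁻¹ = r * (v * (r⁻¹ * W.e tQ * r) * v⁻¹) * r⁻¹ by group,
          show r⁻¹ * W.e tQ * r = W.e tQ by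
            calc r⁻¹ * W.e tQ * r = r⁻¹ * (r * W.e tQ * r⁻¹) * r := by rw [hrt]
              _ = W.e tQ := by group,
          vt, W.conj_mul hrt hwf]
    rcases hcls v' hv'NS (hv' ▸ hvD.conj r) (by rw [hv', fconj r hr v hvH]; exact hfv) with
      ⟨x, hx, e⟩ | ⟨x, hx, e⟩
    · obtain ⟨g, hg, hge⟩ := hfuse
      refine ⟨g * (x * r), H.mul_mem hg (H.mul_mem (hNS x hx) hr), ?_⟩
      rw [← hge, ← e, hv']; group
    · refine ⟨x * r, H.mul_mem (hNS x hx) hr, ?_⟩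
      rw [← e, hv']; group

end Setup

end Cfsg.Agent.SixCentralizer
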