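/-
The conclusion from the abstract data.

* `Setup.index_two` : there is a subgroup of index 2
-/
import Cfsg.Agent.Lib.SixCentralizer.CaseTwo
import Cfsg.Agent.Lib.SixCentralizer.Cyclic
import Cfsg.Agent.Lib.SixCentralizer.EdgeOne
import Cfsg.Agent.Lib.SixCentralizer.EdgeTwo
import Cfsg.Agent.Lib.SixCentralizer.EdgeThree
import Cfsg.Agent.EqLemmas

set_option autoImplicit false
set_option maxRecDepth 100000
set_option synthInstance.maxSize 4000
set_option linter.style.haveILetI false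

namespace Cfsg.Agent.SixCentralizer

theorem mirror_back : ∀ m : Bool,
    miQ (miQ (miQ aQ)) = aQ * zQ ∧
    hActQ true (miQ tQ) = miQ (tQ * (aQ * zQ)) ∧ hActQ true (miQ aQ) = miQ aQ ∧
    hActQ true (miQ xQ) = miQ xQ ∧ hActQ true (miQ yQ) = miQ (yQ * bpow true (aQ * zQ)) ∧
    kActQ m (miQ tQ) = miQ (tQ * aQ) ∧ kActQ m (miQ aQ) = miQ aQ ∧
    kActQ m (miQ xQ) = miQ (xQ * bpow m aQ) ∧ kActQ m (miQ yQ) = miQ yQ ∧
    hActQ m tQ = tQ * aQ ∧ hActQ m aQ = aQ ∧ hActQ m xQ = xQ * bpow m aQ ∧ hActQ m yQ = yQ ∧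
    kActQ m tQ = tQ * (aQ * zQ) ∧ kActQ m aQ = aQ ∧ kActQ m xQ = xQ ∧
    kActQ m yQ = yQ * bpow m (aQ * zQ) := by decide +kernel

universe u

variable {G : Type u} [Group G]

namespace Setup

variable {W : Setup G}

theorem P2.mirror (h : W.P2) : W.mirror.P2 := by
  obtain ⟨h1, h2, h3, h4, h5⟩ := h
  refine ⟨?_, ?_, ?_, ?_, ?_⟩
  · show W.base.InD (W.e (miQ (tQ * zQ)))
    rw [show miQ (tQ * zQ) = tQ * zQ by decide +kernel]; exact h1
  · show W.base.InD (W.e (miQ (tQ * aQ)))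
    rw [show miQ (tQ * aQ) = tQ * aQ * zQ by decide +kernel]; exact h3
  · show W.base.InD (W.e (miQ (tQ * aQ * zQ)))
    rw [show miQ (tQ * aQ * zQ) = tQ * aQ by decide +kernel]; exact h2
  · show ¬ W.base.InD (W.e (miQ aQ))
    rw [show miQ aQ = aQ * zQ by decide +kernel]; exact h5
  · show ¬ W.base.InD (W.e (miQ (aQ * zQ)))
    rw [show miQ (aQ * zQ) = aQ by decide +kernel]; exact h4

theorem FourData.mirror_data [Finite G] (d : W.FourData) (hs : shapeC' d.P d.Dl = true) :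
    ∃ d' : W.mirror.FourData, d'.P.l = false ∧ d'.P.m = true := by
  simp only [shapeC', Bool.and_eq_true, Bool.not_eq_true'] at hs
  obtain ⟨⟨⟨hl, hm⟩, -⟩, -⟩ := hs
  obtain ⟨-, a1, a2, a3, a4, b1, b2, b3, b4, -⟩ := mirror_back false
  have hk : ∀ q, d.k * W.mirror.e q * d.k⁻¹ = W.mirror.e (hActQ false q) := by
    intro q
    refine W.mirror.conj_ext ?_ ?_ ?_ ?_ q
    · show d.k * W.e (miQ tQ) * d.k⁻¹ = W.e (miQ (tQ * aQ))
      rw [d.k_act, hm, b1]
    · show d.k * W.e (miQ aQ) * d.k⁻¹ = W.e (miQ aQ)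
      rw [d.k_act, hm, b2]
    · show d.k * W.e (miQ xQ) * d.k⁻¹ = W.e (miQ (xQ * bpow false aQ))
      rw [d.k_act, hm, b3]
    · show d.k * W.e (miQ yQ) * d.k⁻¹ = W.e (miQ yQ)
      rw [d.k_act, hm, b4]
  have hh : ∀ q, d.h * W.mirror.e q * d.h⁻¹ = W.mirror.e (kActQ true q) := by
    intro q
    refine W.mirror.conj_ext ?_ ?_ ?_ ?_ q
    · show d.h * W.e (miQ tQ) * d.h⁻¹ = W.e (miQ (tQ * aQ * zQ))
      rw [d.h_act, hl, a1, mul_assoc tQ]
    · show d.h * W.e (miQ aQ) * d.h⁻¹ = W.e (miQ aQ)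
      rw [d.h_act, hl, a2]
    · show d.h * W.e (miQ xQ) * d.h⁻¹ = W.e (miQ xQ)
      rw [d.h_act, hl, a3]
    · show d.h * W.e (miQ yQ) * d.h⁻¹ = W.e (miQ (yQ * bpow true (aQ * zQ)))
      rw [d.h_act, hl, a4]
  obtain ⟨b', hb', hbe⟩ : ∃ b' ∈ fourQ, miQ b' = d.P.b :=
    (show ∀ b ∈ fourQ, ∃ b' ∈ fourQ, miQ b' = b by decide +kernel) _ d.b_mem
  have hcomm : d.k * d.h = W.e d.P.b * (d.h * d.k) := by
    have hb2 : W.e d.P.b * W.e d.P.b = 1 := by
      rw [← map_mul, ← map_one W.e]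
      exact congrArg W.e ((show ∀ b ∈ fourQ, b * b = 1 by decide +kernel) _ d.b_mem)
    rw [d.comm, ← mul_assoc, hb2, one_mul]
  refine ⟨{ p2 := d.p2.mirror, h := d.k, k := d.h, P := ⟨false, true, b'⟩, h_mem := d.k_mem, k_mem := d.h_mem,
            h_sq := d.k_sq, k_sq := d.h_sq, b_mem := hb', h_act := hk, k_act := hh, comm := ?_ }, rfl, rfl⟩
  show d.k * d.h = W.e (miQ b') * (d.h * d.k)
  rw [hbe, hcomm]

theorem FourData.mixed_index_two [Finite G] (d : W.FourData) (hl : d.P.l = false) (hm : d.P.m = true) :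
    ∃ K : Subgroup G, K.index = 2 := by
  rcases d.split with h | h | h | h | h
  · exact h
  · exact absurd h (by simp [shapeA, hm])
  · exact absurd h (by simp [shapeB, hl])
  · exact d.shapeC_index_two h
  · exact absurd h (by simp [shapeC', hl])

theorem FourData.index_two [Finite G] (d : W.FourData) : ∃ K : Subgroup G, K.index = 2 := by
  rcases d.split with h | h | h | h | h
  · exact h
  · exact d.shapeA_index_two h
  · exact d.shapeB_index_two h
  · exact d.shapeC_index_two h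
  · obtain ⟨d', hl, hm⟩ := d.mirror_data h
    exact d'.mixed_index_two hl hm

theorem P2.index_two [Finite G] (h : W.P2) : ∃ K : Subgroup G, K.index = 2 := by
  by_cases hfix : ∀ g ∈ W.NS, g * W.e aQ * g⁻¹ = W.e aQ
  · exact (h.exists_fourData hfix).some.index_two
  · push Not at hfix
    obtain ⟨g, hg, hga⟩ := hfix
    exact h.moving_index_two hg hga

/-- There is a subgroup of index 2. -/
theorem index_two [Finite G] (W : Setup G) : ∃ K : Subgroup G, K.index = 2 := by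
  by_contra hno
  rcases W.cases hno with h | h | h
  · exact hno h.index_two
  · exact hno h.index_two
  · exact hno h.index_two

end Setup

end Cfsg.Agent.SixCentralizer
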