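/-
`C₂ × Sₙ` for `n = 6, 7` supplies the abstract data.

* `exists_setup` : data from an isomorphism of the centralizer
* `index_two_six`, `index_two_seven`
-/
import Cfsg.Agent.Lib.SixCentralizer.Main
import Cfsg.Agent.EqLemmas

set_option autoImplicit false
set_option maxRecDepth 100000
set_option synthInstance.maxSize 4000
set_option linter.style.haveILetI false

namespace Cfsg.Agent.SixCentralizer

open scoped commutatorElement

/-- The model of the centralizer. -/
abbrev Mn (n : ℕ) : Type := Multiplicative (ZMod 2) × Equiv.Perm (Fin n)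

variable {n : ℕ}

/-- A point. -/
def pt (h : 6 ≤ n) (i : Fin 6) : Fin n := Fin.castLE h i

/-- A transposition. -/
def sw (h : 6 ≤ n) (i j : Fin 6) : Equiv.Perm (Fin n) := Equiv.swap (pt h i) (pt h j)

/-- `(4 5)`. -/
def pA (h : 6 ≤ n) : Equiv.Perm (Fin n) := sw h 4 5
/-- `(0 1)`. -/
def pX (h : 6 ≤ n) : Equiv.Perm (Fin n) := sw h 0 1
/-- `(0 2)(1 3)`. -/
def pY (h : 6 ≤ n) : Equiv.Perm (Fin n) := sw h 0 2 * sw h 1 3
/-- `(0 1)(2 3)`. -/
def pZ (h : 6 ≤ n) : Equiv.Perm (Fin n) := sw h 0 1 * sw h 2 3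

/-- The embedding of `Q` as a function. -/
def embQ (h : 6 ≤ n) : Q → Mn n :=
  ext (Multiplicative.ofAdd 1, 1) (1, pA h) (1, pX h) (1, pY h)

/-- The first rotation. -/
def rot₁ (h : 6 ≤ n) : Mn n := (1, sw h 4 2 * sw h 4 0 * (sw h 5 3 * sw h 5 1))
/-- The second rotation. -/
def rot₂ (h : 6 ≤ n) : Mn n := (1, sw h 1 3 * sw h 1 2)

/-- The block of a point. -/
def blk (i : Fin n) : Fin 3 := ⟨i.val / 2 % 3, Nat.mod_lt _ (by norm_num)⟩

/-- The representative of a block. -/
def brep (h : 6 ≤ n) (b : Fin 3) : Fin n := pt h ⟨2 * b.val, by omega⟩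

/-- The finite facts. -/
structure Facts (n : ℕ) (h : 6 ≤ n) : Prop where
  mul : ∀ p q : Q, embQ h (p * q) = embQ h p * embQ h q
  inj : ∀ p : Q, embQ h p = 1 → p = 1
  rot : rot₁ h * embQ h aQ * (rot₁ h)⁻¹ = embQ h xQ ∧ rot₁ h * embQ h xQ * (rot₁ h)⁻¹ = embQ h (xQ * zQ) ∧
    rot₁ h * embQ h zQ * (rot₁ h)⁻¹ = embQ h (xQ * aQ * zQ) ∧ rot₂ h * embQ h aQ * (rot₂ h)⁻¹ = embQ h aQ ∧
    rot₂ h * embQ h zQ * (rot₂ h)⁻¹ = embQ h yQ ∧ rot₂ h * embQ h yQ * (rot₂ h)⁻¹ = embQ h (yQ * zQ) ∧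
    rot₁ h * embQ h tQ * (rot₁ h)⁻¹ = embQ h tQ ∧ rot₂ h * embQ h tQ * (rot₂ h)⁻¹ = embQ h tQ
  cls : ∀ q : Q, q * q = 1 → ∃ c ∈ [1, rot₁ h, rot₁ h * rot₁ h, rot₂ h, rot₂ h * rot₂ h],
    c * embQ h (repQ q) * c⁻¹ = embQ h q
  val : ∀ q : Q, (embQ h q).1 = Multiplicative.ofAdd (ct q) ∧
    (Equiv.Perm.sign (embQ h q).2 = 1 ↔ ca q + cx q = 0) ∧
    ((embQ h q).2 (pt h 4) = pt h 4 ↔ ca q = 0)
  img : embQ h tQ = (Multiplicative.ofAdd 1, 1) ∧ (embQ h aQ).2 = pA h ∧ (embQ h zQ).2 = pZ h ∧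
    (embQ h (aQ * zQ)).2 = pA h * pZ h
  mvA : ∀ i : Fin n, pA h i ≠ i → i = pt h 4 ∨ i = pt h 5
  imgA : pA h (pt h 4) = pt h 5 ∧ pA h (pt h 5) = pt h 4
  cand : ∀ i j k : Fin n, pZ h i ≠ i → pZ h j ≠ j → j ≠ i → j ≠ pZ h i → pA h k ≠ k →
    ∃ q : Q, ct q = 0 ∧ (embQ h q).2 (pt h 0) = i ∧ (embQ h q).2 (pt h 2) = j ∧ (embQ h q).2 (pt h 4) = k
  pts : ∀ l : Fin n, (l = pt h 0 ∨ l = pZ h (pt h 0) ∨ l = pt h 2 ∨ l = pZ h (pt h 2) ∨ l = pt h 4 ∨
    l = pA h (pt h 4)) ∨ (pA h l = l ∧ pZ h l = l)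
  mv0 : pZ h (pt h 0) ≠ pt h 0 ∧ pZ h (pt h 2) ≠ pt h 2 ∧ pt h 2 ≠ pt h 0 ∧ pt h 2 ≠ pZ h (pt h 0) ∧
    pA h (pt h 4) ≠ pt h 4
  fix : ∀ l l' : Fin n, pA h l = l → pZ h l = l → pA h l' = l' → pZ h l' = l' → l = l'
  fixB : ∀ l l' : Fin n, (pA h * pZ h) l = l → (pA h * pZ h) l' = l' → l = l'
  fixA : pA h (pt h 0) = pt h 0 ∧ pA h (pt h 2) = pt h 2
  blkB : ∀ i : Fin n, blk ((pA h * pZ h) i) = blk i
  repB : ∀ i : Fin n, (pA h * pZ h) i ≠ i →
    i = brep h (blk i) ∨ i = (pA h * pZ h) (brep h (blk i))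
  brepB : ∀ b : Fin 3, (pA h * pZ h) (brep h b) ≠ brep h b ∧ blk (brep h b) = b
  blkY : ∀ q : Q, ct q = 0 → (cy q = 0 ↔ ∀ b : Fin 3, blk ((embQ h q).2 (brep h b)) = b)
  not64 : ¬ 2 ^ 6 ∣ 2 * Nat.factorial n

theorem facts_six : Facts 6 le_rfl where
  mul := by decide +kernel
  inj := by decide +kernel
  rot := by decide +kernel
  cls := by decide +kernel
  val := by decide +kernel
  img := by decide +kernel
  mvA := by decide +kernel
  imgA := by decide +kernel
  cand := by decide +kernel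
  pts := by decide +kernel
  mv0 := by decide +kernel
  fix := by decide +kernel
  fixB := by decide +kernel
  fixA := by decide +kernel
  blkB := by decide +kernel
  repB := by decide +kernel
  brepB := by decide +kernel
  blkY := by decide +kernel
  not64 := by decide +kernel

theorem facts_seven : Facts 7 (by norm_num) where
  mul := by decide +kernel
  inj := by decide +kernel
  rot := by decide +kernel
  cls := by decide +kernel
  val := by decide +kernel
  img := by decide +kernel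
  mvA := by decide +kernel
  imgA := by decide +kernel
  cand := by decide +kernel
  pts := by decide +kernel
  mv0 := by decide +kernel
  fix := by decide +kernel
  fixB := by decide +kernel
  fixA := by decide +kernel
  blkB := by decide +kernel
  repB := by decide +kernel
  brepB := by decide +kernel
  blkY := by decide +kernel
  not64 := by decide +kernel

namespace Facts

variable {h : 6 ≤ n} (F : Facts n h)

/-- The embedding of `Q`. -/
def hom : Q →* Mn n := MonoidHom.mk' (embQ h) F.mul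

theorem hom_inj : Function.Injective F.hom := (injective_iff_map_eq_one F.hom).mpr F.inj

include F

theorem range_of_comm {m : Mn n} (ha : m * embQ h aQ = embQ h aQ * m) (hz : m * embQ h zQ = embQ h zQ * m) :
    ∃ q, embQ h q = m := by
  obtain ⟨ε, p⟩ := m
  have hA : ∀ i, p (pA h i) = pA h (p i) := fun i => by
    have := congrArg (fun m : Mn n => m.2 i) ha
    simpa [F.img.2.1] using this
  have hZ : ∀ i, p (pZ h i) = pZ h (p i) := fun i => by
    have := congrArg (fun m : Mn n => m.2 i) hz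
    simpa [F.img.2.2.1] using this
  obtain ⟨m0, m2, n20, n21, m4⟩ := F.mv0
  have mvZ : ∀ i, pZ h i ≠ i → pZ h (p i) ≠ p i := fun i hi e => hi (p.injective ((hZ i).trans e))
  have mvA : ∀ i, pA h i ≠ i → pA h (p i) ≠ p i := fun i hi e => hi (p.injective ((hA i).trans e))
  obtain ⟨q, hq0, e0, e2, e4⟩ := F.cand _ _ _ (mvZ _ m0) (mvZ _ m2) (fun e => n20 (p.injective e))
    (fun e => n21 (p.injective (e.trans (hZ _).symm))) (mvA _ m4)
  have qA : ∀ i, (embQ h q).2 (pA h i) = pA h ((embQ h q).2 i) := fun i => by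
    have e : embQ h q * embQ h aQ = embQ h aQ * embQ h q := by
      rw [← F.mul, ← F.mul]
      exact congrArg (embQ h) ((show ∀ q : Q, q * aQ = aQ * q by decide +kernel) q)
    have := congrArg (fun m : Mn n => m.2 i) e
    simpa [F.img.2.1] using this
  have qZ : ∀ i, (embQ h q).2 (pZ h i) = pZ h ((embQ h q).2 i) := fun i => by
    have e : embQ h q * embQ h zQ = embQ h zQ * embQ h q := by
      rw [← F.mul, ← F.mul]
      exact congrArg (embQ h) ((show ∀ q : Q, q * zQ = zQ * q by decide +kernel) q)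
    have := congrArg (fun m : Mn n => m.2 i) e
    simpa [F.img.2.2.1] using this
  have hp : (embQ h q).2 = p := by
    refine Equiv.ext fun l => ?_
    rcases F.pts l with (rfl | rfl | rfl | rfl | rfl | rfl) | ⟨hl, hl'⟩
    · exact e0
    · rw [qZ, hZ, e0]
    · exact e2
    · rw [qZ, hZ, e2]
    · exact e4
    · rw [qA, hA, e4]
    · exact F.fix _ _ (by rw [← qA, hl]) (by rw [← qZ, hl']) (by rw [← hA, hl]) (by rw [← hZ, hl'])
  by_cases hε : ε = 1
  · refine ⟨q, Prod.ext ?_ hp⟩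
    rw [(F.val q).1, hq0, hε]
    rfl
  · refine ⟨tQ * q, ?_⟩
    rw [F.mul, F.img.1]
    refine Prod.ext ?_ (by simp [hp])
    rw [Prod.fst_mul, (F.val q).1, hq0]
    exact (show ∀ x : Multiplicative (ZMod 2), x ≠ 1 → Multiplicative.ofAdd 1 * Multiplicative.ofAdd 0 = x by
      decide) ε hε

theorem normal_self {m : Mn n} (hm : ∀ q, ∃ p, m * embQ h q * m⁻¹ = embQ h p) : ∃ q, embQ h q = m := by
  have hhom : ∀ {a b a' b' : Q}, m * embQ h a * m⁻¹ = embQ h a' → m * embQ h b * m⁻¹ = embQ h b' →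
      m * embQ h (a * b) * m⁻¹ = embQ h (a' * b') := by
    intro a b a' b' e1 e2
    rw [F.mul, F.mul, ← e1, ← e2]
    group
  have inj' : ∀ {p q : Q}, embQ h p = embQ h q → p = q := fun e => F.hom_inj e
  obtain ⟨pz, hz0⟩ := hm zQ
  obtain ⟨u, hu⟩ := hm (xQ * yQ)
  have hpz : pz = zQ := by
    have e := hhom hu hu
    rw [show xQ * yQ * (xQ * yQ) = zQ by decide +kernel, hz0] at e
    rcases Setup.sq_cases u with k | k
    · exfalso
      rw [inj' e, k] at hz0
      have h1 : embQ h zQ = embQ h 1 := by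
        have h2 : embQ h (1 : Q) = 1 := map_one F.hom
        rw [h2] at hz0 ⊢
        simpa using hz0
      exact absurd (inj' h1) (by decide +kernel)
    · rw [inj' e, k]
  rw [hpz] at hz0
  obtain ⟨pa, ha⟩ := hm aQ
  have hpaA : pa = aQ := by
    have hc : Cen pa := by
      intro p
      -- conjugation is onto
      choose φ hφ using hm
      have hφinj : Function.Injective φ := fun a b e => inj' (by
        have e1 := hφ a
        rw [e, ← hφ b] at e1
        simpa using e1)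
      obtain ⟨p', rfl⟩ := (Finite.injective_iff_surjective.mp hφinj) p
      have e1 := hhom (hφ p') ha
      have e2 := hhom ha (hφ p')
      rw [(show ∀ q : Q, q * aQ = aQ * q by decide +kernel) p', e2] at e1
      exact (inj' e1).symm
    have h1 : ct pa = 0 := by
      have := congrArg Prod.fst ha
      rw [(F.val pa).1, Prod.fst_mul, Prod.fst_mul, Prod.fst_inv, mul_comm m.1, mul_assoc, mul_inv_cancel,
        mul_one, (F.val aQ).1] at this
      exact (Multiplicative.ofAdd.injective this).symm.trans (by decide +kernel)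
    have h2 : ¬ ca pa + cx pa = 0 := by
      intro k
      have h3 := (F.val pa).2.1.mpr k
      rw [← ha] at h3
      have h4 : Equiv.Perm.sign (embQ h aQ).2 = 1 := by
        simpa [mul_comm (Equiv.Perm.sign m.2), mul_assoc] using h3
      exact absurd ((F.val aQ).2.1.mp h4) (by decide +kernel)
    rcases (show ∀ q : Q, Cen q → ct q = 0 → ¬ ca q + cx q = 0 → q = aQ ∨ q = aQ * zQ by decide +kernel)
      pa hc h1 h2 with k | k
    · exact k
    · exfalso
      subst k
      have e : ∀ i, m.2 (pA h i) = (pA h * pZ h) (m.2 i) := fun i => by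
        have := congrArg (fun u : Mn n => u.2 i) (mul_inv_eq_iff_eq_mul.mp ha)
        simpa [F.img.2.1, F.img.2.2.2] using this
      have e0 := e (pt h 0)
      have e2 := e (pt h 2)
      rw [F.fixA.1] at e0
      rw [F.fixA.2] at e2
      exact F.mv0.2.2.1 (m.2.injective (F.fixB _ _ e2.symm e0.symm))
  rw [hpaA] at ha
  exact F.range_of_comm (mul_inv_eq_iff_eq_mul.mp ha) (mul_inv_eq_iff_eq_mul.mp hz0)

theorem sylow {P : Subgroup (Mn n)} (hP : IsPGroup 2 P) :
    ∃ c : Mn n, ∀ p ∈ P, ∃ q, embQ h q = c * p * c⁻¹ := by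
  haveI : Fact (Nat.Prime 2) := ⟨Nat.prime_two⟩
  have hR : IsPGroup 2 F.hom.range := by
    refine IsPGroup.of_card (n := 5) ?_
    rw [← Nat.card_congr (MonoidHom.ofInjective F.hom_inj).toEquiv, card_Q]
    norm_num
  obtain ⟨Q0, hQ0⟩ := hR.exists_le_sylow
  obtain ⟨P0, hP0⟩ := hP.exists_le_sylow
  obtain ⟨c, hc⟩ := MulAction.exists_smul_eq (Mn n) P0 Q0
  have heq : F.hom.range = (Q0 : Subgroup (Mn n)) := by
    refine Subgroup.eq_of_le_of_card_ge hQ0 ?_
    obtain ⟨k, hk⟩ := IsPGroup.iff_card.mp Q0.isPGroup'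
    have hdvd := Subgroup.card_subgroup_dvd_card (Q0 : Subgroup (Mn n))
    rw [hk] at hdvd ⊢
    rw [← Nat.card_congr (MonoidHom.ofInjective F.hom_inj).toEquiv, card_Q]
    have hM : Nat.card (Mn n) = 2 * Nat.factorial n := by
      rw [Nat.card_prod, Nat.card_eq_fintype_card (α := Equiv.Perm (Fin n)), Fintype.card_perm, Fintype.card_fin]
      simp
    rw [hM] at hdvd
    have h5 : k ≤ 5 := by
      by_contra hk5
      exact F.not64 ((pow_dvd_pow 2 (by omega)).trans hdvd)
    exact le_trans (Nat.pow_le_pow_right (by norm_num) h5) (by norm_num)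
  refine ⟨c, fun p hp => ?_⟩
  have hm : c * p * c⁻¹ ∈ (Q0 : Subgroup (Mn n)) := by
    rw [← hc, Sylow.coe_subgroup_smul]
    exact Subgroup.smul_mem_pointwise_smul _ (MulAut.conj c) _ (hP0 hp)
  rw [← heq] at hm
  exact hm

/-- The centralizer of `t` and `a`. -/
theorem der_A (q : Q) : embQ h q ∈ ⁅Subgroup.centralizer ({embQ h tQ, embQ h aQ} : Set (Mn n)),
    Subgroup.centralizer ({embQ h tQ, embQ h aQ} : Set (Mn n))⁆ ↔ inA q := by
  set CA := Subgroup.centralizer ({embQ h tQ, embQ h aQ} : Set (Mn n)) with hCA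
  have memQ : ∀ p : Q, embQ h p ∈ CA := fun p => by
    refine Subgroup.mem_centralizer_iff.mpr fun u hu => ?_
    rcases hu with rfl | rfl
    · rw [← F.mul, ← F.mul]; exact congrArg _ ((show ∀ p : Q, tQ * p = p * tQ by decide +kernel) p)
    · rw [← F.mul, ← F.mul]; exact congrArg _ ((show ∀ p : Q, aQ * p = p * aQ by decide +kernel) p)
  constructor
  · intro hq
    have hgood : ∀ m : Mn n, m ∈ ⁅CA, CA⁆ → m.1 = 1 ∧ Equiv.Perm.sign m.2 = 1 ∧ m.2 (pt h 4) = pt h 4 := by
      let K : Subgroup (Mn n) :=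
        { carrier := {m | m.1 = 1 ∧ Equiv.Perm.sign m.2 = 1 ∧ m.2 (pt h 4) = pt h 4}
          one_mem' := ⟨rfl, by simp, rfl⟩
          mul_mem' := fun {a b} ha hb => ⟨by simp [ha.1, hb.1], by simp [ha.2.1, hb.2.1],
            by simp [ha.2.2, hb.2.2]⟩
          inv_mem' := fun {a} ha => ⟨by simp [ha.1], by simp [ha.2.1],
            (Equiv.symm_apply_eq a.2).mpr ha.2.2.symm⟩ }
      have hle : ⁅CA, CA⁆ ≤ K := by
        rw [Subgroup.commutator_le]
        intro g hg k hk
        have comm : ∀ {g : Mn n}, g ∈ CA → (g.2 (pt h 4) = pt h 4 ∧ g.2 (pt h 5) = pt h 5) ∨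
            (g.2 (pt h 4) = pt h 5 ∧ g.2 (pt h 5) = pt h 4) := by
          intro g hg
          have e : ∀ i, g.2 (pA h i) = pA h (g.2 i) := fun i => by
            have := congrArg (fun u : Mn n => u.2 i)
              (Subgroup.mem_centralizer_iff.mp hg (embQ h aQ) (by simp))
            simpa [F.img.2.1] using this.symm
          have e5 := e (pt h 4)
          rw [F.imgA.1] at e5
          rcases F.mvA (g.2 (pt h 4)) (fun k => F.mv0.2.2.2.2 (g.2.injective ((e _).trans k))) with k | k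
          · exact Or.inl ⟨k, by rw [e5, k, F.imgA.1]⟩
          · exact Or.inr ⟨k, by rw [e5, k, F.imgA.2]⟩
        refine ⟨?_, ?_, ?_⟩
        · simp [commutatorElement_def, mul_comm g.1, mul_assoc]
        · simp [commutatorElement_def, mul_comm (Equiv.Perm.sign g.2), mul_assoc]
        · have inv45 : ∀ {p : Equiv.Perm (Fin n)} {i j}, p i = j → p⁻¹ j = i := fun e => by
            rw [← e]
            simp
          rcases comm hg with ⟨a1, a2⟩ | ⟨a1, a2⟩ <;> rcases comm hk with ⟨b1, b2⟩ | ⟨b1, b2⟩ <;>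
            simp only [commutatorElement_def, Prod.snd_mul, Prod.snd_inv, Equiv.Perm.mul_apply, inv45 a1,
              inv45 a2, inv45 b1, inv45 b2, a1, a2, b1, b2]
      exact fun m hm => hle hm
    obtain ⟨h1, h2, h3⟩ := hgood _ hq
    obtain ⟨v1, v2, v3⟩ := F.val q
    have k1 : ct q = 0 := Multiplicative.ofAdd.injective (by rw [← v1, h1]; rfl)
    have k2 := v2.mp h2
    have k3 := v3.mp h3
    rw [k3, zero_add] at k2
    exact ⟨k1, k3, k2⟩
  · intro hq
    have hz : embQ h zQ ∈ ⁅CA, CA⁆ := by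
      have hx := memQ xQ
      have hy := memQ yQ
      have e : ⁅F.hom xQ, F.hom yQ⁆ = F.hom zQ := by
        rw [← map_commutatorElement]
        exact congrArg F.hom (by decide +kernel)
      show F.hom zQ ∈ _
      rw [← e]
      exact Subgroup.commutator_mem_commutator hx hy
    have hρ : rot₂ h ∈ CA := by
      refine Subgroup.mem_centralizer_iff.mpr fun u hu => ?_
      rcases hu with rfl | rfl
      · exact (mul_inv_eq_iff_eq_mul.mp F.rot.2.2.2.2.2.2.2).symm
      · exact (mul_inv_eq_iff_eq_mul.mp F.rot.2.2.2.1).symm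
    have hy : embQ h yQ ∈ ⁅CA, CA⁆ := by
      rw [← F.rot.2.2.2.2.1]
      have hxy : ⁅rot₂ h * F.hom xQ * (rot₂ h)⁻¹, rot₂ h * F.hom yQ * (rot₂ h)⁻¹⁆ ∈ ⁅CA, CA⁆ :=
        Subgroup.commutator_mem_commutator (CA.mul_mem (CA.mul_mem hρ (memQ xQ)) (CA.inv_mem hρ))
          (CA.mul_mem (CA.mul_mem hρ (memQ yQ)) (CA.inv_mem hρ))
      have e : rot₂ h * ⁅F.hom xQ, F.hom yQ⁆ * (rot₂ h)⁻¹ =
          ⁅rot₂ h * F.hom xQ * (rot₂ h)⁻¹, rot₂ h * F.hom yQ * (rot₂ h)⁻¹⁆ := by
        simp only [commutatorElement_def]; group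
      rw [← e, ← map_commutatorElement, show ⁅xQ, yQ⁆ = zQ by decide +kernel] at hxy
      exact hxy
    rcases (show ∀ q : Q, inA q → q = 1 ∨ q = zQ ∨ q = yQ ∨ q = yQ * zQ by decide +kernel) q hq with
      rfl | rfl | rfl | rfl
    · have : embQ h (1 : Q) = 1 := map_one F.hom
      rw [this]; exact Subgroup.one_mem _
    · exact hz
    · exact hy
    · rw [F.mul]; exact Subgroup.mul_mem _ hy hz

theorem der_B (q : Q) : embQ h q ∈ ⁅Subgroup.centralizer ({embQ h tQ, embQ h (aQ * zQ)} : Set (Mn n)),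
    Subgroup.centralizer ({embQ h tQ, embQ h (aQ * zQ)} : Set (Mn n))⁆ ↔ inB q := by
  set CB := Subgroup.centralizer ({embQ h tQ, embQ h (aQ * zQ)} : Set (Mn n)) with hCB
  have memQ : ∀ p : Q, embQ h p ∈ CB := fun p => by
    refine Subgroup.mem_centralizer_iff.mpr fun u hu => ?_
    rcases hu with rfl | rfl
    · rw [← F.mul, ← F.mul]; exact congrArg _ ((show ∀ p : Q, tQ * p = p * tQ by decide +kernel) p)
    · rw [← F.mul, ← F.mul]
      exact congrArg _ ((show ∀ p : Q, aQ * zQ * p = p * (aQ * zQ) by decide +kernel) p)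
  constructor
  · intro hq
    have hblk : ∀ g ∈ CB, ∀ i : Fin n, (pA h * pZ h) i ≠ i →
        (pA h * pZ h) (g.2 i) ≠ g.2 i ∧ blk (g.2 i) = blk (g.2 (brep h (blk i))) := by
      intro g hg i hi
      have e : ∀ i, g.2 ((pA h * pZ h) i) = (pA h * pZ h) (g.2 i) := fun i => by
        have := congrArg (fun u : Mn n => u.2 i)
          (Subgroup.mem_centralizer_iff.mp hg (embQ h (aQ * zQ)) (by simp))
        simpa [F.img.2.2.2] using this.symm
      refine ⟨fun k => hi (g.2.injective ((e i).trans k)), ?_⟩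
      rcases F.repB i hi with k | k
      · rw [← k]
      · conv_lhs => rw [k, e, F.blkB]
    have step : ∀ g ∈ CB, ∀ g' ∈ CB, ∀ b : Fin 3,
        blk (g.2 (g'.2 (brep h b))) = blk (g.2 (brep h (blk (g'.2 (brep h b))))) := fun g hg g' hg' b =>
      (hblk g hg _ (hblk g' hg' _ (F.brepB b).1).1).2
    let β : ↥CB →* Equiv.Perm (Fin 3) := MonoidHom.mk'
      (fun g =>
        { toFun := fun b => blk ((g : Mn n).2 (brep h b))
          invFun := fun b => blk (((g⁻¹ : ↥CB) : Mn n).2 (brep h b))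
          left_inv := fun b => by
            show blk (((g⁻¹ : ↥CB) : Mn n).2 (brep h (blk ((g : Mn n).2 (brep h b))))) = b
            rw [← step _ (g⁻¹).2 _ g.2]
            simp [(F.brepB b).2]
          right_inv := fun b => by
            show blk ((g : Mn n).2 (brep h (blk (((g⁻¹ : ↥CB) : Mn n).2 (brep h b))))) = b
            rw [← step _ g.2 _ (g⁻¹).2]
            simp [(F.brepB b).2] })
      (fun g g' => Equiv.ext fun b => by
        show blk (((g * g' : ↥CB) : Mn n).2 (brep h b)) = blk ((g : Mn n).2 (brep h (blk ((g' : Mn n).2 (brep h b)))))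
        rw [← step _ g.2 _ g'.2]
        rfl)
    let K : Subgroup (Mn n) :=
      { carrier := {m | m.1 = 1 ∧ Equiv.Perm.sign m.2 = 1 ∧ ∃ hm : m ∈ CB, Equiv.Perm.sign (β ⟨m, hm⟩) = 1}
        one_mem' := ⟨rfl, by simp, CB.one_mem, by
          show Equiv.Perm.sign (β 1) = 1
          simp⟩
        mul_mem' := fun {a b} ha hb => by
          obtain ⟨a1, a2, ha', a3⟩ := ha
          obtain ⟨b1, b2, hb', b3⟩ := hb
          refine ⟨by simp [a1, b1], by simp [a2, b2], CB.mul_mem ha' hb', ?_⟩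
          show Equiv.Perm.sign (β (⟨a, ha'⟩ * ⟨b, hb'⟩)) = 1
          rw [map_mul, map_mul, a3, b3, one_mul]
        inv_mem' := fun {a} ha => by
          obtain ⟨a1, a2, ha', a3⟩ := ha
          refine ⟨by simp [a1], by simp [a2], CB.inv_mem ha', ?_⟩
          show Equiv.Perm.sign (β (⟨a, ha'⟩⁻¹)) = 1
          rw [map_inv, map_inv, a3, inv_one] }
    have hle : ⁅CB, CB⁆ ≤ K := by
      rw [Subgroup.commutator_le]
      intro g hg k hk
      refine ⟨by simp [commutatorElement_def, mul_comm g.1, mul_assoc],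
        by simp [commutatorElement_def, mul_comm (Equiv.Perm.sign g.2), mul_assoc],
        CB.mul_mem (CB.mul_mem (CB.mul_mem hg hk) (CB.inv_mem hg)) (CB.inv_mem hk), ?_⟩
      show Equiv.Perm.sign (β (⟨g, hg⟩ * ⟨k, hk⟩ * ⟨g, hg⟩⁻¹ * ⟨k, hk⟩⁻¹)) = 1
      simp only [map_mul, map_inv]
      rw [mul_comm (Equiv.Perm.sign (β ⟨g, hg⟩)) (Equiv.Perm.sign (β ⟨k, hk⟩)), mul_inv_cancel_right,
        mul_inv_cancel]
    obtain ⟨h1, h2, hm, h3⟩ := hle hq
    obtain ⟨v1, v2, -⟩ := F.val q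
    have k1 : ct q = 0 := Multiplicative.ofAdd.injective (by rw [← v1, h1]; rfl)
    have k2 := v2.mp h2
    refine ⟨k1, ?_, (show ∀ a b : ZMod 2, a + b = 0 → a = b by decide) _ _ k2⟩
    -- an involution on three blocks fixing one
    have hfix : β ⟨embQ h q, hm⟩ * β ⟨embQ h q, hm⟩ = 1 := by
      rw [← map_mul, ← map_one β]
      refine congrArg β (Subtype.ext ?_)
      show embQ h q * embQ h q = 1
      have hsq : q * q = 1 ∨ q * q = zQ := Setup.sq_cases q
      rw [← F.mul]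
      rcases hsq with k | k
      · rw [k]; exact map_one F.hom
      · exfalso
        have hq' : cy q = 1 ∧ cx q = 1 := (show ∀ q : Q, q * q = zQ → cy q = 1 ∧ cx q = 1 by decide +kernel) q k
        have hb := (F.blkY q k1).not.mp (by rw [hq'.1]; decide)
        push Not at hb
        obtain ⟨b, hb⟩ := hb
        have h4 : β ⟨embQ h q, hm⟩ ≠ 1 := fun e => hb (congrArg (fun p : Equiv.Perm (Fin 3) => p b) e)
        have h5 : β ⟨embQ h q, hm⟩ ^ 4 = 1 := by
          rw [← map_pow, ← map_one β]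
          refine congrArg β (Subtype.ext ?_)
          show F.hom q ^ 4 = 1
          rw [← map_pow, (show ∀ q : Q, q ^ 4 = 1 by decide +kernel) q, map_one]
        exact (show ∀ p : Equiv.Perm (Fin 3), p ≠ 1 → p ^ 4 = 1 → Equiv.Perm.sign p ≠ 1 by decide +kernel)
          _ h4 h5 h3
    have hid := (show ∀ p : Equiv.Perm (Fin 3), p * p = 1 → Equiv.Perm.sign p = 1 → p = 1 by decide +kernel)
      _ hfix h3
    exact (F.blkY q k1).mpr fun b => congrArg (fun p : Equiv.Perm (Fin 3) => p b) hid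
  · intro hq
    have hz : embQ h zQ ∈ ⁅CB, CB⁆ := by
      have e : ⁅F.hom xQ, F.hom yQ⁆ = F.hom zQ := by
        rw [← map_commutatorElement]
        exact congrArg F.hom (by decide +kernel)
      show F.hom zQ ∈ _
      rw [← e]
      exact Subgroup.commutator_mem_commutator (memQ xQ) (memQ yQ)
    have hρ : rot₁ h ∈ CB := by
      refine Subgroup.mem_centralizer_iff.mpr fun u hu => ?_
      rcases hu with rfl | rfl
      · exact (mul_inv_eq_iff_eq_mul.mp F.rot.2.2.2.2.2.2.1).symm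
      · refine (mul_inv_eq_iff_eq_mul.mp ?_).symm
        calc rot₁ h * embQ h (aQ * zQ) * (rot₁ h)⁻¹
            = (rot₁ h * embQ h aQ * (rot₁ h)⁻¹) * (rot₁ h * embQ h zQ * (rot₁ h)⁻¹) := by rw [F.mul]; group
          _ = embQ h (aQ * zQ) := by
              rw [F.rot.1, F.rot.2.2.1, ← F.mul]
              exact congrArg _ (by decide +kernel)
    have hxa : embQ h (xQ * aQ * zQ) ∈ ⁅CB, CB⁆ := by
      rw [← F.rot.2.2.1]
      have hxy : ⁅rot₁ h * F.hom xQ * (rot₁ h)⁻¹, rot₁ h * F.hom yQ * (rot₁ h)⁻¹⁆ ∈ ⁅CB, CB⁆ :=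
        Subgroup.commutator_mem_commutator (CB.mul_mem (CB.mul_mem hρ (memQ xQ)) (CB.inv_mem hρ))
          (CB.mul_mem (CB.mul_mem hρ (memQ yQ)) (CB.inv_mem hρ))
      have e : rot₁ h * ⁅F.hom xQ, F.hom yQ⁆ * (rot₁ h)⁻¹ =
          ⁅rot₁ h * F.hom xQ * (rot₁ h)⁻¹, rot₁ h * F.hom yQ * (rot₁ h)⁻¹⁆ := by
        simp only [commutatorElement_def]; group
      rw [← e, ← map_commutatorElement, show ⁅xQ, yQ⁆ = zQ by decide +kernel] at hxy
      exact hxy
    rcases (show ∀ q : Q, inB q → q = 1 ∨ q = zQ ∨ q = xQ * aQ * zQ ∨ q = xQ * aQ * zQ * zQ by decide +kernel)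
      q hq with rfl | rfl | rfl | rfl
    · have : embQ h (1 : Q) = 1 := map_one F.hom
      rw [this]; exact Subgroup.one_mem _
    · exact hz
    · exact hxa
    · rw [F.mul]; exact Subgroup.mul_mem _ hxa hz

end Facts

universe u

/-- Data from an isomorphism of the centralizer. -/
theorem exists_setup {G : Type u} [Group G] {n : ℕ} {h : 6 ≤ n} (F : Facts n h) (t : G) (ht : orderOf t = 2)
    (iso : ↥(Subgroup.centralizer ({t} : Set G)) ≃* Mn n) : Nonempty (Setup G) := by
  classical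
  have ht2 : t * t = 1 := by rw [← pow_two, ← ht, pow_orderOf_eq_one]
  have hC : ∀ g, g ∈ Subgroup.centralizer ({t} : Set G) ↔ g * t = t * g := fun g =>
    Subgroup.mem_centralizer_singleton_iff
  let f : Mn n →* G := (Subgroup.centralizer ({t} : Set G)).subtype.comp iso.symm.toMonoidHom
  have hf : Function.Injective f := Subtype.val_injective.comp iso.symm.injective
  have hfC : ∀ m, f m * t = t * f m := fun m => (hC _).mp (iso.symm m).2
  have hfs : ∀ g, g * t = t * g → ∃ m, f m = g := fun g hg =>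
    ⟨iso ⟨g, (hC g).mpr hg⟩, by simp [f]⟩
  have hfinv : ∀ (c v : Mn n) , f (c * v * c⁻¹) = f c * f v * (f c)⁻¹ := fun c v => by
    rw [map_mul, map_mul, map_inv]
  -- `t` is the generator of the first factor
  obtain ⟨m, hm⟩ := hfs t rfl
  have hmc : ∀ u : Mn n, m * u = u * m := fun u => hf (by rw [map_mul, map_mul, hm]; exact (hfC u).symm)
  have hmt : m = embQ h tQ := by
    obtain ⟨q, rfl⟩ := F.range_of_comm (hmc _) (hmc _)
    have hqa : rot₁ h * embQ h q * (rot₁ h)⁻¹ = embQ h q := by rw [← hmc]; group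
    have hqb : rot₂ h * embQ h q * (rot₂ h)⁻¹ = embQ h q := by rw [← hmc]; group
    have hcen : Cen q := fun p => F.hom_inj (by
      rw [map_mul, map_mul]
      exact (hmc (embQ h p)).symm)
    have e1 := fun {a b : Q} (ea : embQ h a = embQ h b) => F.hom_inj ea
    have h1 : embQ h (1 : Q) = 1 := map_one F.hom
    have ne1 : q ≠ 1 := by
      rintro rfl
      rw [h1, map_one] at hm
      rw [← hm, orderOf_one] at ht
      exact absurd ht (by norm_num)
    obtain ⟨r1, -, r3, -, r5, -, r7, r8⟩ := F.rot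
    have cm : ∀ (c : Mn n) (a b : Q), c * embQ h (a * b) * c⁻¹ = c * embQ h a * c⁻¹ * (c * embQ h b * c⁻¹) :=
      fun c a b => by rw [F.mul]; group
    rcases Setup.center_list q hcen with rfl | rfl | rfl | rfl | rfl | rfl | rfl | rfl
    · exact absurd rfl ne1
    · rw [r5] at hqb; exact absurd (e1 hqb) (by decide +kernel)
    · rfl
    · rw [cm, r8, r5, ← F.mul] at hqb; exact absurd (e1 hqb) (by decide +kernel)
    · rw [r1] at hqa; exact absurd (e1 hqa) (by decide +kernel)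
    · rw [cm, F.rot.2.2.2.1, r5, ← F.mul] at hqb; exact absurd (e1 hqb) (by decide +kernel)
    · rw [cm, r7, r1, ← F.mul] at hqa; exact absurd (e1 hqa) (by decide +kernel)
    · rw [cm, cm, r8, F.rot.2.2.2.1, r5, ← F.mul, ← F.mul] at hqb
      exact absurd (e1 hqb) (by decide +kernel)
  let e : Q →* G := f.comp F.hom
  have he : e tQ = t := by
    show f (embQ h tQ) = t
    rw [← hmt, hm]
  have het : ∀ q, e q * t = t * e q := fun q => hfC _
  have hcent : ∀ q : Q, Subgroup.centralizer ({t, e q} : Set G) =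
      (Subgroup.centralizer ({embQ h tQ, embQ h q} : Set (Mn n))).map f := by
    intro q
    ext g
    constructor
    · intro hg
      obtain ⟨u, rfl⟩ := hfs g (Subgroup.mem_centralizer_iff.mp hg t (by simp)).symm
      refine ⟨u, Subgroup.mem_centralizer_iff.mpr fun v hv => hf ?_, rfl⟩
      rw [map_mul, map_mul]
      rcases hv with rfl | rfl
      · rw [← hmt, hm]; exact Subgroup.mem_centralizer_iff.mp hg t (by simp)
      · exact Subgroup.mem_centralizer_iff.mp hg (e q) (by simp)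
    · rintro ⟨u, hu, rfl⟩
      refine Subgroup.mem_centralizer_iff.mpr fun v hv => ?_
      rcases hv with rfl | rfl
      · exact (hfC u).symm
      · show f (embQ h q) * f u = f u * f (embQ h q)
        rw [← map_mul, ← map_mul, Subgroup.mem_centralizer_iff.mp hu (embQ h q) (by simp)]
  let toM : G → Mn n := fun g => if hg : g * t = t * g then iso ⟨g, (hC g).mpr hg⟩ else 1
  have toM_f : ∀ u, toM (f u) = u := fun u => by
    simp only [toM, dif_pos (hfC u)]
    exact iso.apply_symm_apply u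
  have toM_mul : ∀ c d, c * t = t * c → d * t = t * d → toM (c * d) = toM c * toM d := by
    intro c d hc hd
    obtain ⟨u, rfl⟩ := hfs c hc
    obtain ⟨v, rfl⟩ := hfs d hd
    rw [← map_mul, toM_f, toM_f, toM_f]
  let ψ : Mn n → ZMod 2 := fun u => if Equiv.Perm.sign u.2 = 1 then 0 else 1
  have hψ : ∀ u v, ψ (u * v) = ψ u + ψ v := by
    intro u v
    simp only [ψ, Prod.snd_mul, map_mul]
    rcases Int.units_eq_one_or (Equiv.Perm.sign u.2) with k | k <;>
      rcases Int.units_eq_one_or (Equiv.Perm.sign v.2) with k' | k' <;> simp [k, k'] <;> decide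
  refine ⟨{
    base := { t := t, S := e.range, t_sq := ht2, t_mem := ⟨tQ, he⟩, S_comm := ?_, S_two := ?_,
              S_syl := ?_, S_self := ?_ }
    e := e, e_inj := hf.comp F.hom_inj, e_range := fun g => MonoidHom.mem_range, e_t := he
    ψ₁ := fun g => Multiplicative.toAdd (toM g).1, ψ₂ := fun g => ψ (toM g)
    ψ₁_mul := ?_, ψ₂_mul := ?_, ψ₁_e := ?_, ψ₂_e := ?_, inv_class := ?_, derA := ?_, derB := ?_
    centA := ?_, centB := ?_
    ρ₁ := f (rot₁ h), ρ₁_t := hfC _, ρ₁_a := ?_, ρ₁_x := ?_, ρ₁_z := ?_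
    ρ₂ := f (rot₂ h), ρ₂_t := hfC _, ρ₂_a := ?_, ρ₂_z := ?_, ρ₂_y := ?_ }⟩
  · rintro s ⟨q, rfl⟩; exact het q
  · refine IsPGroup.of_card (n := 5) ?_
    rw [← Nat.card_congr (MonoidHom.ofInjective (hf.comp F.hom_inj : Function.Injective e)).toEquiv, card_Q]
    norm_num
  · intro P hP hPt
    have hPle : IsPGroup 2 (P.comap f) := hP.comap_of_injective f hf
    obtain ⟨c, hc⟩ := F.sylow hPle
    refine ⟨f c, hfC c, fun p hp => ?_⟩
    obtain ⟨u, rfl⟩ := hfs p (hPt p hp)
    obtain ⟨q, hq⟩ := hc u hp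
    exact ⟨q, by show f (embQ h q) = _; rw [hq, hfinv]⟩
  · intro c hc hN
    obtain ⟨u, rfl⟩ := hfs c hc
    obtain ⟨q, hq⟩ := F.normal_self (m := u) fun q => by
      obtain ⟨p, hp⟩ := hN (e q) ⟨q, rfl⟩
      exact ⟨p, hf (by rw [hfinv]; exact hp.symm)⟩
    exact ⟨q, congrArg f hq⟩
  · intro c d hc hd
    simp only [toM_mul c d hc hd, Prod.fst_mul, toAdd_mul]
  · intro c d hc hd
    simp only [toM_mul c d hc hd, hψ]
  · intro q
    show Multiplicative.toAdd (toM (f (embQ h q))).1 = _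
    rw [toM_f, (F.val q).1]
    rfl
  · intro q
    show ψ (toM (f (embQ h q))) = _
    rw [toM_f]
    show (if _ then _ else _) = _
    by_cases hs : Equiv.Perm.sign (embQ h q).2 = 1
    · rw [if_pos hs, (F.val q).2.1.mp hs]
    · rw [if_neg hs]
      have := mt (F.val q).2.1.mpr hs
      exact ((show ∀ a : ZMod 2, a ≠ 0 → a = 1 by decide) _ this).symm
  · intro v hv hv2
    obtain ⟨u, rfl⟩ := hfs v hv
    have hu2 : u * u = 1 := hf (by rw [map_mul, map_one]; exact hv2)
    have hP : IsPGroup 2 (Subgroup.zpowers u) := by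
      rcases eq_or_ne u 1 with rfl | hne
      · refine IsPGroup.of_card (n := 0) ?_
        rw [Nat.card_zpowers, orderOf_one, pow_zero]
      · haveI : Fact (Nat.Prime 2) := ⟨Nat.prime_two⟩
        refine IsPGroup.of_card (n := 1) ?_
        rw [Nat.card_zpowers, pow_one]
        exact orderOf_eq_prime (by rw [pow_two, hu2]) hne
    obtain ⟨c, hc⟩ := F.sylow hP
    obtain ⟨q, hq⟩ := hc u (Subgroup.mem_zpowers u)
    have hq2 : q * q = 1 := F.hom_inj (by
      show embQ h (q * q) = F.hom 1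
      rw [F.mul, hq, map_one]
      calc c * u * c⁻¹ * (c * u * c⁻¹) = c * (u * u) * c⁻¹ := by group
        _ = 1 := by rw [hu2]; group)
    obtain ⟨d, -, hd⟩ := F.cls q hq2
    refine ⟨f (d⁻¹ * c), repQ q, hfC _,
      (show ∀ q : Q, q * q = 1 → Cen (repQ q) by decide +kernel) q hq2, ?_⟩
    show _ = f (embQ h (repQ q))
    rw [← hfinv]
    refine congrArg f ?_
    rw [show embQ h (repQ q) = d⁻¹ * (d * embQ h (repQ q) * d⁻¹) * d by group, hd, hq]
    group
  · intro q
    show f (embQ h q) ∈ ⁅Subgroup.centralizer ({t, e aQ} : Set G),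
      Subgroup.centralizer ({t, e aQ} : Set G)⁆ ↔ _
    rw [hcent aQ, ← Subgroup.map_commutator, Subgroup.mem_map_iff_mem hf]
    exact F.der_A q
  · intro q
    show f (embQ h q) ∈ ⁅Subgroup.centralizer ({t, e (aQ * zQ)} : Set G),
      Subgroup.centralizer ({t, e (aQ * zQ)} : Set G)⁆ ↔ _
    rw [hcent (aQ * zQ), ← Subgroup.map_commutator, Subgroup.mem_map_iff_mem hf]
    exact F.der_B q
  · intro c hc ha hz _
    obtain ⟨u, rfl⟩ := hfs c hc
    obtain ⟨q, hq⟩ := F.range_of_comm (m := u) (hf (by rw [map_mul, map_mul]; exact ha))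
      (hf (by rw [map_mul, map_mul]; exact hz))
    exact ⟨q, congrArg f hq⟩
  · intro c hc ha hz _
    obtain ⟨u, rfl⟩ := hfs c hc
    obtain ⟨q, hq⟩ := F.range_of_comm (m := u) (hf (by rw [map_mul, map_mul]; exact ha))
      (hf (by rw [map_mul, map_mul]; exact hz))
    exact ⟨q, congrArg f hq⟩
  · show f (rot₁ h) * f (embQ h aQ) * (f (rot₁ h))⁻¹ = f (embQ h xQ)
    rw [← hfinv, F.rot.1]
  · show f (rot₁ h) * f (embQ h xQ) * (f (rot₁ h))⁻¹ = f (embQ h (xQ * zQ))
    rw [← hfinv, F.rot.2.1]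
  · show f (rot₁ h) * f (embQ h zQ) * (f (rot₁ h))⁻¹ = f (embQ h (xQ * aQ * zQ))
    rw [← hfinv, F.rot.2.2.1]
  · show f (rot₂ h) * f (embQ h aQ) * (f (rot₂ h))⁻¹ = f (embQ h aQ)
    rw [← hfinv, F.rot.2.2.2.1]
  · show f (rot₂ h) * f (embQ h zQ) * (f (rot₂ h))⁻¹ = f (embQ h yQ)
    rw [← hfinv, F.rot.2.2.2.2.1]
  · show f (rot₂ h) * f (embQ h yQ) * (f (rot₂ h))⁻¹ = f (embQ h (yQ * zQ))
    rw [← hfinv, F.rot.2.2.2.2.2.1]

theorem index_two_six {G : Type u} [Group G] [Finite G] (t : G) (ht : orderOf t = 2)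
    (hC : Nonempty (↥(Subgroup.centralizer ({t} : Set G)) ≃* Mn 6)) : ∃ H : Subgroup G, H.index = 2 :=
  (exists_setup facts_six t ht hC.some).some.index_two

theorem index_two_seven {G : Type u} [Group G] [Finite G] (t : G) (ht : orderOf t = 2)
    (hC : Nonempty (↥(Subgroup.centralizer ({t} : Set G)) ≃* Mn 7)) : ∃ H : Subgroup G, H.index = 2 :=
  (exists_setup facts_seven t ht hC.some).some.index_two

end Cfsg.Agent.SixCentralizer
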